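import Mathlib

/-!
A 2-element centralizing a copy of `SL(2,5)` in a group with a unique involution has square one
(common core of S3359 piece E and S4291 piece N2).
-/

set_option autoImplicit false

namespace Cfsg.Agent.Lib.helper91

/-- the diagonal element of order four of `SL(2,5)` -/
def z2eU : Matrix.SpecialLinearGroup (Fin 2) (ZMod 5) := ⟨!![2, 0; 0, 3], by decide⟩

/-- a second element of order four of `SL(2,5)` -/
def z2eV : Matrix.SpecialLinearGroup (Fin 2) (ZMod 5) := ⟨!![0, 1; -1, 0], by decide⟩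

theorem z2eU_pow4 : z2eU ^ 4 = 1 := by decide

theorem z2eU_sq_ne : z2eU ^ 2 ≠ 1 := by decide

theorem z2eUV_ne : z2eU * z2eV ≠ z2eV * z2eU := by decide

/-- the core of piece E: an element of the centralizer with fourth power one has square one -/
theorem cent_four_elt_of_unique {G : Type*} [Group G]
    (hUI : ∀ s t : G, s ≠ 1 → t ≠ 1 → s ^ 2 = 1 → t ^ 2 = 1 → s = t)
    (S : Subgroup G) (e : S ≃* (Matrix.SpecialLinearGroup (Fin 2) (ZMod 5))) (t : G)
    (ht : t ∈ Subgroup.centralizer (S : Set G)) (ht4 : t ^ 4 = 1) : t ^ 2 = 1 := by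
  by_contra ht2
  set u : G := ((e.symm z2eU : S) : G) with hu
  set w : G := ((e.symm z2eV : S) : G) with hw
  have huS : u ∈ S := (e.symm z2eU).2
  have hwS : w ∈ S := (e.symm z2eV).2
  have hu4 : u ^ 4 = 1 := by
    have h1 : (e.symm z2eU) ^ 4 = 1 := by rw [← map_pow, z2eU_pow4, map_one]
    have h2 := congrArg (Subtype.val : S → G) h1
    simpa using h2
  have hu2 : u ^ 2 ≠ 1 := by
    intro hc
    have h1 : (e.symm z2eU) ^ 2 = 1 := by
      apply Subtype.ext
      simpa using hc
    rw [← map_pow] at h1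
    have h2 : z2eU ^ 2 = 1 := by
      have := congrArg e h1
      simpa using this
    exact z2eU_sq_ne h2
  have huw : u * w ≠ w * u := by
    intro hc
    have h1 : e.symm z2eU * e.symm z2eV = e.symm z2eV * e.symm z2eU := by
      apply Subtype.ext
      simpa using hc
    rw [← map_mul, ← map_mul] at h1
    exact z2eUV_ne (e.symm.injective h1)
  have hmem := Subgroup.mem_centralizer_iff.mp ht
  have htu : Commute t u := (hmem u huS).symm
  have htw : t * w = w * t := (hmem w hwS).symm
  -- the unique involution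
  have hinv : t ^ 2 = u ^ 2 := by
    refine hUI (t ^ 2) (u ^ 2) ht2 hu2 ?_ ?_
    · rw [← pow_mul]; exact ht4
    · rw [← pow_mul]; exact hu4
  have hq : (t * u ^ 3) ^ 2 = 1 := by
    rw [(htu.pow_right 3).mul_pow, hinv, ← pow_mul, ← pow_add]
    show u ^ 8 = 1
    have : u ^ 8 = (u ^ 4) ^ 2 := by rw [← pow_mul]
    rw [this, hu4, one_pow]
  by_cases hq1 : t * u ^ 3 = 1
  · -- t = u
    have htu' : t = u := by
      have h1 : t * u ^ 3 * u = u := by rw [hq1, one_mul]
      have h2 : t * u ^ 3 * u = t * u ^ 4 := by rw [mul_assoc, ← pow_succ]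
      rw [h2, hu4, mul_one] at h1
      exact h1
    rw [htu'] at htw
    exact huw htw
  · -- t * u^3 = u^2, so t * u = 1
    have h3 : t * u ^ 3 = u ^ 2 :=
      hUI (t * u ^ 3) (u ^ 2) hq1 hu2 hq
        (by rw [← pow_mul]; exact hu4)
    have h4 : t * u = 1 := by
      have h5 : t * u ^ 3 * u ^ 2 = u ^ 2 * u ^ 2 := by rw [h3]
      have h6 : t * u ^ 3 * u ^ 2 = t * u * u ^ 4 := by
        rw [mul_assoc, mul_assoc, ← pow_add, ← pow_succ']
      rw [h6, ← pow_add, hu4, mul_one] at h5
      exact h5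
    -- then u commutes with w
    have h7 : t = u⁻¹ := eq_inv_of_mul_eq_one_left h4
    rw [h7] at htw
    apply huw
    have h8 : u * (u⁻¹ * w) * u = u * (w * u⁻¹) * u := by rw [htw]
    simpa [mul_assoc] using h8.symm

/-- a 2-element of the centralizer has square one -/
theorem cent_two_elt_of_unique {G : Type*} [Group G]
    (hUI : ∀ s t : G, s ≠ 1 → t ≠ 1 → s ^ 2 = 1 → t ^ 2 = 1 → s = t)
    (S : Subgroup G) (e : S ≃* (Matrix.SpecialLinearGroup (Fin 2) (ZMod 5))) (t : G)
    (ht : t ∈ Subgroup.centralizer (S : Set G)) (k : ℕ) (htk : t ^ 2 ^ k = 1) : t ^ 2 = 1 := by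
  induction k generalizing t with
  | zero =>
    rw [pow_zero, pow_one] at htk
    rw [htk, one_pow]
  | succ k ih =>
    have h1 : (t ^ 2) ^ 2 ^ k = 1 := by
      rw [← pow_mul, ← pow_succ']
      exact htk
    have h2 : (t ^ 2) ^ 2 = 1 := ih (t ^ 2) (Subgroup.pow_mem _ ht 2) h1
    have h4 : t ^ 4 = 1 := by
      rw [← pow_mul] at h2
      exact h2
    exact cent_four_elt_of_unique hUI S e t ht h4

end Cfsg.Agent.Lib.helper91
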