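import Mathlib
import Cfsg.Agent.Lib.helper62.FrobExtract
import Cfsg.Agent.Lib.helper62.FrobSolvA
import Cfsg.Agent.Lib.helper62.LinRegQ8A
import Cfsg.Agent.Lib.helper91.Z2Core

/-!
Piece E of the split proof of S3359: a 2-element centralizing a copy of `SL(2,5)` in a group with a
fixed-point-free module has square one.
-/

set_option autoImplicit false

namespace Cfsg.Agent.Lib.helper91

open Cfsg.Agent.Lib.helper62.FrobExtract

universe u v

/-- PIECE E -/
theorem cent_two_elt {G : Type u} [Group G] [Finite G] (h : HasFpfMod.{u, v} G)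
    (S : Subgroup G) (hS : Nonempty (S ≃* (Matrix.SpecialLinearGroup (Fin 2) (ZMod 5)))) (t : G)
    (ht : t ∈ Subgroup.centralizer (S : Set G)) (k : ℕ) (htk : t ^ 2 ^ k = 1) : t ^ 2 = 1 := by
  obtain ⟨e⟩ := hS
  exact cent_two_elt_of_unique
    (fun s t hs ht hs2 ht2 =>
      Cfsg.Agent.Lib.helper62.FrobSolv.fpf_involution_unique h s t hs ht hs2 ht2) S e t ht k htk

end Cfsg.Agent.Lib.helper91
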