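import Mathlib
import Cfsg.Agent.Lib.helper62.FrobExtract
import Cfsg.Agent.Lib.helper62.FrobSolvA
import Cfsg.Agent.Lib.helper62.LinRegQ8A

/-!
Piece F of the split proof of S3359: the centralizer of a copy of `SL(2,5)` in a group with a
fixed-point-free module has order prime to 15.
-/

set_option autoImplicit false

namespace Cfsg.Agent.Lib.helper91

open Cfsg.Agent.Lib.helper62.FrobExtract

universe u v

/-- an element of order three of `SL(2,5)` -/
def z2fX : Matrix.SpecialLinearGroup (Fin 2) (ZMod 5) := ⟨!![0, -1; 1, -1], by decide⟩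

/-- an element of order five of `SL(2,5)` -/
def z2fY : Matrix.SpecialLinearGroup (Fin 2) (ZMod 5) := ⟨!![1, 1; 0, 1], by decide⟩

theorem z2fX_pow : z2fX ^ 3 = 1 := by decide

theorem z2fX_ne : z2fX ≠ 1 := by decide

theorem z2fY_pow : z2fY ^ 5 = 1 := by decide

theorem z2fY_ne : z2fY ≠ 1 := by decide

/-- in a group with a fixed-point-free module two commuting elements of the same prime order
generate the same cyclic subgroup -/
theorem fpf_mem_zpowers_of_comm {G : Type u} [Group G] [Finite G] (h : HasFpfMod.{u, v} G)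
    (r : ℕ) (hr : r.Prime) (x y : G) (hxy : x * y = y * x) (hx : x ^ r = 1) (hy : y ^ r = 1)
    (hx1 : x ≠ 1) (hy1 : y ≠ 1) : y ∈ Subgroup.zpowers x := by
  have hrF : Fact r.Prime := ⟨hr⟩
  by_contra hyx
  have ox : orderOf x = r := orderOf_eq_prime hx hx1
  have oy : orderOf y = r := orderOf_eq_prime hy hy1
  have cx : Nat.card (Subgroup.zpowers x) = r := by rw [Nat.card_zpowers, ox]
  have cy : Nat.card (Subgroup.zpowers y) = r := by rw [Nat.card_zpowers, oy]
  have hdisj : ∀ g : G, g ∈ Subgroup.zpowers x → g ∈ Subgroup.zpowers y → g = 1 := by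
    intro g hgx hgy
    by_contra hg1
    have hgr : g ^ r = 1 := by
      obtain ⟨j, rfl⟩ := Subgroup.mem_zpowers_iff.mp hgy
      rw [← zpow_natCast, ← zpow_mul, mul_comm, zpow_mul, zpow_natCast, hy, one_zpow]
    have og : orderOf g = r := orderOf_eq_prime hgr hg1
    have cg : Nat.card (Subgroup.zpowers g) = r := by rw [Nat.card_zpowers, og]
    have hle : Subgroup.zpowers g ≤ Subgroup.zpowers y := by
      rw [Subgroup.zpowers_le]; exact hgy
    have heq : Subgroup.zpowers g = Subgroup.zpowers y :=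
      Subgroup.eq_of_le_of_card_ge hle (by rw [cg, cy])
    have hyg : y ∈ Subgroup.zpowers g := by rw [heq]; exact Subgroup.mem_zpowers y
    have hle2 : Subgroup.zpowers g ≤ Subgroup.zpowers x := by
      rw [Subgroup.zpowers_le]; exact hgx
    exact hyx (hle2 hyg)
  have hcomm : ∀ (a : Subgroup.zpowers x) (b : Subgroup.zpowers y),
      Commute ((Subgroup.zpowers x).subtype a) ((Subgroup.zpowers y).subtype b) := by
    intro a b
    obtain ⟨i, hi⟩ := Subgroup.mem_zpowers_iff.mp a.2
    obtain ⟨j, hj⟩ := Subgroup.mem_zpowers_iff.mp b.2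
    show Commute (a : G) (b : G)
    rw [← hi, ← hj]
    exact (Commute.zpow_zpow (show Commute x y from hxy) i j)
  let f : Subgroup.zpowers x × Subgroup.zpowers y →* G :=
    MonoidHom.noncommCoprod (Subgroup.zpowers x).subtype (Subgroup.zpowers y).subtype hcomm
  have hf : Function.Injective f := by
    rw [injective_iff_map_eq_one]
    rintro ⟨a, b⟩ hab
    have h1 : (a : G) * (b : G) = 1 := hab
    have h2 : (a : G) = (b : G)⁻¹ := eq_inv_of_mul_eq_one_left h1
    have ha1 : (a : G) = 1 := hdisj _ a.2 (by rw [h2]; exact inv_mem b.2)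
    have hb1 : (b : G) = 1 := by
      rw [ha1, one_mul] at h1
      exact h1
    exact Prod.ext (Subtype.ext ha1) (Subtype.ext hb1)
  have hcop := HasFpfMod.coprime_of_prod (h.comap f hf)
  rw [cx, cy, Nat.coprime_self] at hcop
  exact hr.one_lt.ne' hcop

/-- a central element of `SL(2,5)` has square one -/
theorem sl25_central_sq (g : Matrix.SpecialLinearGroup (Fin 2) (ZMod 5))
    (hg : ∀ a : Matrix.SpecialLinearGroup (Fin 2) (ZMod 5), a * g = g * a) : g ^ 2 = 1 := by
  have hc : g ∈ Subgroup.center (Matrix.SpecialLinearGroup (Fin 2) (ZMod 5)) := by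
    rw [Subgroup.mem_center_iff]
    exact hg
  obtain ⟨c, hc2, hcg⟩ := Matrix.SpecialLinearGroup.mem_center_iff.mp hc
  apply Subtype.ext
  rw [Matrix.SpecialLinearGroup.coe_pow, ← hcg, ← map_pow]
  have : c ^ 2 = 1 := by simpa using hc2
  rw [this, map_one]
  rfl

/-- the prime by prime version of piece F -/
theorem cent_not_dvd {G : Type u} [Group G] [Finite G] (h : HasFpfMod.{u, v} G)
    (S : Subgroup G) (e : S ≃* (Matrix.SpecialLinearGroup (Fin 2) (ZMod 5)))
    (r : ℕ) (hr : r.Prime) (hr2 : r ≠ 2) (X : Matrix.SpecialLinearGroup (Fin 2) (ZMod 5))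
    (hX : X ^ r = 1) (hX1 : X ≠ 1) : ¬ r ∣ Nat.card (Subgroup.centralizer (S : Set G)) := by
  intro hdvd
  have hrF : Fact r.Prime := ⟨hr⟩
  obtain ⟨y, hy⟩ := exists_prime_orderOf_dvd_card' r hdvd
  have hy1 : (y : G) ≠ 1 := by
    intro hc
    have : y = 1 := Subtype.ext hc
    rw [this, orderOf_one] at hy
    exact hr.one_lt.ne hy
  have hyr : (y : G) ^ r = 1 := by
    have h1 : y ^ r = 1 := by rw [← hy]; exact pow_orderOf_eq_one y
    have h2 := congrArg (Subtype.val : Subgroup.centralizer (S : Set G) → G) h1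
    simpa using h2
  have hmem := Subgroup.mem_centralizer_iff.mp y.2
  set x : G := ((e.symm X : S) : G) with hx
  have hxS : x ∈ S := (e.symm X).2
  have hxr : x ^ r = 1 := by
    have h1 : (e.symm X) ^ r = 1 := by rw [← map_pow, hX, map_one]
    have h2 := congrArg (Subtype.val : S → G) h1
    simpa using h2
  have hx1 : x ≠ 1 := by
    intro hc
    have h1 : e.symm X = 1 := Subtype.ext hc
    have h2 : X = 1 := by
      have := congrArg e h1
      simpa using this
    exact hX1 h2
  have hyx : (y : G) ∈ Subgroup.zpowers x :=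
    fpf_mem_zpowers_of_comm h r hr x y (hmem x hxS) hxr hyr hx1 hy1
  have hyS : (y : G) ∈ S := (Subgroup.zpowers_le.mpr hxS) hyx
  have hsq : (e ⟨(y : G), hyS⟩) ^ 2 = 1 := by
    apply sl25_central_sq
    intro a
    obtain ⟨s, rfl⟩ := e.surjective a
    rw [← map_mul, ← map_mul]
    congr 1
    apply Subtype.ext
    exact hmem s.1 s.2
  have hy2 : (y : G) ^ 2 = 1 := by
    rw [← map_pow] at hsq
    have h1 : (⟨(y : G), hyS⟩ : S) ^ 2 = 1 := by
      have := congrArg e.symm hsq
      simpa using this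
    have h2 := congrArg (Subtype.val : S → G) h1
    simpa using h2
  have hoy : orderOf (y : G) = r := orderOf_eq_prime hyr hy1
  have hd : r ∣ 2 := by
    rw [← hoy]
    exact orderOf_dvd_of_pow_eq_one hy2
  have : r = 2 := (Nat.prime_dvd_prime_iff_eq hr Nat.prime_two).mp hd
  exact hr2 this

/-- PIECE F -/
theorem cent_coprime_15 {G : Type u} [Group G] [Finite G] (h : HasFpfMod.{u, v} G)
    (S : Subgroup G) (hS : Nonempty (S ≃* (Matrix.SpecialLinearGroup (Fin 2) (ZMod 5)))) :
    (Nat.card (Subgroup.centralizer (S : Set G))).Coprime 15 := by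
  obtain ⟨e⟩ := hS
  have h3 : (Nat.card (Subgroup.centralizer (S : Set G))).Coprime 3 :=
    ((Nat.Prime.coprime_iff_not_dvd Nat.prime_three).mpr
      (cent_not_dvd h S e 3 Nat.prime_three (by norm_num) z2fX z2fX_pow z2fX_ne)).symm
  have h5 : (Nat.card (Subgroup.centralizer (S : Set G))).Coprime 5 :=
    ((Nat.Prime.coprime_iff_not_dvd Nat.prime_five).mpr
      (cent_not_dvd h S e 5 Nat.prime_five (by norm_num) z2fY z2fY_pow z2fY_ne)).symm
  have : (15 : ℕ) = 3 * 5 := by norm_num
  rw [this]
  exact Nat.Coprime.mul_right h3 h5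

end Cfsg.Agent.Lib.helper91
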