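import Mathlib
import Cfsg.Agent.Lib.helper16.U34CDefs

set_option autoImplicit false

namespace Cfsg.Agent.Lib.helper16.U34C

open Cfsg
open scoped commutatorElement

/-- PIECE A4c (racer copy by helper91): `u` and `x` generate the whole group. -/
theorem helper91_gen_of_u {G : Type*} [Group G] {x : G} {Z : Subgroup G} (h1 : D1 x Z) (h2 : D2 x Z)
    {u : G} (hu : u ∈ commutator G) (huZ : u ∉ Z) : Subgroup.closure {u, x} = ⊤ := by
  obtain ⟨H, hH⟩ : ∃ H : Subgroup G, H = Subgroup.closure {u, x} := ⟨_, rfl⟩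
  rw [← hH]
  have huH : u ∈ H := by rw [hH]; exact Subgroup.subset_closure (by simp)
  have hxH : x ∈ H := by rw [hH]; exact Subgroup.subset_closure (by simp)
  have hZn : Z.Normal := ⟨fun z hz g => by
    have h := h1.Zc z hz g
    have e : g * z * g⁻¹ = z := by rw [← h]; group
    rw [e]; exact hz⟩
  have hK : ∀ k ∈ (H ⊓ commutator G) ⊔ Z, ∃ h ∈ H ⊓ commutator G, ∃ z ∈ Z, h * z = k := by
    intro k hk
    exact Subgroup.mem_sup_of_normal_right.mp hk
  have hinvK : ∀ k ∈ (H ⊓ commutator G) ⊔ Z, x * k * x⁻¹ ∈ (H ⊓ commutator G) ⊔ Z := by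
    intro k hk
    obtain ⟨h, hh, z, hz, rfl⟩ := hK k hk
    have e : x * (h * z) * x⁻¹ = (x * h * x⁻¹) * z := by
      have h' := h1.Zc z hz x⁻¹
      calc x * (h * z) * x⁻¹ = x * h * (z * x⁻¹) := by group
        _ = x * h * (x⁻¹ * z) := by rw [h']
        _ = x * h * x⁻¹ * z := by group
    rw [e]
    refine Subgroup.mul_mem _ (Subgroup.mem_sup_left ⟨?_, ?_⟩) (Subgroup.mem_sup_right hz)
    · exact H.mul_mem (H.mul_mem hxH hh.1) (H.inv_mem hxH)
    · exact (inferInstance : (commutator G).Normal).conj_mem h hh.2 x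
  have hKP : (H ⊓ commutator G) ⊔ Z = commutator G := by
    rcases h2.inv _ le_sup_right (sup_le inf_le_right h1.ZP) hinvK with h | h
    · exfalso; apply huZ; rw [← h]; exact Subgroup.mem_sup_left ⟨huH, hu⟩
    · exact h
  have hdec : ∀ g : G, ∃ h ∈ H, ∃ z ∈ Z, g = h * z := by
    intro g
    obtain ⟨p, hp, k, rfl⟩ := h1.gen g
    rw [← hKP] at hp
    obtain ⟨h, hh, z, hz, rfl⟩ := hK p hp
    refine ⟨h * x ^ k, H.mul_mem hh.1 (H.pow_mem hxH k), z, hz, ?_⟩
    have h' := h1.Zc z hz (x ^ k)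
    rw [mul_assoc, h', ← mul_assoc]
  have hcomm : commutator G ≤ H := by
    rw [commutator_eq_closure, Subgroup.closure_le]
    rintro _ ⟨g₁, g₂, rfl⟩
    obtain ⟨a, ha, z, hz, rfl⟩ := hdec g₁
    obtain ⟨b, hb, w, hw, rfl⟩ := hdec g₂
    have hz1 : z * (b * w) * z⁻¹ = b * w := by rw [h1.Zc z hz (b * w)]; group
    have hw1 : w * a⁻¹ * w⁻¹ = a⁻¹ := by rw [h1.Zc w hw a⁻¹]; group
    have e : ⁅a * z, b * w⁆ = ⁅a, b⁆ := by
      calc ⁅a * z, b * w⁆ = a * (z * (b * w) * z⁻¹) * a⁻¹ * (b * w)⁻¹ := by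
            rw [commutatorElement_def]; group
        _ = a * (b * w) * a⁻¹ * (b * w)⁻¹ := by rw [hz1]
        _ = a * b * (w * a⁻¹ * w⁻¹) * b⁻¹ := by group
        _ = ⁅a, b⁆ := by rw [hw1, commutatorElement_def]
    rw [SetLike.mem_coe, e, commutatorElement_def]
    exact H.mul_mem (H.mul_mem (H.mul_mem ha hb) (H.inv_mem ha)) (H.inv_mem hb)
  rw [eq_top_iff]
  intro g _
  obtain ⟨p, hp, k, rfl⟩ := h1.gen g
  exact H.mul_mem (hcomm hp) (H.pow_mem hxH k)

end Cfsg.Agent.Lib.helper16.U34C
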