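import Cfsg.Agent.Lib.helper26.S4409Defs

/-!
# S4409, piece AV1 (core): in the minimal setting a normal four-group `K` of `X` that is not
centralized by `H` is central in `X`.  The pieces KF, T1V, QZ enter as hypotheses.
-/

set_option autoImplicit false

namespace Cfsg.Agent.Lib.helper26.S4409

variable {G : Type*} [Group G]

theorem helper91_le_normalizer_of_conj_mem (H C : Subgroup G)
    (hconj : ∀ h ∈ H, ∀ c ∈ C, h * c * h⁻¹ ∈ C) : H ≤ Subgroup.normalizer (C : Set G) := by
  intro h hh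
  rw [Subgroup.mem_normalizer_iff]
  intro c
  constructor
  · exact hconj h hh c
  · intro hc
    have h1 := hconj h⁻¹ (H.inv_mem hh) _ hc
    simpa [mul_assoc] using h1

theorem helper91_av1_core [Finite G] (X H K : Subgroup G) (hM : MinSet X H) (hKX : K ≤ X)
    (hXK : X ≤ Subgroup.normalizer (K : Set G)) (hHK : H ≤ Subgroup.normalizer (K : Set G))
    (hV : IsV4 K) (g : G) (hg : g ∈ H) (hgc : g ∉ Subgroup.centralizer (K : Set G))
    (hkf : ∀ (Y : Subgroup G), IsPGroup 2 ↥Y → NoP Y → ∀ g : G,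
      g ∈ Subgroup.normalizer (Y : Set G) → Odd (orderOf g) →
      g ∉ Subgroup.centralizer (Y : Set G) → IsV4 Y ∨ IsQ8 Y)
    (ht1v : ∀ (X Q : Subgroup G), IsPGroup 2 ↥X → Q ≤ X →
      X ≤ Subgroup.normalizer (Q : Set G) → IsV4 Q →
      X ⊓ Subgroup.centralizer (Q : Set G) ≤ Q → NoP X)
    (hqz : ∀ (M : Subgroup G), IsQ8 M → ∃ z : G, z ∈ M ∧ z ≠ 1 ∧ z * z = 1 ∧
      (∀ m ∈ M, m * m = 1 → m = 1 ∨ m = z) ∧
      M ⊓ Subgroup.centralizer (M : Set G) = Subgroup.zpowers z ∧ Nat.card ↥M = 8) :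
    X ≤ Subgroup.centralizer (K : Set G) := by
  obtain ⟨hX2, hHX, hHodd, hmin, hnot⟩ := hM
  -- K is abelian
  have hKab : ∀ a ∈ K, ∀ b ∈ K, a * b = b * a := by
    intro a ha b hb
    have ha' : a⁻¹ = a := inv_eq_of_mul_eq_one_left (hV.2 a ha)
    have hb' : b⁻¹ = b := inv_eq_of_mul_eq_one_left (hV.2 b hb)
    have hab : (a * b)⁻¹ = a * b := inv_eq_of_mul_eq_one_left (hV.2 _ (K.mul_mem ha hb))
    calc a * b = (a * b)⁻¹ := hab.symm
      _ = b⁻¹ * a⁻¹ := mul_inv_rev a b
      _ = b * a := by rw [ha', hb']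
  have hKC : K ≤ Subgroup.centralizer (K : Set G) := by
    intro b hb
    rw [Subgroup.mem_centralizer_iff]
    intro a ha
    exact hKab a ha b hb
  set C : Subgroup G := X ⊓ Subgroup.centralizer (K : Set G) with hC
  have hKleC : K ≤ C := le_inf hKX hKC
  have hCX : C ≤ X := inf_le_left
  -- C is H-invariant
  have hHC : H ≤ Subgroup.normalizer (C : Set G) := by
    apply helper91_le_normalizer_of_conj_mem
    intro h hh c hc
    have hc1 : c ∈ X := hc.1
    have hc2 : c ∈ Subgroup.centralizer (K : Set G) := hc.2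
    refine Subgroup.mem_inf.mpr ⟨?_, ?_⟩
    · exact ((Subgroup.mem_normalizer_iff.mp (hHX hh)) c).mp hc1
    · rw [Subgroup.mem_centralizer_iff]
      intro k hk
      have hk' : h⁻¹ * k * h ∈ K := by
        have h1 := (Subgroup.mem_normalizer_iff.mp (hHK (H.inv_mem hh)) k).mp hk
        simpa using h1
      have h2 := (Subgroup.mem_centralizer_iff.mp hc2) _ hk'
      -- h2 : h⁻¹ * k * h * c = c * (h⁻¹ * k * h)
      calc k * (h * c * h⁻¹) = h * (h⁻¹ * k * h * c) * h⁻¹ := by group
        _ = h * (c * (h⁻¹ * k * h)) * h⁻¹ := by rw [h2]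
        _ = h * c * h⁻¹ * k := by group
  by_cases hCeq : C = X
  · rw [← hCeq]
    exact inf_le_right
  · exfalso
    have hNoP : NoP C := hmin C hCX hCeq hHC
    have hgN : g ∈ Subgroup.normalizer (C : Set G) := hHC hg
    have hgodd : Odd (orderOf g) := by
      have h1 : orderOf g ∣ Nat.card ↥H := Subgroup.orderOf_dvd_natCard H hg
      exact (Nat.Coprime.coprime_dvd_left h1 hHodd).symm.odd_of_left
    have hgnc : g ∉ Subgroup.centralizer (C : Set G) := fun hh =>
      hgc (Subgroup.centralizer_le hKleC hh)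
    have hC2 : IsPGroup 2 ↥C := hX2.to_le hCX
    rcases hkf C hC2 hNoP g hgN hgodd hgnc with hV4 | hQ8
    · -- C is a four-group, so C = K
      have hCK : K = C := by
        apply Subgroup.eq_of_le_of_card_ge hKleC
        rw [hV.1, hV4.1]
      apply hnot
      exact ht1v X K hX2 hKX hXK hV hCK.ge
    · obtain ⟨z, hzC, hz1, hzz, -, hcen, -⟩ := hqz C hQ8
      have hKz : K ≤ Subgroup.zpowers z := by
        rw [← hcen]
        refine le_inf hKleC ?_
        intro k hk
        rw [Subgroup.mem_centralizer_iff]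
        intro c hc
        exact ((Subgroup.mem_centralizer_iff.mp hc.2) k hk).symm
      have hoz : orderOf z = 2 := orderOf_eq_prime (by rw [pow_two]; exact hzz) hz1
      have h1 : Nat.card ↥K ≤ Nat.card ↥(Subgroup.zpowers z) := Subgroup.card_le_of_le hKz
      rw [hV.1, Nat.card_zpowers, hoz] at h1
      omega

end Cfsg.Agent.Lib.helper26.S4409
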