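import Mathlib
import Cfsg.Prelude.Def_TwoFusion
import Cfsg.Agent.Lib.helper6.S3313Defs

/-!
Piece N1a of the split proof of S3313: for an involution `x` of `Q` and an involution `w * k`
outside `Q`, the central involution `z` is a power of the product exactly when `x` and `k` do not
commute.
-/

set_option autoImplicit false

namespace Cfsg.Agent.Lib.helper91.S3313

open Cfsg.Agent.Lib.helper6.S3313

variable {G : Type*} [Group G] [Finite G]

/-- N1a -/
theorem mem_zpowers_iff {z : G} {Q K : Subgroup G} (h : QK z Q K)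
    (hE4 : ∀ a ∈ Q, a ^ 2 = 1 → a ≠ 1 → a ≠ z → ∀ v ∈ Q, v ^ 2 = 1 → v * a = a * v →
      v = 1 ∨ v = z ∨ v = a ∨ v = a * z)
    (k : G) (hk : k ∈ K) (hk2 : orderOf k = 2)
    (hC : ∀ q ∈ Q, k * q * k⁻¹ = q * z → q ^ 2 = z)
    (hE : ∀ w ∈ Q, (w * k) ^ 2 = 1 → ∀ a ∈ Q, a * k = k * a → w * a = a * w)
    (w : G) (hw : w ∈ Q) (hwk : (w * k) ^ 2 = 1) (x : G) (hx : x ∈ Q) (hx2 : orderOf x = 2) :
    z ∈ Subgroup.zpowers (x * (w * k)) ↔ x * k ≠ k * x := by
  have hx1 : x ≠ 1 := by
    intro h1
    rw [h1, orderOf_one] at hx2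
    omega
  have hk1 : k ≠ 1 := by
    intro h1
    rw [h1, orderOf_one] at hk2
    omega
  have hxx : x * x = 1 := by
    rw [← pow_two, ← hx2]
    exact pow_orderOf_eq_one x
  have hyy : w * k * (w * k) = 1 := by
    rw [← pow_two]
    exact hwk
  have hzz : z * z = 1 := by
    rw [← pow_two]
    exact h.z_sq
  have hzk : k * z = z * k := h.K_z k hk
  have hzx : x * z = z * x := h.z_comm x hx
  have hzw : w * z = z * w := h.z_comm w hw
  have hxz : x * k ≠ k * x → x ≠ z := by
    intro hnc hxz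
    apply hnc
    rw [hxz, hzk]
  constructor
  · intro hz hcomm
    have hwx : w * x = x * w := hE w hw hwk x hx hcomm
    have hxy : x * (w * k) * (x * (w * k)) = 1 := by
      calc x * (w * k) * (x * (w * k)) = x * w * (k * x) * (w * k) := by group
        _ = x * w * (x * k) * (w * k) := by rw [hcomm]
        _ = x * (w * x) * k * (w * k) := by group
        _ = x * (x * w) * k * (w * k) := by rw [hwx]
        _ = (x * x) * ((w * k) * (w * k)) := by group
        _ = 1 := by rw [hxx, hyy, one_mul]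
    obtain ⟨n, hn⟩ := Subgroup.mem_zpowers_iff.mp hz
    have hdec : (x * (w * k)) ^ n = (x * (w * k)) ^ (n % 2) := by
      conv_lhs => rw [← Int.mul_ediv_add_emod n 2]
      rw [zpow_add, zpow_mul, zpow_two, hxy, one_zpow, one_mul]
    rw [hdec] at hn
    rcases Int.emod_two_eq_zero_or_one n with h0 | h1
    · rw [h0, zpow_zero] at hn
      exact h.z_ne hn.symm
    · rw [h1, zpow_one] at hn
      apply hk1
      apply h.K_inf k hk
      have hkq : k = w⁻¹ * (x⁻¹ * z) := by
        calc k = w⁻¹ * (x⁻¹ * (x * (w * k))) := by group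
          _ = w⁻¹ * (x⁻¹ * z) := by rw [hn]
      rw [hkq]
      exact Q.mul_mem (Q.inv_mem hw) (Q.mul_mem (Q.inv_mem hx) h.z_mem)
  · intro hnc
    have hxnz : x ≠ z := hxz hnc
    have hu : k * x * k⁻¹ ∈ Q := h.K_norm k hk x hx
    have hx' : w * (k * x * k⁻¹) * w⁻¹ ∈ Q := Q.mul_mem (Q.mul_mem hw hu) (Q.inv_mem hw)
    have hx'sq : w * (k * x * k⁻¹) * w⁻¹ * (w * (k * x * k⁻¹) * w⁻¹) = 1 := by
      calc w * (k * x * k⁻¹) * w⁻¹ * (w * (k * x * k⁻¹) * w⁻¹)
          = w * (k * (x * x) * k⁻¹) * w⁻¹ := by group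
        _ = 1 := by rw [hxx]; group
    -- the conjugate of `x` by `k` is not in `{1, z, x, x z}`
    have hunot : ¬ (k * x * k⁻¹ = 1 ∨ k * x * k⁻¹ = z ∨ k * x * k⁻¹ = x ∨ k * x * k⁻¹ = x * z) := by
      rintro (h1 | h1 | h1 | h1)
      · apply hx1
        calc x = k⁻¹ * (k * x * k⁻¹) * k := by group
          _ = 1 := by rw [h1]; group
      · apply hxnz
        calc x = k⁻¹ * (k * x * k⁻¹) * k := by group
          _ = k⁻¹ * (z * k) := by rw [h1]; group
          _ = k⁻¹ * (k * z) := by rw [hzk]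
          _ = z := by group
      · apply hnc
        calc x * k = (k * x * k⁻¹) * k := by rw [h1]
          _ = k * x := by group
      · have h2 := hC x hx h1
        rw [pow_two, hxx] at h2
        exact h.z_ne h2.symm
    have hW : ∀ a : G, (a = 1 ∨ a = z ∨ a = x ∨ a = x * z) →
        (a * z = 1 ∨ a * z = z ∨ a * z = x ∨ a * z = x * z) := by
      rintro a (h1 | h1 | h1 | h1)
      · right; left
        rw [h1, one_mul]
      · left
        rw [h1, hzz]
      · right; right; right
        rw [h1]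
      · right; right; left
        rw [h1, mul_assoc, hzz, mul_one]
    -- the conjugate of `x` by `w * k` is not in `{1, z, x, x z}`
    have hx'not : ¬ (w * (k * x * k⁻¹) * w⁻¹ = 1 ∨ w * (k * x * k⁻¹) * w⁻¹ = z ∨
        w * (k * x * k⁻¹) * w⁻¹ = x ∨ w * (k * x * k⁻¹) * w⁻¹ = x * z) := by
      intro hmem
      apply hunot
      rcases h.comm w hw (k * x * k⁻¹) hu with hc | hc
      · have e1 : w * (k * x * k⁻¹) * w⁻¹ = k * x * k⁻¹ := by
          rw [hc]
          group
        rw [e1] at hmem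
        exact hmem
      · have e1 : w * (k * x * k⁻¹) * w⁻¹ = k * x * k⁻¹ * z := by
          rw [hc]
          calc k * x * k⁻¹ * w * z * w⁻¹ = k * x * k⁻¹ * (w * z) * w⁻¹ := by group
            _ = k * x * k⁻¹ * (z * w) * w⁻¹ := by rw [hzw]
            _ = k * x * k⁻¹ * z := by group
        have e2 : k * x * k⁻¹ = w * (k * x * k⁻¹) * w⁻¹ * z := by
          calc k * x * k⁻¹ = k * x * k⁻¹ * (z * z) := by rw [hzz, mul_one]
            _ = (k * x * k⁻¹ * z) * z := by group
            _ = w * (k * x * k⁻¹) * w⁻¹ * z := by rw [e1]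
        rw [e2]
        exact hW _ hmem
    have hnc' : ¬ (w * (k * x * k⁻¹) * w⁻¹ * x = x * (w * (k * x * k⁻¹) * w⁻¹)) := by
      intro hc
      exact hx'not (hE4 x hx (by rw [pow_two]; exact hxx) hx1 hxnz _ hx'
        (by rw [pow_two]; exact hx'sq) hc)
    have hcz : x * (w * (k * x * k⁻¹) * w⁻¹) = w * (k * x * k⁻¹) * w⁻¹ * x * z := by
      rcases h.comm x hx _ hx' with hc | hc
      · exact absurd hc.symm hnc'
      · exact hc
    have hsq2 : x * (w * k) * (x * (w * k)) = x * (w * (k * x * k⁻¹) * w⁻¹) := by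
      calc x * (w * k) * (x * (w * k))
          = x * (w * (k * x * k⁻¹) * w⁻¹) * ((w * k) * (w * k)) := by group
        _ = x * (w * (k * x * k⁻¹) * w⁻¹) := by rw [hyy, mul_one]
    have h4 : (x * (w * k)) ^ 4 = z := by
      have e1 : (x * (w * k)) ^ 4 =
          (x * (w * k) * (x * (w * k))) * (x * (w * k) * (x * (w * k))) := by
        rw [show (4 : ℕ) = 2 + 2 from rfl, pow_add, pow_two]
      rw [e1, hsq2]
      generalize w * (k * x * k⁻¹) * w⁻¹ = x' at hcz hx'sq hx'
      have hzx' : x' * z = z * x' := h.z_comm x' hx'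
      calc x * x' * (x * x') = (x' * x * z) * (x * x') := by rw [hcz]
        _ = x' * (x * z) * (x * x') := by group
        _ = x' * (z * x) * (x * x') := by rw [hzx]
        _ = x' * z * (x * x) * x' := by group
        _ = x' * z * x' := by rw [hxx, mul_one]
        _ = (x' * z) * x' := by group
        _ = (z * x') * x' := by rw [hzx']
        _ = z * (x' * x') := by group
        _ = z := by rw [hx'sq, mul_one]
    rw [← h4]
    exact Subgroup.npow_mem_zpowers _ 4

end Cfsg.Agent.Lib.helper91.S3313
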