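import Mathlib
import Cfsg.Prelude.Def_TwoFusion
import Cfsg.Agent.Lib.helper6.S3313Defs

/-!
Piece N1b of the split proof of S3313: the number of involutions of `Q` not commuting with an
involution `k` of `K`.
-/

set_option autoImplicit false

namespace Cfsg.Agent.Lib.helper91.S3313

open Cfsg.Agent.Lib.helper6.S3313

variable {G : Type*} [Group G] [Finite G]

/-- N1b -/
theorem card_noncomm {z : G} {Q K : Subgroup G} (h : QK z Q K)
    (h11 : Nat.card {x : G // x ∈ Q ∧ orderOf x = 2} = 11)
    (k : G) (hk : k ∈ K) (hk2 : orderOf k = 2) :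
    Nat.card {x : G // x ∈ Q ∧ orderOf x = 2 ∧ x * k ≠ k * x} = 8 := by
  classical
  have := Fintype.ofFinite G
  obtain ⟨h4, hsq⟩ := h.cent k hk hk2
  rw [Nat.card_eq_fintype_card, Fintype.card_subtype] at h11 h4 ⊢
  have hsplit := Finset.card_filter_add_card_filter_not
    (s := Finset.univ.filter (fun x : G => x ∈ Q ∧ orderOf x = 2)) (fun x : G => x * k = k * x)
  have hc : (Finset.univ.filter (fun x : G => x ∈ Q ∧ orderOf x = 2)).filter
      (fun x : G => x * k = k * x) =
      (Finset.univ.filter (fun q : G => q ∈ Q ∧ q * k = k * q)).erase 1 := by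
    ext x
    simp only [Finset.mem_filter, Finset.mem_univ, true_and, Finset.mem_erase]
    constructor
    · rintro ⟨⟨hxQ, hx2⟩, hxk⟩
      refine ⟨?_, hxQ, hxk⟩
      intro h1
      rw [h1, orderOf_one] at hx2
      omega
    · rintro ⟨hx1, hxQ, hxk⟩
      have : Fact (Nat.Prime 2) := ⟨Nat.prime_two⟩
      exact ⟨⟨hxQ, orderOf_eq_prime (hsq x hxQ hxk) hx1⟩, hxk⟩
  have h1mem : (1 : G) ∈ Finset.univ.filter (fun q : G => q ∈ Q ∧ q * k = k * q) := by
    simp only [Finset.mem_filter, Finset.mem_univ, true_and]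
    exact ⟨Q.one_mem, by rw [one_mul, mul_one]⟩
  have hn : (Finset.univ.filter (fun x : G => x ∈ Q ∧ orderOf x = 2)).filter
      (fun x : G => ¬ x * k = k * x) =
      Finset.univ.filter (fun x : G => x ∈ Q ∧ orderOf x = 2 ∧ x * k ≠ k * x) := by
    ext x
    simp only [Finset.mem_filter, Finset.mem_univ, true_and, ne_eq, and_assoc]
  rw [hc, Finset.card_erase_of_mem h1mem, h4, hn, h11] at hsplit
  omega

end Cfsg.Agent.Lib.helper91.S3313
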