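import Cfsg.Agent.Lib.helper91.S6eB5Score
import Cfsg.Agent.Lib.helper57.S6eB5C

/-!
# S6002, piece B5S (canonical statement): `helper91_s6_five_conj_core` with B5C plugged in.
-/

set_option autoImplicit false

namespace Cfsg.Agent.Lib.helper24

open Matrix Cfsg Cfsg.Geo

theorem s6_five_conj {F : Type*} [Field F] [Fintype F]
    (h4 : orderOf ((Fintype.card F : ℕ) : ZMod 5) = 4) (x h : GL S6I F) (hx : x ∈ spGL 2 F)
    (hh : h ∈ spGL 2 F) (hx5 : x ^ 5 = 1) (hx1 : x ≠ 1) (hh5 : h ^ 5 = 1) (hh1 : h ≠ 1) :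
    ∃ g ∈ spGL 2 F, ∃ k : ℕ, g⁻¹ * x * g = h ^ k :=
  helper91_s6_five_conj_core (fun a b ha hb ha1 hab => s6_five_comm h4 a b ha hb ha1 hab)
    x h hx hh hx5 hx1 hh5 hh1

end Cfsg.Agent.Lib.helper24
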