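import Cfsg.Agent.Lib.helper7.SixDefs
import Cfsg.Agent.Lib.helper91.Z2Core

/-!
Piece N2 of the split proof of S4291: a 2-element centralizing a copy of `SL(2,5)` in a group with
a unique involution has square one.
-/

set_option autoImplicit false

namespace Cfsg.Agent.Lib.helper91

open Cfsg.Agent.Lib.helper7.Six

-- PIECE N2
theorem sl25_cent_two {G : Type*} [Group G] [Finite G]
    (hUI : ∀ s t : G, s ≠ 1 → t ≠ 1 → s ^ 2 = 1 → t ^ 2 = 1 → s = t)
    (S : Subgroup G) (e : S ≃* Matrix.SpecialLinearGroup (Fin 2) (ZMod 5))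
    (c : G) (hc : c ∈ Subgroup.centralizer (S : Set G)) (k : ℕ) (hck : c ^ 2 ^ k = 1) :
    c ^ 2 = 1 :=
  cent_two_elt_of_unique hUI S e c hc k hck

end Cfsg.Agent.Lib.helper91
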