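import Cfsg.Agent.Lib.helper81.WTDefs
import Cfsg.Agent.Lib.helper31.WTAcore
import Cfsg.Agent.Lib.helper50.WTW0
import Cfsg.Agent.Lib.helper89.WTW1
import Cfsg.Agent.Lib.helper58.WTSV

set_option autoImplicit false

namespace Cfsg.Agent.Lib.helper81.WT

open scoped TensorProduct

universe u v w

/-- [A] (racer wrapper by helper91 around helper31's core) two T-fixed vectors with supports
inside / outside one T-orbit; uses W0, W1, SV -/
theorem helper91_exists_two {S : Type u} [Group S] [Finite S] {F : Type w} [Field F] [Finite F] [CharP F 2]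
    {V : Type v} [AddCommGroup V] [Module F V]
    (R : Representation F S V) (Y : Subgroup S) [Y.Normal] [Fintype ↥Y]
    (hYc : ∀ a b : ↥Y, a * b = b * a) [HasEnoughRootsOfUnity F (Monoid.exponent ↥Y)]
    (hodd : Odd (Fintype.card ↥Y))
    [Finite V] [Nontrivial V] (h0 : ∑ y : ↥Y, R (y : S) = 0) (T : Subgroup S) (hT : IsPGroup 2 ↥T)
    (Q : Subgroup S) (q : ℕ) (hq : q.Prime) (hq2 : q ≠ 2) (hQ : Nat.card ↥Q = q) (hcomm : ⁅Y, Q⁆ = Y) :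
    ∃ (μ₀ : ↥Y →* Fˣ) (v₁ v₂ : V), v₁ ≠ 0 ∧ v₂ ≠ 0 ∧ v₁ ∈ fixT R T ∧ v₂ ∈ fixT R T ∧
      supp R Y v₁ ⊆ orb Y T μ₀ ∧ Disjoint (supp R Y v₂) (orb Y T μ₀) :=
  h31_exists_two_core R Y T (weights_nonempty R Y hYc hodd)
    (fun μ₀ hμ₀ => weights_not_orbit R Y h0 T hT Q q hq hq2 hQ hcomm μ₀ hμ₀)
    (fun Θ hΘ μ₀ hμ₀ hμ₀' => exists_fixed_supp R Y hodd T hT Θ hΘ μ₀ hμ₀ hμ₀')

end Cfsg.Agent.Lib.helper81.WT
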