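import Cfsg.Agent.Lib.helper81.WTDefs
import Cfsg.Agent.Lib.helper32.WTPC

set_option autoImplicit false

namespace Cfsg.Agent.Lib.helper81.WT

open scoped TensorProduct

universe u v w

/-- [IND] (racer copy by helper91) vectors with disjoint supports are independent; uses PC -/
theorem helper91_indep_of_disjoint {S : Type u} [Group S] [Finite S] {F : Type w} [Field F] [Finite F] [CharP F 2]
    {V : Type v} [AddCommGroup V] [Module F V]
    (R : Representation F S V) (Y : Subgroup S) [Y.Normal] [Fintype ↥Y]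
    (hYc : ∀ a b : ↥Y, a * b = b * a) [HasEnoughRootsOfUnity F (Monoid.exponent ↥Y)]
    (hodd : Odd (Fintype.card ↥Y))
    (v₁ v₂ : V) (h₁ : v₁ ≠ 0) (h₂ : v₂ ≠ 0) (hd : Disjoint (supp R Y v₁) (supp R Y v₂))
    (a b : F) (h : a • v₁ + b • v₂ = 0) : a = 0 ∧ b = 0 := by
  have hex : ∀ v : V, v ≠ 0 → ∃ ν : ↥Y →* Fˣ, proj R Y ν v ≠ 0 := by
    intro v hv
    by_contra hcon
    push Not at hcon
    exact hv (helper32_proj_complete R Y hYc hodd v hcon)
  obtain ⟨ν₁, hν₁⟩ := hex v₁ h₁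
  obtain ⟨ν₂, hν₂⟩ := hex v₂ h₂
  have hν₁' : proj R Y ν₁ v₂ = 0 := by
    by_contra hne
    exact (Set.disjoint_left.mp hd) (show ν₁ ∈ supp R Y v₁ from hν₁) (show ν₁ ∈ supp R Y v₂ from hne)
  have hν₂' : proj R Y ν₂ v₁ = 0 := by
    by_contra hne
    exact (Set.disjoint_left.mp hd) (show ν₂ ∈ supp R Y v₁ from hne) (show ν₂ ∈ supp R Y v₂ from hν₂)
  constructor
  · have e := congrArg (proj R Y ν₁) h
    rw [map_add, map_smul, map_smul, hν₁', smul_zero, add_zero, map_zero] at e
    exact (smul_eq_zero.mp e).resolve_right hν₁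
  · have e := congrArg (proj R Y ν₂) h
    rw [map_add, map_smul, map_smul, hν₂', smul_zero, zero_add, map_zero] at e
    exact (smul_eq_zero.mp e).resolve_right hν₂

end Cfsg.Agent.Lib.helper81.WT
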