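import Cfsg.Agent.Lib.helper81.WTDefs
import Cfsg.Agent.Lib.helper91.WTA
import Cfsg.Agent.Lib.helper91.WTB1
import Cfsg.Agent.Lib.helper91.WTIND
import Cfsg.Agent.Lib.helper53.WTLA
import Cfsg.Agent.Lib.helper17.WTB3
import Cfsg.Agent.Lib.helper95.WTQF
import Cfsg.Agent.Lib.helper47.WTP1
import Cfsg.Agent.Lib.helper49.WTCNT1
import Cfsg.Agent.Lib.helper7.WTB4

set_option autoImplicit false

namespace Cfsg.Agent.Lib.helper81.WT

open scoped TensorProduct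

universe u v w

/-- [B] (racer copy by helper91) if the fixed space is at most 2-dimensional it is not Q-invariant. -/
theorem helper91_not_invariant {S : Type u} [Group S] [Finite S] {F : Type w} [Field F] [Finite F] [CharP F 2]
    {V : Type v} [AddCommGroup V] [Module F V]
    (R : Representation F S V) (Y : Subgroup S) [Y.Normal] [Fintype ↥Y]
    (hYc : ∀ a b : ↥Y, a * b = b * a) [HasEnoughRootsOfUnity F (Monoid.exponent ↥Y)]
    (hodd : Odd (Fintype.card ↥Y))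
    [Finite V] [Nontrivial V] (h0 : ∑ y : ↥Y, R (y : S) = 0) (T : Subgroup S) (hT : IsPGroup 2 ↥T)
    (Q : Subgroup S) (q : ℕ) (hq : q.Prime) (hq2 : q ≠ 2) (hQ : Nat.card ↥Q = q) (hcomm : ⁅Y, Q⁆ = Y)
    (w₁ w₂ : V) (hspan : ∀ v ∈ fixT R T, v ∈ Submodule.span F {w₁, w₂}) :
    ∃ x ∈ Q, ∃ v ∈ fixT R T, R x v ∉ fixT R T := by
  by_contra hcon
  have hinv : ∀ x ∈ Q, ∀ v ∈ fixT R T, R x v ∈ fixT R T := by
    intro x hx v hv
    by_contra h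
    exact hcon ⟨x, hx, v, hv, h⟩
  obtain ⟨μ₀, v₁, v₂, h₁, h₂, hf₁, hf₂, hs₁, hd₂⟩ :=
    helper91_exists_two R Y hYc hodd h0 T hT Q q hq hq2 hQ hcomm
  have hsupp₁ : supp R Y v₁ = orb Y T μ₀ := helper91_supp_eq_orb R Y hYc hodd T μ₀ v₁ h₁ hf₁ hs₁
  have hd : Disjoint (supp R Y v₁) (supp R Y v₂) := by rw [hsupp₁]; exact hd₂.symm
  have hind : ∀ a b : F, a • v₁ + b • v₂ = 0 → a = 0 ∧ b = 0 :=
    fun a b h => helper91_indep_of_disjoint R Y hYc hodd v₁ v₂ h₁ h₂ hd a b h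
  have hdich : ∀ g ∈ Q,
      cj Y g '' supp R Y v₁ = supp R Y v₁ ∨ cj Y g '' supp R Y v₁ = supp R Y v₂ := by
    intro g hg
    have hgv : R g v₁ ∈ fixT R T := hinv g hg v₁ hf₁
    obtain ⟨a, b, hab⟩ := span_pair_of_indep v₁ v₂ w₁ w₂ (hspan v₁ hf₁) (hspan v₂ hf₂) hind
      (R g v₁) (hspan _ hgv)
    exact image_dichotomy R Y hYc hodd v₁ v₂ h₁ h₂ hd g a b hab
  have hfree : ∀ x ∈ Q, x ≠ 1 → ∀ μ ∈ supp R Y v₁, cj Y x μ ≠ μ := by
    intro x hx hx1 μ hμ hfix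
    have hμ1 : μ = 1 := cj_fixed_eq_one Y Q q hq hq2 hQ hcomm x hx hx1 μ hfix
    have hp : proj R Y (1 : ↥Y →* Fˣ) = 0 := proj_one R Y h0
    apply hμ
    rw [hμ1, hp, LinearMap.zero_apply]
  obtain ⟨c, hc⟩ := card_orb Y T hT μ₀
  have hne : (supp R Y v₁).Nonempty := by
    rw [hsupp₁]; exact ⟨μ₀, 1, T.one_mem, (cj_one Y μ₀).symm⟩
  exact no_dichotomy Y Q q hq hq2 hQ (supp R Y v₁) (supp R Y v₂) hne hd c
    (by rw [hsupp₁]; exact hc) hfree hdich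

end Cfsg.Agent.Lib.helper81.WT
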