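import Cfsg.Agent.Lib.helper81.WTDefs
import Cfsg.Agent.Lib.helper57.WTASMVcore
import Cfsg.Agent.Lib.helper91.WTA
import Cfsg.Agent.Lib.helper91.WTIND
import Cfsg.Agent.Lib.helper91.WTB

set_option autoImplicit false

namespace Cfsg.Agent.Lib.helper81.WT

open scoped TensorProduct

universe u v w

/-- [ASMV] (racer wrapper by helper91 around helper57's core) V-side main theorem; uses A, IND, B -/
theorem helper91_main_V {S : Type u} [Group S] [Finite S] {F : Type w} [Field F] [Finite F] [CharP F 2]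
    {V : Type v} [AddCommGroup V] [Module F V]
    (R : Representation F S V) (Y : Subgroup S) [Y.Normal] [Fintype ↥Y]
    (hYc : ∀ a b : ↥Y, a * b = b * a) [HasEnoughRootsOfUnity F (Monoid.exponent ↥Y)]
    (hodd : Odd (Fintype.card ↥Y))
    [Finite V] [Nontrivial V] (h0 : ∑ y : ↥Y, R (y : S) = 0) (T : Subgroup S) (hT : IsPGroup 2 ↥T)
    (Q : Subgroup S) (q : ℕ) (hq : q.Prime) (hq2 : q ≠ 2) (hQ : Nat.card ↥Q = q) (hcomm : ⁅Y, Q⁆ = Y) :
    (¬ ∃ u : V, ∀ v ∈ fixT R T, v ∈ Submodule.span F {u}) ∧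
    (∀ w₁ w₂ : V, (∀ v ∈ fixT R T, v ∈ Submodule.span F {w₁, w₂}) →
      ∃ x ∈ Q, ∃ v ∈ fixT R T, R x v ∉ fixT R T) :=
  h57_main_V_core R Y T Q (helper91_exists_two R Y hYc hodd h0 T hT Q q hq hq2 hQ hcomm)
    (fun v₁ v₂ h₁ h₂ hd a b h => helper91_indep_of_disjoint R Y hYc hodd v₁ v₂ h₁ h₂ hd a b h)
    (fun w₁ w₂ hspan =>
      helper91_not_invariant R Y hYc hodd h0 T hT Q q hq hq2 hQ hcomm w₁ w₂ hspan)

end Cfsg.Agent.Lib.helper81.WT
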