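import Cfsg.Agent.Lib.helper91.MonsterQ2
import Cfsg.Agent.Lib.helper93.LeechQuad
import Cfsg.Agent.Lib.helper9.Co0Card
import Cfsg.Agent.Lib.helper93.Co0Simple2
import Cfsg.Agent.Lib.helper9.McLSimple

/-!
The further facts on the Leech lattice and its automorphism group used for the groups of Monster
type: the order of the first Conway group, the simplicity of the stabilizer of a minimal vector,
short vectors modulo twice the lattice, the negation map.
-/

set_option autoImplicit false
open Cfsg

namespace Cfsg.Agent.Lib.helper91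

theorem mqFacts2 : MQFacts2 where
  co1 := by
    have h1 := Subgroup.card_eq_card_quotient_mul_card_subgroup (Subgroup.center ↥Co0)
    rw [Cfsg.Agent.Lib.helper9.card_Co0, Cfsg.Agent.Lib.helper93.card_center_Co0] at h1
    have h2 : Nat.card Spor.Co1 = 4157776806543360000 := by
      show Nat.card (↥Co0 ⧸ Subgroup.center ↥Co0) = 4157776806543360000
      omega
    rw [h2]
    norm_num
  co2 := by
    intro v hv N hN hp
    obtain ⟨hsimple, hcard⟩ := Cfsg.Agent.Lib.helper93.Co2_of_McL Cfsg.Agent.Lib.helper9.isMcL_of_pair v hv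
    have := hsimple
    rcases hN.eq_bot_or_eq_top with h | h
    · exact h
    · exfalso
      rw [h] at hp
      have hp' : IsPGroup 2 (MulAction.stabilizer ↥Co0 v) := hp.of_equiv Subgroup.topEquiv
      have hfin : Finite (MulAction.stabilizer ↥Co0 v) :=
        Nat.finite_of_card_ne_zero (by rw [hcard]; norm_num)
      have : Fact (Nat.Prime 2) := ⟨Nat.prime_two⟩
      obtain ⟨n, hn⟩ := IsPGroup.iff_card.mp hp'
      rw [hcard] at hn
      have h3 : (3 : ℕ) ∣ 2 ^ n := by
        rw [← hn]
        norm_num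
      have h4 := Nat.Prime.dvd_of_dvd_pow Nat.prime_three h3
      omega
  short := by
    intro v w hv hw hu
    obtain ⟨u, hu⟩ := hu
    have hu' : (v : GolayPt → ℤ) + (w : GolayPt → ℤ) = (u : GolayPt → ℤ) + (u : GolayPt → ℤ) :=
      congrArg Subtype.val hu
    have hc : ∃ z ∈ leechLattice, (v : GolayPt → ℤ) - (w : GolayPt → ℤ) = 2 • z := by
      refine ⟨(u : GolayPt → ℤ) - (w : GolayPt → ℤ), leechLattice.sub_mem u.2 w.2, ?_⟩
      rw [two_nsmul]
      have : (v : GolayPt → ℤ) = (u : GolayPt → ℤ) + (u : GolayPt → ℤ) - (w : GolayPt → ℤ) := by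
        rw [← hu']
        abel
      rw [this]
      abel
    have h1 := (Cfsg.Agent.Lib.helper93.leech_mod_two_short (v : GolayPt → ℤ) (w : GolayPt → ℤ)
      v.2 w.2 (by rw [hv]; norm_num) (by rw [hw]; norm_num) hc).2 (by rw [hv]; norm_num)
    rcases h1 with h | h
    · exact Or.inl (Subtype.ext h)
    · exact Or.inr (Subtype.ext h)
  neg := ⟨Cfsg.Agent.Lib.helper93.negCo, Cfsg.Agent.Lib.helper93.negCo_mem_center,
    Cfsg.Agent.Lib.helper93.negCo_apply⟩
  cen := Cfsg.Agent.Lib.helper93.card_center_Co0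
  dbl64 := by
    intro w h
    have h1 : sqNorm ((w + w : ↥leechLattice) : GolayPt → ℤ) = 4 * sqNorm (w : GolayPt → ℤ) := by
      show sqNorm ((w : GolayPt → ℤ) + (w : GolayPt → ℤ)) = 4 * sqNorm (w : GolayPt → ℤ)
      unfold sqNorm
      rw [Finset.mul_sum]
      refine Finset.sum_congr rfl fun i _ => ?_
      simp only [Pi.add_apply]
      ring
    rw [h1] at h
    have hne : (w : GolayPt → ℤ) ≠ 0 := by
      intro h0
      rw [h0] at h
      have : sqNorm (0 : GolayPt → ℤ) = 0 := by
        unfold sqNorm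
        simp
      omega
    have h2 := Cfsg.Agent.Lib.helper93.leech_min_sqNorm (w : GolayPt → ℤ) w.2 hne
    omega

end Cfsg.Agent.Lib.helper91
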