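import Cfsg.Agent.Lib.helper91.MonsterQ
import Cfsg.Agent.Lib.helper93.LeechQuad

/-!
The facts on the Leech lattice used for the groups of Monster type, from the library of helper93.
-/

set_option autoImplicit false
open Cfsg

namespace Cfsg.Agent.Lib.helper91

theorem mqFacts : MQFacts where
  quad := fun Qf h1 h2 h3 h4 v => Cfsg.Agent.Lib.helper93.quad_unique Qf h1 h2 h3 h4 v
  red := by
    intro x
    obtain ⟨y, w, h1, h2, -⟩ := Cfsg.Agent.Lib.helper93.leech_red x
    exact ⟨y, w, h1, h2⟩
  t32 := by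
    intro x y hx hy
    obtain ⟨g, hg⟩ := Cfsg.Agent.S0400.result x y hx hy
    exact ⟨g, hg⟩
  t64 := fun x y hx hy => Cfsg.Agent.Lib.helper93.trans64 x y hx hy

end Cfsg.Agent.Lib.helper91
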