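import Cfsg.Agent.Lib.helper91.MonsterQ4Facts
import Cfsg.Agent.Lib.helper91.MonsterQ2Facts
import Cfsg.Agent.Lib.helper91.MonsterQFacts
import Cfsg.Agent.S5411
import Cfsg.Agent.Lib.helper93.BMLeech

/-!
Groups of Monster type: the involution `z` is not weakly closed in `Q` with respect to the
centralizer of an involution `t` of `Q` that is not conjugate to `z`.
-/

set_option autoImplicit false
open Cfsg

namespace Cfsg.Agent.Lib.helper91

open Cfsg.Agent.Lib.helper9 Cfsg.Agent.Lib.helper93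

/-- a 2-subgroup of the automorphism group of the lattice that contains the centre, lies in the
stabilizer of the class of `8 e_∞` and is normalized by it, is the centre or the group of sign
changes -/
theorem mq5_M_clause : ∀ M : Subgroup ↥Co0,
    (∀ m ∈ M, ∃ u : ↥leechLattice, E none + m.1 (E none) = u + u) → IsPGroup 2 M →
    Subgroup.center ↥Co0 ≤ M →
    (∀ k : ↥Co0, (∃ u : ↥leechLattice, E none + k.1 (E none) = u + u) → ∀ m ∈ M, k * m * k⁻¹ ∈ M) →
    M = Subgroup.center ↥Co0 ∨ M = mq4A := by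
  intro M hMcls hM2 hMcen hMnorm
  have hmono : ∀ m ∈ M, ∃ (σ : ↥M24) (w : ↥golayCode), m = monoCo σ w :=
    fun m hm => mq3_mono_of_class none m (hMcls m hm)
  -- the permutation parts
  let H : Subgroup (Equiv.Perm GolayPt) :=
    { carrier := {σ | ∃ m ∈ M, MqPP m σ}
      one_mem' := ⟨1, M.one_mem, mqPP_one⟩
      mul_mem' := by
        rintro a b ⟨m, hm, h⟩ ⟨m', hm', h'⟩
        exact ⟨m * m', M.mul_mem hm hm', mqPP_mul _ _ _ _ h h'⟩
      inv_mem' := by
        rintro a ⟨m, hm, h⟩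
        exact ⟨m⁻¹, M.inv_mem hm, mqPP_inv _ _ h⟩ }
  have hHmem : ∀ σ : Equiv.Perm GolayPt, σ ∈ H ↔ ∃ m ∈ M, MqPP m σ := fun σ => Iff.rfl
  have hH2 : IsPGroup 2 (H.subgroupOf M24) := by
    intro x
    obtain ⟨m, hm, h⟩ := (hHmem _).mp (Subgroup.mem_subgroupOf.mp x.2)
    obtain ⟨k, hk⟩ := hM2 ⟨m, hm⟩
    refine ⟨k, ?_⟩
    have hk' : m ^ (2 ^ k) = 1 := by
      have := congrArg Subtype.val hk
      simpa using this
    have h1 := mqPP_pow m _ h (2 ^ k)
    rw [hk'] at h1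
    have h2 := mqPP_unique _ _ _ h1 mqPP_one
    apply Subtype.ext
    apply Subtype.ext
    simpa using h2
  have hHn : (H.subgroupOf M24).Normal := by
    constructor
    intro x hx τ
    obtain ⟨m, hm, h⟩ := (hHmem _).mp (Subgroup.mem_subgroupOf.mp hx)
    apply Subgroup.mem_subgroupOf.mpr
    apply (hHmem _).mpr
    refine ⟨monoCo τ 0 * m * (monoCo τ 0)⁻¹,
      hMnorm _ (mq3_mono_class none τ 0) m hm, ?_⟩
    exact mqPP_mul _ _ _ _ (mqPP_mul _ _ _ _ (mqPP_mono τ 0) h) (mqPP_inv _ _ (mqPP_mono τ 0))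
  have hHbot : H.subgroupOf M24 = ⊥ := by
    have hsimple := m24_simple
    rcases hHn.eq_bot_or_eq_top with h | h
    · exact h
    · exfalso
      rw [h] at hH2
      have hp' : IsPGroup 2 ↥M24 := hH2.of_equiv Subgroup.topEquiv
      have hfin : Finite ↥M24 := Nat.finite_of_card_ne_zero (by rw [card_M24]; norm_num)
      have : Fact (Nat.Prime 2) := ⟨Nat.prime_two⟩
      obtain ⟨n, hn⟩ := IsPGroup.iff_card.mp hp'
      rw [card_M24] at hn
      have h3 : (3 : ℕ) ∣ 2 ^ n := by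
        rw [← hn]
        norm_num
      have h4 := Nat.Prime.dvd_of_dvd_pow Nat.prime_three h3
      omega
  -- the elements of `M` are sign changes
  have hsgn : ∀ m ∈ M, ∃ w : ↥golayCode, m = monoCo 1 w := by
    intro m hm
    obtain ⟨σ, w, rfl⟩ := hmono m hm
    have hσH : σ ∈ H.subgroupOf M24 :=
      Subgroup.mem_subgroupOf.mpr ((hHmem _).mpr ⟨_, hm, mqPP_mono σ w⟩)
    rw [hHbot, Subgroup.mem_bot] at hσH
    exact ⟨w, by rw [hσH]⟩
  -- the code words of the sign changes in `M`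
  let W : Submodule (ZMod 2) GV :=
    { carrier := {w | ∃ hw : w ∈ golayCode, monoCo 1 ⟨w, hw⟩ ∈ M}
      zero_mem' := ⟨golayCode.zero_mem, by
        have e : (⟨0, golayCode.zero_mem⟩ : ↥golayCode) = 0 := rfl
        rw [e, mq3_sgn_zero]
        exact M.one_mem⟩
      add_mem' := by
        rintro a b ⟨ha, hma⟩ ⟨hb, hmb⟩
        refine ⟨golayCode.add_mem ha hb, ?_⟩
        have h1 := M.mul_mem hma hmb
        rw [mq3_sgn_mul] at h1
        exact h1
      smul_mem' := by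
        rintro c w ⟨hw, hm⟩
        rcases zmod2_cases' c with hc | hc
        · rw [hc, zero_smul]
          refine ⟨golayCode.zero_mem, ?_⟩
          have e : (⟨0, golayCode.zero_mem⟩ : ↥golayCode) = 0 := rfl
          rw [e, mq3_sgn_zero]
          exact M.one_mem
        · rw [hc, one_smul]
          exact ⟨hw, hm⟩ }
  have hWmem : ∀ w : GV, w ∈ W ↔ ∃ hw : w ∈ golayCode, monoCo 1 ⟨w, hw⟩ ∈ M := fun w => Iff.rfl
  have hWle : W ≤ golayCode := fun w hw => ((hWmem w).mp hw).1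
  have hMW : ∀ m ∈ M, ∃ w : ↥golayCode, m = monoCo 1 w ∧ w.1 ∈ W := by
    intro m hm
    obtain ⟨w, rfl⟩ := hsgn m hm
    exact ⟨w, rfl, (hWmem _).mpr ⟨w.2, hm⟩⟩
  have hInv : Cfsg.Agent.Lib.helper93.Inv W := by
    intro σ hσ w hw
    obtain ⟨hwG, hm⟩ := (hWmem w).mp hw
    have hcM := hMnorm _ (mq3_mono_class none ⟨σ, hσ⟩ 0) _ hm
    obtain ⟨w'', hw''⟩ := hsgn _ hcM
    have hk : ∀ p : GolayPt, (monoCo ⟨σ, hσ⟩ 0).1 (E p) = E (σ p) := by
      intro p
      rw [mq3_mono_E]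
      have h0 : (0 : ↥golayCode).1 (σ p) = 0 := rfl
      rw [if_pos h0]
    have hkinv : ∀ q : GolayPt, ((monoCo ⟨σ, hσ⟩ 0)⁻¹).1 (E q) = E (σ.symm q) := by
      intro q
      have h1 := hk (σ.symm q)
      rw [Equiv.apply_symm_apply] at h1
      rw [← h1]
      exact (monoCo ⟨σ, hσ⟩ 0).1.symm_apply_apply _
    have hval : ∀ q : GolayPt, w''.1 q = w (σ.symm q) := by
      intro q
      apply mq3_zmod2_eq
      have h1 : (monoCo ⟨σ, hσ⟩ 0 * monoCo 1 ⟨w, hwG⟩ * (monoCo ⟨σ, hσ⟩ 0)⁻¹).1 (E q) =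
          (monoCo 1 w'').1 (E q) := by rw [hw'']
      rw [co_mul_apply, co_mul_apply, hkinv, mq3_sgn_E, mq3_sgn_E] at h1
      have hwq : (⟨w, hwG⟩ : ↥golayCode).1 (σ.symm q) = w (σ.symm q) := rfl
      rw [hwq] at h1
      by_cases h2 : w (σ.symm q) = 0 <;> by_cases h3 : w''.1 q = 0
      · exact ⟨fun _ => h2, fun _ => h3⟩
      · exfalso
        rw [if_pos h2, if_neg h3, hk, Equiv.apply_symm_apply] at h1
        exact neg_E_ne q h1.symm
      · exfalso
        rw [if_neg h2, if_pos h3, co_map_neg, hk, Equiv.apply_symm_apply] at h1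
        exact neg_E_ne q h1
      · exact ⟨fun h => absurd h h3, fun h => absurd h h2⟩
    have hact : act σ w = w''.1 := by
      funext q
      rw [act_apply, hval]
    apply (hWmem _).mpr
    rw [hact]
    refine ⟨w''.2, ?_⟩
    have e : (⟨w''.1, w''.2⟩ : ↥golayCode) = w'' := rfl
    rw [e, ← hw'']
    exact hcM
  have hcenter : (∀ w ∈ W, w = 0 ∨ w = 1) → M = Subgroup.center ↥Co0 := by
    intro h01
    apply le_antisymm _ hMcen
    intro m hm
    obtain ⟨w, rfl, hwW⟩ := hMW m hm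
    rcases h01 _ hwW with h | h
    · have e : w = 0 := Subtype.ext h
      rw [e, mq3_sgn_zero]
      exact Subgroup.one_mem _
    · have e : w = ⟨1, one_mem_golayCode⟩ := Subtype.ext h
      rw [e, mq3_sgn_neg]
      exact negCo_mem_center
  rcases invariant_subspaces hInv with h | h | h | h | h
  · left
    apply hcenter
    intro w hw
    rw [h, Submodule.mem_bot] at hw
    exact Or.inl hw
  · left
    apply hcenter
    intro w hw
    rw [h] at hw
    obtain ⟨a, ha⟩ := Submodule.mem_span_singleton.mp hw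
    rcases zmod2_cases' a with hc | hc
    · left
      rw [← ha, hc, zero_smul]
    · right
      rw [← ha, hc, one_smul]
      rfl
  · right
    have hall : ∀ w : ↥golayCode, monoCo 1 w ∈ M := by
      intro w
      have hw : w.1 ∈ W := by
        rw [h]
        exact w.2
      exact ((hWmem _).mp hw).2
    apply le_antisymm
    · intro m hm
      obtain ⟨w, rfl⟩ := hsgn m hm
      exact ⟨w, rfl⟩
    · rintro _ ⟨w, rfl⟩
      exact hall w
  · exfalso
    have h1 : dec 8388609 ∈ (W : Set GV) := by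
      rw [h]
      show ∑ p, dec 8388609 p = 0
      rw [sum_dec, mq3_pc_chk]
      decide
    have h2 := hWle h1
    rw [dec_mem_golayCode_iff, mq3_syn_chk] at h2
    exact Bool.false_ne_true h2
  · exfalso
    have h1 : dec 8388609 ∈ W := by
      rw [h]
      exact Submodule.mem_top
    have h2 := hWle h1
    rw [dec_mem_golayCode_iff, mq3_syn_chk] at h2
    exact Bool.false_ne_true h2

section nwc

variable {G : Type*} [Group G] [Finite G] {z : G}
  (Q : Subgroup (Subgroup.centralizer ({z} : Set G))) [Q.Normal]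
  (e : (Subgroup.centralizer ({z} : Set G)) ⧸ Q ≃* Spor.Co1)
  (ψ : leechLattice → Q ⧸ Subgroup.center Q)

/-- two elements of `Q` commute when the inner product of vectors representing them is a multiple
of 16 (here for a vector of norm 64 given by its norm) -/
theorem mq5_pair (F : MQFacts) (hS : IsExtraspecialCentralizerSetting z Q 12)
    (hψ : IsLeechModTwoIso Q e ψ) (v y0 : ↥leechLattice) (q s : Q)
    (hq : ψ v = QuotientGroup.mk q) (hs : ψ y0 = QuotientGroup.mk s)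
    (hd : (16 : ℤ) ∣ dotInt (v : GolayPt → ℤ) (y0 : GolayPt → ℤ)) :
    s * q = q * s := by
  have hZ : Nat.card (Subgroup.center Q) = 2 := hS.2.2.1.2
  have hcard := mq_card_ne Q hS
  have hsq := mq_sq_mem Q e ψ hψ
  have hcm := mq_comm_mem Q e ψ hψ
  have h1 := mqChi_sq_mul hZ hsq hcm q s
  have hvy : ψ (v + y0) = QuotientGroup.mk (q * s) := by
    rw [hψ.1, hq, hs]
    rfl
  have c1 := mq_chi_eq Q e ψ F hZ hcard hψ (v + y0) (q * s) hvy
  have c2 := mq_chi_eq Q e ψ F hZ hcard hψ v q hq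
  have c3 := mq_chi_eq Q e ψ F hZ hcard hψ y0 s hs
  obtain ⟨a, ha⟩ := leech_even (v : GolayPt → ℤ) v.2
  obtain ⟨b, hb⟩ := leech_even (y0 : GolayPt → ℤ) y0.2
  obtain ⟨d, hd⟩ := hd
  have e1 : sqNorm ((v + y0 : ↥leechLattice) : GolayPt → ℤ) / 16 = a + b + 2 * d := by
    have : ((v + y0 : ↥leechLattice) : GolayPt → ℤ) = (v : GolayPt → ℤ) + (y0 : GolayPt → ℤ) := rfl
    rw [this, sqNorm_add, ha, hb, hd]
    omega
  have e2 : sqNorm (v : GolayPt → ℤ) / 16 = a := by
    rw [ha]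
    omega
  have e3 : sqNorm (y0 : GolayPt → ℤ) / 16 = b := by
    rw [hb]
    omega
  rw [c1, c2, c3, e1, e2, e3] at h1
  push_cast at h1
  have h2 : (2 : ZMod 2) = 0 := by decide
  have h3 : mqChi (s * q * s⁻¹ * q⁻¹) = 0 := by
    linear_combination (-1 : ZMod 2) * h1 + (d : ZMod 2) * h2
  have h4 := (mqChi_eq_zero_iff _).mp h3
  have h5 : s * q * s⁻¹ = q := mul_inv_eq_one.mp h4
  exact mul_inv_eq_iff_eq_mul.mp h5

/-- `z` is not weakly closed in `Q` with respect to the centralizer of an involution `t` of `Q`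
that is not conjugate to `z`; the facts on the lattice as a hypothesis -/
theorem bm_nwc_of
    (hL : ∃ (w : ↥golayCode) (v s0 : ↥leechLattice),
      (16 : ℤ) ∣ dotInt (v : GolayPt → ℤ) ((E none : ↥leechLattice) : GolayPt → ℤ) ∧
      sqNorm (s0 : GolayPt → ℤ) = 32 ∧ (monoCo 1 w).1 v + v = s0)
    (hM : Cfsg.IsOfMonsterType z Q) (t : G)
    (htQ : ∃ htc : t ∈ Subgroup.centralizer ({z} : Set G),
      (⟨t, htc⟩ : Subgroup.centralizer ({z} : Set G)) ∈ Q)
    (ht2 : orderOf t = 2) (ht : ¬ IsConj z t) :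
    ∃ k : G, k * t = t * k ∧ (∃ hc : k * z * k⁻¹ ∈ Subgroup.centralizer ({z} : Set G),
      (⟨k * z * k⁻¹, hc⟩ : Subgroup.centralizer ({z} : Set G)) ∈ Q) ∧ k * z * k⁻¹ ≠ z := by
  have F := mqFacts
  have F2 := mqFacts2
  obtain ⟨hS, e, ψ, hψ⟩ := id hM
  obtain ⟨zQ, hzQ, hzc, hz1, hzall⟩ := mq_center_cases z Q hS
  have hZ : Nat.card (Subgroup.center Q) = 2 := hS.2.2.1.2
  have hPQ : IsPGroup 2 Q := hS.2.2.1.1.1
  have hcard := mq_card_ne Q hS
  have hzne : z ≠ 1 := by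
    intro h
    have h2 := hS.1
    rw [h, orderOf_one] at h2
    omega
  obtain ⟨g, ⟨hsc0, hsQ0⟩, hsz⟩ := hS.2.2.2.2
  obtain ⟨sQ, hs⟩ : ∃ sQ : Q, ((sQ : Subgroup.centralizer ({z} : Set G)) : G) = g * z * g⁻¹ :=
    ⟨⟨⟨g * z * g⁻¹, hsc0⟩, hsQ0⟩, rfl⟩
  -- the class of `s`
  obtain ⟨hsc, y, hy64, hy⟩ := mq_conj_type Q e ψ F F2 hS hψ sQ g hs hsz
  obtain ⟨γ, hγ⟩ := F.t64 (E none) y (sqNorm_E none) hy64
  -- the twisted identification
  have hψ' := mq_twist Q e ψ hψ γ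
  have hy' : (fun v => ψ (γ.1 v)) (E none) = QuotientGroup.mk sQ := by
    show ψ (γ.1 (E none)) = QuotientGroup.mk sQ
    rw [hγ, hy]
  generalize (e.trans (MulAut.conj (QuotientGroup.mk γ : Spor.Co1)⁻¹)) = e' at hψ'
  generalize (fun v => ψ (γ.1 v)) = ψ' at hψ' hy'
  -- the conjugate `g⁻¹ z g` lies in `Q`
  have hk1 : g⁻¹ * ((sQ : Subgroup.centralizer ({z} : Set G)) : G) * g⁻¹⁻¹ = z := by
    rw [hs]
    group
  obtain ⟨huc, huQ⟩ := mq_conj_mem Q e' ψ' F2 hS hψ' zQ hzQ hzc hzall g⁻¹ sQ hsc hk1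
  have hunc : (⟨⟨g⁻¹ * z * g⁻¹⁻¹, huc⟩, huQ⟩ : Q) ∉ Subgroup.center Q := by
    intro h
    rcases hzall _ h with h1 | h1
    · have h2 : g⁻¹ * z * g⁻¹⁻¹ = 1 :=
        congrArg (fun u : Q => ((u : Subgroup.centralizer ({z} : Set G)) : G)) h1
      exact hzne (conj_eq_one_iff.mp h2)
    · have h2 : g⁻¹ * z * g⁻¹⁻¹ = z :=
        (congrArg (fun u : Q => ((u : Subgroup.centralizer ({z} : Set G)) : G)) h1).trans hzQ
      apply hsz
      calc g * z * g⁻¹ = g * (g⁻¹ * z * g⁻¹⁻¹) * g⁻¹ := by rw [h2]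
        _ = z := by group
  have hk2 : g * (((⟨⟨g⁻¹ * z * g⁻¹⁻¹, huc⟩, huQ⟩ : Q) : Subgroup.centralizer ({z} : Set G)) : G) *
      g⁻¹ = z := by
    show g * (g⁻¹ * z * g⁻¹⁻¹) * g⁻¹ = z
    group
  generalize (⟨⟨g⁻¹ * z * g⁻¹⁻¹, huc⟩, huQ⟩ : Q) = uQ at hunc hk2
  have hdbl : ∀ v : ↥leechLattice, ψ' v * ψ' v = 1 := by
    intro v
    rw [← hψ'.1, mq_dbl Q e' ψ' hψ']
  have hcls_iff : ∀ k0 : ↥Co0, (∃ u : ↥leechLattice, E none + k0.1 (E none) = u + u) ↔
      ψ' (k0.1 (E none)) = ψ' (E none) := by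
    intro k0
    rw [← hψ'.2.2.1, hψ'.1]
    constructor
    · intro h
      calc ψ' (k0.1 (E none)) = (ψ' (E none) * ψ' (E none)) * ψ' (k0.1 (E none)) := by
            rw [hdbl, one_mul]
        _ = ψ' (E none) * (ψ' (E none) * ψ' (k0.1 (E none))) := by group
        _ = ψ' (E none) := by rw [h, mul_one]
    · intro h
      rw [h, hdbl]
  -- the preimage of the image of the conjugate of `Q`, in the automorphism group of the lattice
  have hMn : ∀ k0 : ↥Co0, (∃ u : ↥leechLattice, E none + k0.1 (E none) = u + u) →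
      ∀ m ∈ ((mqBar Q e' g uQ hk2).range).comap (QuotientGroup.mk' (Subgroup.center ↥Co0)),
      k0 * m * k0⁻¹ ∈
        ((mqBar Q e' g uQ hk2).range).comap (QuotientGroup.mk' (Subgroup.center ↥Co0)) := by
    rintro k0 hk0 m ⟨q, hq⟩
    obtain ⟨q', hq'⟩ := mqBar_normalized Q e' ψ' hψ' zQ hzc hzall g uQ hk2 sQ hs hsc (E none) hy' k0
      ((hcls_iff k0).mp hk0) q
    refine ⟨q', ?_⟩
    rw [hq', hq]
    rfl
  have hMc : Subgroup.center ↥Co0 ≤
      ((mqBar Q e' g uQ hk2).range).comap (QuotientGroup.mk' (Subgroup.center ↥Co0)) := by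
    intro c hc
    refine ⟨1, ?_⟩
    rw [map_one]
    exact ((QuotientGroup.eq_one_iff c).mpr hc).symm
  have hM' := mq5_M_clause
    (((mqBar Q e' g uQ hk2).range).comap (QuotientGroup.mk' (Subgroup.center ↥Co0)))
    (by
      rintro m ⟨q, hq⟩
      rw [hcls_iff]
      exact mqBar_class Q e' ψ' hψ' g uQ hk2 sQ hs (E none) hy' q m hq.symm)
    (by
      apply IsPGroup.comap_of_ker_isPGroup
      · have h1 : IsPGroup 2 (Subgroup.centralizer ({uQ} : Set Q)) :=
          IsPGroup.of_injective hPQ (Subgroup.subtype _) (Subgroup.subtype_injective _)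
        exact IsPGroup.of_surjective h1 (mqBar Q e' g uQ hk2).rangeRestrict
          (mqBar Q e' g uQ hk2).rangeRestrict_surjective
      · rw [QuotientGroup.ker_mk']
        exact IsPGroup.of_card (n := 1) (by rw [F2.cen, pow_one]))
    hMc hMn
  have hMA : ((mqBar Q e' g uQ hk2).range).comap (QuotientGroup.mk' (Subgroup.center ↥Co0)) =
      mq4A := by
    rcases hM' with hM' | hM'
    · -- the image is trivial: impossible
      exfalso
      apply mqConj_not_all_mem Q e' ψ' hS hψ' zQ hzQ hzc hzall g uQ hunc hk2 hsz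
      intro q
      rw [← mqBar_eq_one_iff Q e' g uQ hk2]
      obtain ⟨m, hm⟩ := QuotientGroup.mk_surjective (mqBar Q e' g uQ hk2 q)
      have hmM : m ∈ ((mqBar Q e' g uQ hk2).range).comap
          (QuotientGroup.mk' (Subgroup.center ↥Co0)) := ⟨q, hm.symm⟩
      rw [hM'] at hmM
      rw [← hm]
      exact (QuotientGroup.eq_one_iff m).mpr hmM
    · exact hM'
  -- the sign change and the vector
  obtain ⟨w, v, s0, hdvd, hs0, hws⟩ := hL
  have ha : monoCo 1 w ∈ ((mqBar Q e' g uQ hk2).range).comap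
      (QuotientGroup.mk' (Subgroup.center ↥Co0)) := by
    rw [hMA]
    exact ⟨w, rfl⟩
  obtain ⟨q0, hq0⟩ := ha
  have hme : (QuotientGroup.mk (monoCo 1 w) : Spor.Co1) =
      e' (QuotientGroup.mk (mqConj Q g uQ hk2 q0)) := by
    rw [← mqBar_apply]
    exact hq0.symm
  have hmG : ((mqConj Q g uQ hk2 q0 : Subgroup.centralizer ({z} : Set G)) : G) =
      g * (((q0 : Q) : Subgroup.centralizer ({z} : Set G)) : G) * g⁻¹ := rfl
  generalize mqConj Q g uQ hk2 q0 = m at hme hmG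
  obtain ⟨q, hq⟩ := QuotientGroup.mk_surjective (ψ' v)
  -- `q` commutes with `s`
  have hqs : sQ * q = q * sQ := mq5_pair Q e' ψ' F hS hψ' v (E none) q sQ hq.symm hy' hdvd
  have hqsG : g * z * g⁻¹ * ((q : Subgroup.centralizer ({z} : Set G)) : G) =
      ((q : Subgroup.centralizer ({z} : Set G)) : G) * (g * z * g⁻¹) := by
    rw [← hs]
    exact congrArg (fun u : Q => ((u : Subgroup.centralizer ({z} : Set G)) : G)) hqs
  -- the commutator
  have heq := hψ'.2.2.2 m (monoCo 1 w) hme v q hq.symm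
  have hsmul : (monoCo 1 w) • v = (monoCo 1 w).1 v := rfl
  rw [hsmul] at heq
  have hinv : (QuotientGroup.mk q : Q ⧸ Subgroup.center Q)⁻¹ = QuotientGroup.mk q := by
    apply inv_eq_of_mul_eq_one_left
    rw [hq]
    exact hdbl v
  obtain ⟨t0Q, ht0Q⟩ : ∃ t0Q : Q, t0Q = (⟨m * (q : Subgroup.centralizer ({z} : Set G)) * m⁻¹,
      (inferInstance : Q.Normal).conj_mem (q : Subgroup.centralizer ({z} : Set G)) q.2 m⟩ : Q) *
      q⁻¹ := ⟨_, rfl⟩
  have hψs0 : ψ' s0 = QuotientGroup.mk t0Q := by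
    rw [← hws, hψ'.1, heq, ← hq, ht0Q, QuotientGroup.mk_mul, QuotientGroup.mk_inv, hinv]
  have ht0G : ((t0Q : Subgroup.centralizer ({z} : Set G)) : G) =
      (m : G) * ((q : Subgroup.centralizer ({z} : Set G)) : G) * (m : G)⁻¹ *
        ((q : Subgroup.centralizer ({z} : Set G)) : G)⁻¹ := by
    rw [ht0Q]
    rfl
  -- `t0` is not central
  have ht0nc : t0Q ∉ Subgroup.center Q := by
    intro h
    have h1 : ψ' s0 = 1 := by
      rw [hψs0]
      exact (QuotientGroup.eq_one_iff t0Q).mpr h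
    obtain ⟨u, hu⟩ := (hψ'.2.2.1 s0).mp h1
    have h2 : sqNorm ((u + u : ↥leechLattice) : GolayPt → ℤ) = 4 * sqNorm (u : GolayPt → ℤ) := by
      show sqNorm ((u : GolayPt → ℤ) + (u : GolayPt → ℤ)) = 4 * sqNorm (u : GolayPt → ℤ)
      unfold sqNorm
      rw [Finset.mul_sum]
      refine Finset.sum_congr rfl fun i _ => ?_
      simp only [Pi.add_apply]
      ring
    rw [hu, h2] at hs0
    have hne : (u : GolayPt → ℤ) ≠ 0 := by
      intro h0
      rw [h0] at hs0
      have : sqNorm (0 : GolayPt → ℤ) = 0 := by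
        unfold sqNorm
        simp
      omega
    have h3 := leech_min_sqNorm (u : GolayPt → ℤ) u.2 hne
    omega
  -- `t0` is an involution
  have ht0sq : t0Q * t0Q = 1 := by
    have c := mq_chi_eq Q e' ψ' F hZ hcard hψ' s0 t0Q hψs0
    rw [hs0] at c
    have h2 : (((32 : ℤ) / 16 : ℤ) : ZMod 2) = 0 := by decide
    rw [h2] at c
    exact (mqChi_eq_zero_iff _).mp c
  have ht0ne : ((t0Q : Subgroup.centralizer ({z} : Set G)) : G) ≠ 1 := by
    intro h
    apply ht0nc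
    have : t0Q = 1 := Subtype.ext (Subtype.ext h)
    rw [this]
    exact Subgroup.one_mem _
  have ht0sqG : ((t0Q : Subgroup.centralizer ({z} : Set G)) : G) *
      ((t0Q : Subgroup.centralizer ({z} : Set G)) : G) = 1 :=
    congrArg (fun u : Q => ((u : Subgroup.centralizer ({z} : Set G)) : G)) ht0sq
  have ht0z : ((t0Q : Subgroup.centralizer ({z} : Set G)) : G) ≠ z := by
    intro h
    apply ht0nc
    have : t0Q = zQ := Subtype.ext (Subtype.ext (h.trans hzQ.symm))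
    rw [this]
    exact hzc
  -- `t0` is not conjugate to `z`
  have ht0conj : ¬ IsConj z ((t0Q : Subgroup.centralizer ({z} : Set G)) : G) := by
    intro hc
    obtain ⟨k, hk⟩ := isConj_iff.mp hc
    exact mq_not32 Q e' ψ' F2 hS hψ' k t0Q hk.symm (by rw [hk]; exact ht0z) s0 hψs0 hs0
  generalize ht0def : ((t0Q : Subgroup.centralizer ({z} : Set G)) : G) = t0 at ht0G ht0ne ht0sqG ht0z ht0conj
  have : Fact (Nat.Prime 2) := ⟨Nat.prime_two⟩
  have ht0ord : orderOf t0 = 2 := orderOf_eq_prime (by rw [pow_two]; exact ht0sqG) ht0ne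
  have ht0mem : ∃ hc : t0 ∈ Subgroup.centralizer ({z} : Set G),
      (⟨t0, hc⟩ : Subgroup.centralizer ({z} : Set G)) ∈ Q := by
    subst ht0def
    exact ⟨(t0Q : Subgroup.centralizer ({z} : Set G)).2, t0Q.2⟩
  -- the conjugate of `t0` by `g⁻¹` lies in `Q`
  have hcz : g⁻¹ * ((q : Subgroup.centralizer ({z} : Set G)) : G) * g ∈
      Subgroup.centralizer ({z} : Set G) := by
    apply Subgroup.mem_centralizer_singleton_iff.mpr
    calc g⁻¹ * ((q : Subgroup.centralizer ({z} : Set G)) : G) * g * z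
        = g⁻¹ * (((q : Subgroup.centralizer ({z} : Set G)) : G) * (g * z * g⁻¹)) * g := by group
      _ = g⁻¹ * ((g * z * g⁻¹) * ((q : Subgroup.centralizer ({z} : Set G)) : G)) * g := by
          rw [hqsG]
      _ = z * (g⁻¹ * ((q : Subgroup.centralizer ({z} : Set G)) : G) * g) := by group
  obtain ⟨cC, hcC⟩ : ∃ cC : Subgroup.centralizer ({z} : Set G),
      (cC : G) = g⁻¹ * ((q : Subgroup.centralizer ({z} : Set G)) : G) * g := ⟨⟨_, hcz⟩, rfl⟩
  have ht1Q : ((q0 : Q) : Subgroup.centralizer ({z} : Set G)) *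
      (cC * ((q0 : Q) : Subgroup.centralizer ({z} : Set G))⁻¹ * cC⁻¹) ∈ Q :=
    Q.mul_mem (q0 : Q).2 ((inferInstance : Q.Normal).conj_mem _ (Q.inv_mem (q0 : Q).2) cC)
  have ht1G : ((((q0 : Q) : Subgroup.centralizer ({z} : Set G)) *
      (cC * ((q0 : Q) : Subgroup.centralizer ({z} : Set G))⁻¹ * cC⁻¹) :
        Subgroup.centralizer ({z} : Set G)) : G) = g⁻¹ * t0 * g := by
    have : ((((q0 : Q) : Subgroup.centralizer ({z} : Set G)) *
      (cC * ((q0 : Q) : Subgroup.centralizer ({z} : Set G))⁻¹ * cC⁻¹) :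
        Subgroup.centralizer ({z} : Set G)) : G) =
        (((q0 : Q) : Subgroup.centralizer ({z} : Set G)) : G) *
        ((cC : G) * (((q0 : Q) : Subgroup.centralizer ({z} : Set G)) : G)⁻¹ * (cC : G)⁻¹) := rfl
    rw [this, hcC, ht0G, hmG]
    group
  have ht1mem : ∃ hc : g⁻¹ * t0 * g ∈ Subgroup.centralizer ({z} : Set G),
      (⟨g⁻¹ * t0 * g, hc⟩ : Subgroup.centralizer ({z} : Set G)) ∈ Q := by
    rw [← ht1G]
    exact ⟨Subtype.property _, ht1Q⟩
  have ht1ne : g⁻¹ * t0 * g ≠ 1 := by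
    intro h
    apply ht0ne
    calc t0 = g * (g⁻¹ * t0 * g) * g⁻¹ := by group
      _ = 1 := by rw [h]; group
  have ht1sq : (g⁻¹ * t0 * g) * (g⁻¹ * t0 * g) = 1 := by
    calc (g⁻¹ * t0 * g) * (g⁻¹ * t0 * g) = g⁻¹ * (t0 * t0) * g := by group
      _ = 1 := by rw [ht0sqG]; group
  have ht1ord : orderOf (g⁻¹ * t0 * g) = 2 := orderOf_eq_prime (by rw [pow_two]; exact ht1sq) ht1ne
  have ht1conj : ¬ IsConj z (g⁻¹ * t0 * g) := by
    intro hc
    apply ht0conj
    obtain ⟨k, hk⟩ := isConj_iff.mp hc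
    refine isConj_iff.mpr ⟨g * k, ?_⟩
    calc g * k * z * (g * k)⁻¹ = g * (k * z * k⁻¹) * g⁻¹ := by group
      _ = t0 := by rw [hk]; group
  -- both are conjugate to `t` under the centralizer of `z`
  obtain ⟨c1, hc1m, hc1⟩ :=
    Cfsg.Agent.S5411.result z Q hM (g⁻¹ * t0 * g) t ht1mem htQ ht1ord ht2 ht1conj ht
  obtain ⟨c2, hc2m, hc2⟩ := Cfsg.Agent.S5411.result z Q hM t0 t ht0mem htQ ht0ord ht2 ht0conj ht
  have hc1z : c1 * z = z * c1 := Subgroup.mem_centralizer_singleton_iff.mp hc1m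
  have hc2z : c2 * z = z * c2 := Subgroup.mem_centralizer_singleton_iff.mp hc2m
  have hkey : c2 * g * c1⁻¹ * z * (c2 * g * c1⁻¹)⁻¹ = c2 * (g * z * g⁻¹) * c2⁻¹ := by
    have h1 : c1⁻¹ * z * c1 = z := by
      calc c1⁻¹ * z * c1 = c1⁻¹ * (z * c1) := by group
        _ = c1⁻¹ * (c1 * z) := by rw [hc1z]
        _ = z := by group
    calc c2 * g * c1⁻¹ * z * (c2 * g * c1⁻¹)⁻¹ = c2 * g * (c1⁻¹ * z * c1) * g⁻¹ * c2⁻¹ := by group
      _ = c2 * (g * z * g⁻¹) * c2⁻¹ := by rw [h1]; group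
  refine ⟨c2 * g * c1⁻¹, ?_, ?_, ?_⟩
  · have e1 : c1⁻¹ * t * c1 = g⁻¹ * t0 * g := by
      rw [← hc1]
      group
    calc c2 * g * c1⁻¹ * t = c2 * g * (c1⁻¹ * t * c1) * c1⁻¹ := by group
      _ = c2 * g * (g⁻¹ * t0 * g) * c1⁻¹ := by rw [e1]
      _ = (c2 * t0 * c2⁻¹) * (c2 * g * c1⁻¹) := by group
      _ = t * (c2 * g * c1⁻¹) := by rw [hc2]
  · have hkey' : c2 * g * c1⁻¹ * z * (c2 * g * c1⁻¹)⁻¹ =
        (((⟨c2, hc2m⟩ : Subgroup.centralizer ({z} : Set G)) *
          (sQ : Subgroup.centralizer ({z} : Set G)) *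
          (⟨c2, hc2m⟩ : Subgroup.centralizer ({z} : Set G))⁻¹ :
            Subgroup.centralizer ({z} : Set G)) : G) := by
      rw [hkey, ← hs]
      rfl
    rw [hkey']
    exact ⟨Subtype.property _, (inferInstance : Q.Normal).conj_mem _ sQ.2 _⟩
  · rw [hkey]
    intro h
    apply hsz
    calc g * z * g⁻¹ = c2⁻¹ * (c2 * (g * z * g⁻¹) * c2⁻¹) * c2 := by group
      _ = c2⁻¹ * z * c2 := by rw [h]
      _ = c2⁻¹ * (z * c2) := by group
      _ = c2⁻¹ * (c2 * z) := by rw [hc2z]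
      _ = z := by group

end nwc

/-- `z` is not weakly closed in `Q` with respect to the centralizer of an involution `t` of `Q`
that is not conjugate to `z` -/
theorem bm_nwc {G : Type*} [Group G] [Finite G] (z : G) (Q : Subgroup (Subgroup.centralizer ({z} : Set G))) [Q.Normal] (hM : Cfsg.IsOfMonsterType z Q) (t : G) (htQ : ∃ htc : t ∈ Subgroup.centralizer ({z} : Set G), (⟨t, htc⟩ : Subgroup.centralizer ({z} : Set G)) ∈ Q) (ht2 : orderOf t = 2) (ht : ¬ IsConj z t) : ∃ k : G, k * t = t * k ∧ (∃ hc : k * z * k⁻¹ ∈ Subgroup.centralizer ({z} : Set G), (⟨k * z * k⁻¹, hc⟩ : Subgroup.centralizer ({z} : Set G)) ∈ Q) ∧ k * z * k⁻¹ ≠ z :=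
  bm_nwc_of Q ⟨bmW, bmV, bmS, bmV_dot, bmS_norm, bmW_move⟩ hM t htQ ht2 ht

end Cfsg.Agent.Lib.helper91
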