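import Mathlib

/-!
Piece C of the split proof of S0679: a subgroup `N` and `J` free double cosets `N r_j P`,
separated by an invariant, fill a finite group of the right order.
-/

set_option autoImplicit false

namespace Cfsg.Agent.Lib.helper91

/-! PIECE C (double coset counting) -/
theorem deg11_dcos_complete {G : Type*} [Group G] (F N P : Subgroup G) [Finite F]
    (hN : N ≤ F) (hPN : P ≤ N)
    (κ : G → ℕ) (hκ : ∀ n ∈ N, ∀ p ∈ P, ∀ k ∈ F, κ (n * k * p) = κ k)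
    (J : ℕ) (r : ℕ → G) (hr : ∀ j < J, r j ∈ F)
    (hinj : ∀ i < J, ∀ j < J, κ (r i) = κ (r j) → i = j)
    (hne : ∀ j < J, κ (r j) ≠ κ 1)
    (hfree : ∀ j < J, ∀ n ∈ N, ∀ p ∈ P, n * r j * p = r j → n = 1 ∧ p = 1)
    (hcard : Nat.card N + J * (Nat.card N * Nat.card P) = Nat.card F) :
    ∀ k ∈ F, k ∈ N ∨ ∃ j < J, ∃ n ∈ N, ∃ p ∈ P, k = n * r j * p := by
  have hPF : P ≤ F := hPN.trans hN
  have : Finite ↥N := Finite.of_injective (Subgroup.inclusion hN) (Subgroup.inclusion_injective hN)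
  have : Finite ↥P := Finite.of_injective (Subgroup.inclusion hPF) (Subgroup.inclusion_injective hPF)
  let Φ : ↥N ⊕ (Fin J × ↥N × ↥P) → ↥F := fun d =>
    Sum.elim (fun (n : ↥N) => (⟨(n : G), hN n.2⟩ : ↥F))
      (fun (c : Fin J × ↥N × ↥P) => (⟨(c.2.1 : G) * r (c.1 : ℕ) * (c.2.2 : G),
        F.mul_mem (F.mul_mem (hN c.2.1.2) (hr c.1 c.1.2)) (hPF c.2.2.2)⟩ : ↥F)) d
  have hΦl : ∀ n : ↥N, ((Φ (Sum.inl n) : ↥F) : G) = (n : G) := fun n => rfl
  have hΦr : ∀ c : Fin J × ↥N × ↥P, ((Φ (Sum.inr c) : ↥F) : G) =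
      (c.2.1 : G) * r c.1 * (c.2.2 : G) := fun c => rfl
  have hκN : ∀ n ∈ N, κ n = κ 1 := by
    intro n hn
    have := hκ n hn 1 P.one_mem 1 F.one_mem
    rwa [mul_one, mul_one] at this
  have hκr : ∀ (j : ℕ) (hj : j < J), ∀ n ∈ N, ∀ p ∈ P, κ (n * r j * p) = κ (r j) :=
    fun j hj n hn p hp => hκ n hn p hp (r j) (hr j hj)
  have hΦinj : Function.Injective Φ := by
    rintro (n | ⟨i, n, p⟩) (n' | ⟨j, n', p'⟩) h
    · have h1 : (n : G) = (n' : G) := by
        rw [← hΦl n, ← hΦl n', h]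
      rw [Subtype.ext h1]
    · exfalso
      have h1 : (n : G) = (n' : G) * r j * (p' : G) := by
        rw [← hΦl n, h, hΦr]
      apply hne j j.2
      rw [← hκr j j.2 n' n'.2 p' p'.2, ← h1]
      exact hκN n n.2
    · exfalso
      have h1 : (n : G) * r i * (p : G) = (n' : G) := by
        rw [← hΦl n', ← h, hΦr]
      apply hne i i.2
      rw [← hκr i i.2 n n.2 p p.2, h1]
      exact hκN n' n'.2
    · have h1 : (n : G) * r i * (p : G) = (n' : G) * r j * (p' : G) := by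
        have h2 := hΦr (i, n, p)
        have h3 := hΦr (j, n', p')
        rw [h] at h2
        exact h2.symm.trans h3
      have hij : (i : ℕ) = (j : ℕ) := by
        apply hinj i i.2 j j.2
        rw [← hκr i i.2 n n.2 p p.2, ← hκr j j.2 n' n'.2 p' p'.2, h1]
      have hij' : i = j := Fin.ext hij
      subst hij'
      have h2 : ((n' : G)⁻¹ * (n : G)) * r i * ((p : G) * (p' : G)⁻¹) = r i := by
        calc ((n' : G)⁻¹ * (n : G)) * r i * ((p : G) * (p' : G)⁻¹)
            = (n' : G)⁻¹ * ((n : G) * r i * (p : G)) * (p' : G)⁻¹ := by group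
          _ = r i := by rw [h1]; group
      obtain ⟨h3, h4⟩ := hfree i i.2 _ (N.mul_mem (N.inv_mem n'.2) n.2) _
        (P.mul_mem p.2 (P.inv_mem p'.2)) h2
      have h5 : (n : G) = (n' : G) := (inv_mul_eq_one.mp h3).symm
      have h6 : (p : G) = (p' : G) := mul_inv_eq_one.mp h4
      rw [Subtype.ext h5, Subtype.ext h6]
  have hcard' : Nat.card (↥N ⊕ (Fin J × ↥N × ↥P)) = Nat.card ↥F := by
    rw [Nat.card_sum, Nat.card_prod, Nat.card_prod, Nat.card_fin]
    exact hcard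
  have hbij := (Nat.bijective_iff_injective_and_card Φ).mpr ⟨hΦinj, hcard'⟩
  intro k hk
  obtain ⟨d, hd⟩ := hbij.2 ⟨k, hk⟩
  have hd' : ((Φ d : ↥F) : G) = k := congrArg Subtype.val hd
  rcases d with n | ⟨j, n, p⟩
  · left
    rw [← hd', hΦl]
    exact n.2
  · right
    refine ⟨j, j.2, n, n.2, p, p.2, ?_⟩
    rw [← hd', hΦr]

end Cfsg.Agent.Lib.helper91
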