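import Mathlib

/-!
Piece D of the split proof of S0679: freeness of the double cosets `N r ⟨x⟩`.
-/

set_option autoImplicit false

namespace Cfsg.Agent.Lib.helper91

/-! PIECE D (freeness of the double cosets) -/
theorem deg11_dcos_free {G : Type*} [Group G] (x r : G) (N : Subgroup G) (hx : orderOf x = 11)
    (hN : ∀ n ∈ N, n ^ 11 = 1 → n ∈ Subgroup.zpowers x)
    (hy : r⁻¹ * x * r ∉ Subgroup.zpowers x) :
    ∀ n ∈ N, ∀ p ∈ Subgroup.zpowers x, n * r * p = r → n = 1 ∧ p = 1 := by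
  intro n hnN p hp h
  have hx11 : x ^ 11 = 1 := by
    rw [← hx]
    exact pow_orderOf_eq_one x
  have hp11 : p ^ 11 = 1 := by
    obtain ⟨k, rfl⟩ := hp
    show (x ^ k) ^ 11 = 1
    rw [← zpow_natCast, ← zpow_mul, mul_comm, zpow_mul, zpow_natCast, hx11, one_zpow]
  have hn : n = r * p⁻¹ * r⁻¹ := by
    calc n = (n * r * p) * p⁻¹ * r⁻¹ := by group
      _ = r * p⁻¹ * r⁻¹ := by rw [h]
  have hn11 : n ^ 11 = 1 := by
    rw [hn, conj_pow, inv_pow, hp11]
    group
  have hnx := hN n hnN hn11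
  by_cases hn1 : n = 1
  · refine ⟨hn1, ?_⟩
    rw [hn1, one_mul] at h
    calc p = r⁻¹ * (r * p) := by group
      _ = r⁻¹ * r := by rw [h]
      _ = 1 := by group
  · exfalso
    apply hy
    obtain ⟨k, hk⟩ := hnx
    have hk' : x ^ k = n := hk
    have hndvd : ¬ (11 : ℤ) ∣ k := by
      rintro ⟨m, rfl⟩
      apply hn1
      rw [← hk', zpow_mul]
      have : x ^ (11 : ℤ) = 1 := by
        have h1 : x ^ (11 : ℤ) = x ^ (11 : ℕ) := zpow_natCast x 11
        rw [h1, hx11]
      rw [this, one_zpow]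
    have hp11' : Prime (11 : ℤ) := Int.prime_iff_natAbs_prime.mpr (by norm_num)
    have hco : IsCoprime (11 : ℤ) k := (Prime.coprime_iff_not_dvd hp11').mpr hndvd
    obtain ⟨a, b, hab⟩ := hco
    have hxn : x = n ^ b := by
      have h1 : x ^ (11 : ℤ) = 1 := by
        have h1 : x ^ (11 : ℤ) = x ^ (11 : ℕ) := zpow_natCast x 11
        rw [h1, hx11]
      calc x = x ^ (1 : ℤ) := (zpow_one x).symm
        _ = x ^ (a * 11 + b * k) := by rw [hab]
        _ = x ^ (11 * a) * x ^ (k * b) := by rw [zpow_add, mul_comm a 11, mul_comm b k]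
        _ = n ^ b := by rw [zpow_mul, zpow_mul, h1, one_zpow, one_mul, hk']
    have hconj : r⁻¹ * x * r = (p⁻¹) ^ b := by
      rw [hxn, hn, conj_zpow]
      group
    rw [hconj]
    exact Subgroup.zpow_mem _ (Subgroup.inv_mem _ hp) b

end Cfsg.Agent.Lib.helper91
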