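import Cfsg.Agent.Lib.helper91.FQD2a
import Cfsg.Agent.Lib.helper14.FQSA
import Cfsg.Agent.Lib.helper65.FQD1

/-!
S4404 (Thompson, N-groups), piece D2 of helper38's split: a `p`-group `P` (`p ≥ 5`) normalized by
`Q` normalizes a subgroup `U` of `M` of order at most `8` containing `[Q, M]`.
-/

set_option autoImplicit false

namespace Cfsg.Agent.Lib.helper91

open Cfsg.Agent.Lib.helper38.FQ

/-- piece D2 -/
theorem pgroup_structure {S : Type*} [Group S] [Finite S] {M Q : Subgroup S} (h : Hyp M Q) (p : ℕ)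
    (hp : p.Prime) (hp5 : 5 ≤ p) (P : Subgroup S) (hP : IsPGroup p ↥P)
    (hQP : Q ≤ Subgroup.normalizer (P : Set S)) :
    ∃ U : Subgroup S, ⁅Q, M⁆ ≤ U ∧ U ≤ M ∧ Nat.card ↥U ≤ 8 ∧
      P ≤ Subgroup.normalizer (U : Set S) :=
  pgroup_structure_aux h p hp hp5 P hP hQP
    (fun x hx a ha => Cfsg.Agent.Lib.helper65.comm_trivial_or_seven h p hp hp5 P hP hQP x hx a ha)
    (fun A U hAU hU hU16 hA a ha ha' =>
      Cfsg.Agent.Lib.helper14.small_action_large A U hAU hU hU16 p hp hp5 hA a ha ha')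

end Cfsg.Agent.Lib.helper91
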