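import Mathlib
import Cfsg.Agent.Lib.helper38.FQ1

/-!
S4404 (Thompson, N-groups), piece D2 of helper38's split, with the pieces D1 and SA as hypotheses:
a `p`-group `P` (`p ≥ 5`) normalized by `Q` normalizes a subgroup `U` of `M` of order at most `8`
containing `[Q, M]`.
-/

set_option autoImplicit false

namespace Cfsg.Agent.Lib.helper91

open Cfsg.Agent.Lib.helper38.FQ
open scoped commutatorElement

section

variable {S : Type*} [Group S]

/-- the order of the join of two subgroups one of which normalizes the other, with a common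
subgroup -/
theorem fq_card_sup_le [Finite S] {H N W : Subgroup S}
    (hN : H ≤ Subgroup.normalizer (N : Set S)) (hWH : W ≤ H) (hWN : W ≤ N) :
    Nat.card (H ⊔ N : Subgroup S) * Nat.card W ≤ Nat.card H * Nat.card N := by
  set T : Subgroup S := H ⊔ N with hT
  have hNT : N ≤ T := le_sup_right
  have hHT : H ≤ T := le_sup_left
  have hTn : T ≤ Subgroup.normalizer (N : Set S) := sup_le hN Subgroup.le_normalizer
  have : (N.subgroupOf T).Normal := (Subgroup.normal_subgroupOf_iff_le_normalizer hNT).mpr hTn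
  have h1 : H.subgroupOf T ⊔ N.subgroupOf T = ⊤ := by
    rw [← Subgroup.subgroupOf_sup hHT hNT, Subgroup.subgroupOf_self]
  have h2 : (N.subgroupOf T).relIndex (H.subgroupOf T ⊔ N.subgroupOf T)
      = (N.subgroupOf T).relIndex (H.subgroupOf T) := Subgroup.relIndex_sup_right _ _
  rw [h1, Subgroup.relIndex_top_right] at h2
  have h4 : Nat.card (N.subgroupOf T) * (N.subgroupOf T).index = Nat.card T :=
    Subgroup.card_mul_index _
  have h5 : Nat.card (N.subgroupOf T) = Nat.card N :=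
    Nat.card_congr (Subgroup.subgroupOfEquivOfLe hNT).toEquiv
  have h6 : Nat.card (H.subgroupOf T) = Nat.card H :=
    Nat.card_congr (Subgroup.subgroupOfEquivOfLe hHT).toEquiv
  have h7 : (N.subgroupOf T ⊓ H.subgroupOf T).relIndex (H.subgroupOf T) =
      (N.subgroupOf T).relIndex (H.subgroupOf T) := Subgroup.inf_relIndex_right _ _
  have h8 : (N.subgroupOf T ⊓ H.subgroupOf T).relIndex (H.subgroupOf T) *
      Nat.card (N.subgroupOf T ⊓ H.subgroupOf T : Subgroup T) = Nat.card (H.subgroupOf T) := by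
    have h81 := Subgroup.index_mul_card
      ((N.subgroupOf T ⊓ H.subgroupOf T).subgroupOf (H.subgroupOf T))
    have h82 : Nat.card ((N.subgroupOf T ⊓ H.subgroupOf T).subgroupOf (H.subgroupOf T)) =
        Nat.card (N.subgroupOf T ⊓ H.subgroupOf T : Subgroup T) :=
      Nat.card_congr (Subgroup.subgroupOfEquivOfLe inf_le_right).toEquiv
    rw [h82] at h81
    exact h81
  have h9 : Nat.card W ≤ Nat.card (N.subgroupOf T ⊓ H.subgroupOf T : Subgroup T) := by
    have h91 : Nat.card (W.subgroupOf T) = Nat.card W :=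
      Nat.card_congr (Subgroup.subgroupOfEquivOfLe (hWH.trans hHT)).toEquiv
    rw [← h91]
    apply Subgroup.card_le_of_le
    intro y hy
    exact ⟨Subgroup.mem_subgroupOf.mpr (hWN (Subgroup.mem_subgroupOf.mp hy)),
      Subgroup.mem_subgroupOf.mpr (hWH (Subgroup.mem_subgroupOf.mp hy))⟩
  rw [h7, h6] at h8
  rw [← h4, h5, h2]
  calc Nat.card N * (N.subgroupOf T).relIndex (H.subgroupOf T) * Nat.card W
      ≤ Nat.card N * (N.subgroupOf T).relIndex (H.subgroupOf T) *
        Nat.card (N.subgroupOf T ⊓ H.subgroupOf T : Subgroup T) := Nat.mul_le_mul_left _ h9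
    _ = Nat.card N * Nat.card H := by rw [mul_assoc, h8]
    _ = Nat.card H * Nat.card N := mul_comm _ _

/-- an element that maps a subgroup of a finite group into itself normalizes it -/
theorem fq_mem_normalizer [Finite S] (U : Subgroup S) (b : S)
    (hb : ∀ u ∈ U, b * u * b⁻¹ ∈ U) : b ∈ Subgroup.normalizer (U : Set S) := by
  rw [Subgroup.mem_normalizer_iff_map_conj_eq]
  apply Subgroup.eq_of_le_of_card_ge
  · rintro _ ⟨u, hu, rfl⟩
    exact hb u hu
  · apply le_of_eq
    exact Nat.card_congr (U.equivMapOfInjective _ (MulAut.conj b).injective).toEquiv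

/-- stability: an element of odd order that centralizes `V` and acts trivially on `M` modulo `V`
centralizes `M` -/
theorem fq_stability {M : Subgroup S} (hM : Cfsg.IsElementaryAbelian 2 M) (V : Subgroup S)
    (hVM : V ≤ M) (g : S) (n : ℕ) (hn : g ^ (2 * n + 1) = 1)
    (hgV : g ∈ Subgroup.centralizer (V : Set S))
    (hgM : ∀ m ∈ M, g * m * g⁻¹ * m⁻¹ ∈ V) : g ∈ Subgroup.centralizer (M : Set S) := by
  have h2 : g ^ 2 ∈ Subgroup.centralizer (M : Set S) := by
    rw [Subgroup.mem_centralizer_iff]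
    intro m hm
    have hu := hgM m hm
    have hu2 : (g * m * g⁻¹ * m⁻¹) * (g * m * g⁻¹ * m⁻¹) = 1 := by
      rw [← pow_two]
      exact hM.2 _ (hVM hu)
    have hc : (g * m * g⁻¹ * m⁻¹) * g = g * (g * m * g⁻¹ * m⁻¹) :=
      Subgroup.mem_centralizer_iff.mp hgV _ hu
    rw [pow_two]
    symm
    calc g * g * m = g * (g * m * g⁻¹ * m⁻¹) * m * g := by group
      _ = (g * m * g⁻¹ * m⁻¹) * g * m * g := by rw [← hc]
      _ = (g * m * g⁻¹ * m⁻¹) * (g * m * g⁻¹ * m⁻¹) * m * (g * g) := by group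
      _ = m * (g * g) := by rw [hu2, one_mul]
  have h3 : (g ^ 2) ^ (n + 1) = g := by
    rw [← pow_mul, show 2 * (n + 1) = (2 * n + 1) + 1 by ring, pow_succ, hn, one_mul]
  rw [← h3]
  exact Subgroup.pow_mem _ h2 _

/-- the elements of a `p`-group, `p ≥ 5`, have odd order -/
theorem fq_odd_pow {P : Subgroup S} {p : ℕ} (hp : p.Prime) (hp5 : 5 ≤ p) (hP : IsPGroup p ↥P)
    (g : S) (hg : g ∈ P) : ∃ n : ℕ, g ^ (2 * n + 1) = 1 := by
  obtain ⟨k, hk⟩ := hP ⟨g, hg⟩
  have hk' : g ^ (p ^ k) = 1 := by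
    have := congrArg Subtype.val hk
    simpa using this
  have hodd : Odd (p ^ k) := by
    apply Odd.pow
    rcases hp.eq_two_or_odd' with h2 | h2
    · omega
    · exact h2
  obtain ⟨n, hn⟩ := hodd
  exact ⟨n, by rw [← hn]; exact hk'⟩

section normal

variable (M : Subgroup S) [M.Normal]

/-- the elements acting trivially on `M` modulo a subgroup `V` of `M` form a subgroup -/
theorem fq_closure_triv {V : Subgroup S} (hVM : V ≤ M) (s : Set S)
    (hs : ∀ g ∈ s, ∀ m ∈ M, g * m * g⁻¹ * m⁻¹ ∈ V) :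
    ∀ g ∈ Subgroup.closure s, ∀ m ∈ M, g * m * g⁻¹ * m⁻¹ ∈ V := by
  have hnorm : ∀ g : S, (∀ m ∈ M, g * m * g⁻¹ * m⁻¹ ∈ V) → ∀ v ∈ V, g * v * g⁻¹ ∈ V := by
    intro g hg v hv
    have h1 := V.mul_mem (hg v (hVM hv)) hv
    have e : g * v * g⁻¹ * v⁻¹ * v = g * v * g⁻¹ := by group
    rw [e] at h1
    exact h1
  let T : Subgroup S :=
    { carrier := {g | ∀ m ∈ M, g * m * g⁻¹ * m⁻¹ ∈ V}
      one_mem' := by
        intro m _
        have e : (1 : S) * m * 1⁻¹ * m⁻¹ = 1 := by group
        rw [e]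
        exact V.one_mem
      mul_mem' := by
        intro a b ha hb m hm
        have h1 := hnorm a ha _ (hb m hm)
        have h2 := V.mul_mem h1 (ha m hm)
        have e : a * (b * m * b⁻¹ * m⁻¹) * a⁻¹ * (a * m * a⁻¹ * m⁻¹) =
            a * b * m * (a * b)⁻¹ * m⁻¹ := by group
        rw [e] at h2
        exact h2
      inv_mem' := by
        intro a ha m hm
        have hm' : a⁻¹ * m * a ∈ M := by
          have := (inferInstance : M.Normal).conj_mem m hm a⁻¹
          rwa [inv_inv] at this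
        have h1 := V.inv_mem (ha _ hm')
        have e : (a * (a⁻¹ * m * a) * a⁻¹ * (a⁻¹ * m * a)⁻¹)⁻¹ = a⁻¹ * m * a⁻¹⁻¹ * m⁻¹ := by group
        rw [e] at h1
        exact h1 }
  have hT : Subgroup.closure s ≤ T := (Subgroup.closure_le T).mpr hs
  intro g hg
  exact hT hg

omit [M.Normal] in
theorem fq_norm_of_triv {V : Subgroup S} (hVM : V ≤ M) (g : S)
    (hg : ∀ m ∈ M, g * m * g⁻¹ * m⁻¹ ∈ V) : ∀ v ∈ V, g * v * g⁻¹ ∈ V := by
  intro v hv
  have h1 := V.mul_mem (hg v (hVM hv)) hv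
  have e : g * v * g⁻¹ * v⁻¹ * v = g * v * g⁻¹ := by group
  rw [e] at h1
  exact h1

/-- the action on `M` is trivial exactly for the elements of the centralizer -/
theorem fq_act_eq_one_iff (g : S) :
    (MulAut.conjNormal g : MulAut M) = 1 ↔ g ∈ Subgroup.centralizer (M : Set S) := by
  rw [Subgroup.mem_centralizer_iff]
  constructor
  · intro h m hm
    have h1 := congrArg (fun f : MulAut M => ((f ⟨m, hm⟩ : M) : S)) h
    simp only [MulAut.conjNormal_apply, MulAut.one_apply] at h1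
    calc m * g = (g * m * g⁻¹) * g := by rw [h1]
      _ = g * m := by group
  · intro h
    apply MulEquiv.ext
    intro m
    apply Subtype.ext
    rw [MulAut.conjNormal_apply, MulAut.one_apply, ← h m m.2]
    group

/-- elements acting in the same way on `M` give the same commutators -/
theorem fq_comm_le_of_act (H₁ H₂ : Subgroup S)
    (hH : ∀ g ∈ H₂, ∃ g' ∈ H₁, (MulAut.conjNormal g : MulAut M) = MulAut.conjNormal g') :
    ⁅H₂, M⁆ ≤ ⁅H₁, M⁆ := by
  rw [Subgroup.commutator_le]
  intro g hg m hm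
  obtain ⟨g', hg', hgg'⟩ := hH g hg
  have h1 := congrArg (fun f : MulAut M => ((f ⟨m, hm⟩ : M) : S)) hgg'
  simp only [MulAut.conjNormal_apply] at h1
  have h2 : ⁅g, m⁆ = ⁅g', m⁆ := by
    rw [commutatorElement_def, commutatorElement_def, h1]
  rw [h2]
  exact Subgroup.commutator_mem_commutator hg' hm

theorem fq_comm_zpowers_eq (s s' : S)
    (h : (MulAut.conjNormal s : MulAut M) = MulAut.conjNormal s') :
    ⁅Subgroup.zpowers s, M⁆ = ⁅Subgroup.zpowers s', M⁆ := by
  apply le_antisymm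
  · apply fq_comm_le_of_act
    rintro _ ⟨k, rfl⟩
    exact ⟨s' ^ k, ⟨k, rfl⟩, by rw [map_zpow, map_zpow, h]⟩
  · apply fq_comm_le_of_act
    rintro _ ⟨k, rfl⟩
    exact ⟨s ^ k, ⟨k, rfl⟩, by rw [map_zpow, map_zpow, h]⟩

/-- conjugating the commutator with `M` -/
theorem fq_conj_comm (a s : S) :
    (⁅Subgroup.zpowers s, M⁆).map (MulAut.conj a).toMonoidHom =
      ⁅Subgroup.zpowers (a * s * a⁻¹), M⁆ := by
  rw [Subgroup.map_commutator, MonoidHom.map_zpowers]
  have h1 : M.map (MulAut.conj a).toMonoidHom = M := by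
    apply le_antisymm
    · rintro _ ⟨m, hm, rfl⟩
      exact (inferInstance : M.Normal).conj_mem m hm a
    · intro m hm
      refine ⟨a⁻¹ * m * a, ?_, ?_⟩
      · have := (inferInstance : M.Normal).conj_mem m hm a⁻¹
        rwa [inv_inv] at this
      · show a * (a⁻¹ * m * a) * a⁻¹ = m
        group
  rw [h1]
  rfl

end normal

end

section main

variable {S : Type*} [Group S] [Finite S]

/-- piece D2, with pieces D1 and SA as hypotheses -/
theorem pgroup_structure_aux {M Q : Subgroup S} (h : Hyp M Q) (p : ℕ) (hp : p.Prime) (hp5 : 5 ≤ p)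
    (P : Subgroup S) (hP : IsPGroup p ↥P) (hQP : Q ≤ Subgroup.normalizer (P : Set S))
    (hD1 : ∀ (x : S), Subgroup.zpowers x = Q → ∀ a ∈ P,
        x⁻¹ * a * x * a⁻¹ ∈ Subgroup.centralizer (M : Set S) ∨
          (p = 7 ∧ ⁅Q, M⁆ ≤ ⁅Subgroup.zpowers (x⁻¹ * a * x * a⁻¹), M⁆ ∧
            Nat.card ↥⁅Subgroup.zpowers (x⁻¹ * a * x * a⁻¹), M⁆ = 8))
    (hSA : ∀ (A U : Subgroup S), A ≤ Subgroup.normalizer (U : Set S) → (∀ u ∈ U, u * u = 1) →
        Nat.card ↥U ≤ 16 → IsPGroup p ↥A → ∀ a ∈ A, a ∉ Subgroup.centralizer (U : Set S) →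
        (p = 5 ∨ p = 7) ∧ a ^ p ∈ Subgroup.centralizer (U : Set S) ∧
          ∀ b ∈ A, ∃ j : ℕ, b * (a ^ j)⁻¹ ∈ Subgroup.centralizer (U : Set S)) :
    ∃ U : Subgroup S, ⁅Q, M⁆ ≤ U ∧ U ≤ M ∧ Nat.card ↥U ≤ 8 ∧
      P ≤ Subgroup.normalizer (U : Set S) := by
  have hMn : M.Normal := h.normal
  -- a generator of `Q`
  obtain ⟨x, hx⟩ : ∃ x : S, Subgroup.zpowers x = Q := by
    obtain ⟨g, hg⟩ := (isCyclic_iff_exists_zpowers_eq_top (α := ↥Q)).mp h.cyc
    refine ⟨(g : S), ?_⟩
    have h1 := MonoidHom.map_zpowers Q.subtype g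
    rw [hg, ← MonoidHom.range_eq_map, Subgroup.range_subtype] at h1
    exact h1.symm
  have hxQ : x ∈ Q := by
    rw [← hx]
    exact Subgroup.mem_zpowers x
  have hcP : ∀ a ∈ P, x⁻¹ * a * x * a⁻¹ ∈ P := by
    intro a ha
    have h1 : x⁻¹ ∈ Subgroup.normalizer (P : Set S) := hQP (Q.inv_mem hxQ)
    have h2 := (Subgroup.mem_normalizer_iff.mp h1 a).mp ha
    rw [inv_inv] at h2
    exact P.mul_mem h2 (P.inv_mem ha)
  have hM2 : ∀ u ∈ M, u * u = 1 := by
    intro u hu
    rw [← pow_two]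
    exact h.elem.2 u hu
  have hcomm : ∀ u ∈ M, ∀ v ∈ M, u * v = v * u := by
    intro u hu v hv
    have := h.elem.1.is_comm.comm (⟨u, hu⟩ : M) ⟨v, hv⟩
    exact congrArg Subtype.val this
  have hWM : ⁅Q, M⁆ ≤ M := Subgroup.commutator_le_right Q M
  by_cases hall : ∀ a ∈ P, x⁻¹ * a * x * a⁻¹ ∈ Subgroup.centralizer (M : Set S)
  · refine ⟨⁅Q, M⁆, le_refl _, hWM, by rw [h.card]; norm_num, ?_⟩
    intro a ha
    apply fq_mem_normalizer
    intro u hu
    have h1 : (⁅Subgroup.zpowers x, M⁆).map (MulAut.conj a).toMonoidHom =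
        ⁅Subgroup.zpowers x, M⁆ := by
      rw [fq_conj_comm]
      apply fq_comm_zpowers_eq
      have e : a * x * a⁻¹ = x * (x⁻¹ * a * x * a⁻¹) := by group
      rw [e, map_mul, (fq_act_eq_one_iff M _).mpr (hall a ha), mul_one]
    rw [hx] at h1
    rw [← h1]
    exact ⟨u, hu, rfl⟩
  · push Not at hall
    obtain ⟨a₀, ha₀, hcc⟩ := hall
    rcases hD1 x hx a₀ ha₀ with hD | ⟨hp7, hWU, hU8⟩
    · exact absurd hD hcc
    set cc := x⁻¹ * a₀ * x * a₀⁻¹ with hccdef
    have hccP : cc ∈ P := hcP a₀ ha₀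
    have hUM : ⁅Subgroup.zpowers cc, M⁆ ≤ M := Subgroup.commutator_le_right _ M
    -- every `c_b` acts on `M` as a power of `cc`
    have hkey : ∀ b ∈ P, ∃ j : ℕ, (MulAut.conjNormal (x⁻¹ * b * x * b⁻¹) : MulAut M) =
        (MulAut.conjNormal cc : MulAut M) ^ j := by
      intro b hb
      by_cases hbc : x⁻¹ * b * x * b⁻¹ ∈ Subgroup.centralizer (M : Set S)
      · exact ⟨0, by rw [pow_zero]; exact (fq_act_eq_one_iff M _).mpr hbc⟩
      · rcases hD1 x hx b hb with hD | ⟨-, hWUb, hUb8⟩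
        · exact absurd hD hbc
        set cb := x⁻¹ * b * x * b⁻¹ with hcbdef
        have hcbP : cb ∈ P := hcP b hb
        have hUbM : ⁅Subgroup.zpowers cb, M⁆ ≤ M := Subgroup.commutator_le_right _ M
        set V := ⁅Subgroup.zpowers cc, M⁆ ⊔ ⁅Subgroup.zpowers cb, M⁆ with hV
        have hVM : V ≤ M := sup_le hUM hUbM
        have hV16 : Nat.card V ≤ 16 := by
          have h1 : Nat.card V * Nat.card ↥⁅Q, M⁆ ≤
              Nat.card ↥⁅Subgroup.zpowers cc, M⁆ * Nat.card ↥⁅Subgroup.zpowers cb, M⁆ :=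
            fq_card_sup_le (H := ⁅Subgroup.zpowers cc, M⁆)
            (N := ⁅Subgroup.zpowers cb, M⁆) (W := ⁅Q, M⁆) (by
              intro u hu
              apply fq_mem_normalizer
              intro v hv
              have e : u * v * u⁻¹ = v := by
                rw [hcomm u (hUM hu) v (hUbM hv)]
                group
              rw [e]
              exact hv) hWU hWUb
          rw [h.card, hU8, hUb8] at h1
          omega
        have hV2 : ∀ u ∈ V, u * u = 1 := fun u hu => hM2 u (hVM hu)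
        -- the group generated by `cc` and `cb`
        have hAP : Subgroup.closure ({cc, cb} : Set S) ≤ P := by
          rw [Subgroup.closure_le]
          rintro y (rfl | rfl)
          · exact hccP
          · exact hcbP
        have hA : IsPGroup p ↥(Subgroup.closure ({cc, cb} : Set S)) := hP.to_le hAP
        have htriv : ∀ g ∈ Subgroup.closure ({cc, cb} : Set S), ∀ m ∈ M,
            g * m * g⁻¹ * m⁻¹ ∈ V := by
          apply fq_closure_triv M hVM
          intro y hy m hm
          rcases hy with hy | hy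
          · rw [hy]
            have h1 := Subgroup.commutator_mem_commutator (Subgroup.mem_zpowers cc) hm
            rw [commutatorElement_def] at h1
            exact (le_sup_left : ⁅Subgroup.zpowers cc, M⁆ ≤ V) h1
          · rw [Set.mem_singleton_iff] at hy
            rw [hy]
            have h1 := Subgroup.commutator_mem_commutator (Subgroup.mem_zpowers cb) hm
            rw [commutatorElement_def] at h1
            exact (le_sup_right : ⁅Subgroup.zpowers cb, M⁆ ≤ V) h1
        have hAN : Subgroup.closure ({cc, cb} : Set S) ≤ Subgroup.normalizer (V : Set S) := by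
          intro g hg
          exact fq_mem_normalizer V g (fq_norm_of_triv M hVM g (htriv g hg))
        have hccA : cc ∈ Subgroup.closure ({cc, cb} : Set S) :=
          Subgroup.subset_closure (Set.mem_insert _ _)
        have hcbA : cb ∈ Subgroup.closure ({cc, cb} : Set S) :=
          Subgroup.subset_closure (Set.mem_insert_of_mem _ rfl)
        have hccV : cc ∉ Subgroup.centralizer (V : Set S) := by
          intro hcV
          obtain ⟨n, hn⟩ := fq_odd_pow hp hp5 hP cc hccP
          exact hcc (fq_stability h.elem V hVM cc n hn hcV (htriv cc hccA))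
        obtain ⟨-, -, hj⟩ := hSA _ V hAN hV2 hV16 hA cc hccA hccV
        obtain ⟨j, hj⟩ := hj cb hcbA
        refine ⟨j, ?_⟩
        have hgA : cb * (cc ^ j)⁻¹ ∈ Subgroup.closure ({cc, cb} : Set S) :=
          Subgroup.mul_mem _ hcbA (Subgroup.inv_mem _ (Subgroup.pow_mem _ hccA j))
        obtain ⟨n, hn⟩ := fq_odd_pow hp hp5 hP _ (hAP hgA)
        have hgM := fq_stability h.elem V hVM _ n hn hj (htriv _ hgA)
        have h1 := (fq_act_eq_one_iff M _).mpr hgM
        rw [map_mul, map_inv, map_pow, mul_inv_eq_one] at h1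
        exact h1
    refine ⟨⁅Subgroup.zpowers cc, M⁆, hWU, hUM, le_of_eq hU8, ?_⟩
    intro b hb
    apply fq_mem_normalizer
    intro u hu
    have h1 : (⁅Subgroup.zpowers cc, M⁆).map (MulAut.conj b).toMonoidHom ≤
        ⁅Subgroup.zpowers cc, M⁆ := by
      rw [fq_conj_comm]
      apply fq_comm_le_of_act
      obtain ⟨j₁, hj₁⟩ := hkey b hb
      obtain ⟨j₂, hj₂⟩ := hkey (b * a₀) (P.mul_mem hb ha₀)
      have e : b * cc * b⁻¹ =
          (x⁻¹ * b * x * b⁻¹)⁻¹ * (x⁻¹ * (b * a₀) * x * (b * a₀)⁻¹) := by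
        rw [hccdef]
        group
      have h2 : (MulAut.conjNormal (b * cc * b⁻¹) : MulAut M) =
          MulAut.conjNormal (cc ^ (-(j₁ : ℤ) + j₂)) := by
        rw [e, map_mul, map_inv, hj₁, hj₂, map_zpow, zpow_add, zpow_neg, zpow_natCast,
          zpow_natCast]
      rintro _ ⟨n, rfl⟩
      refine ⟨(cc ^ (-(j₁ : ℤ) + j₂)) ^ n, ?_, ?_⟩
      · exact Subgroup.zpow_mem _ (Subgroup.zpow_mem _ (Subgroup.mem_zpowers cc) _) n
      · show (MulAut.conjNormal ((b * cc * b⁻¹) ^ n) : MulAut M) = _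
        rw [map_zpow, map_zpow, h2]
    exact h1 ⟨u, hu, rfl⟩

end main

end Cfsg.Agent.Lib.helper91
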