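import Mathlib
import Cfsg.Prelude.Def_FischerSpaces

set_option autoImplicit false

namespace Cfsg.Agent.Lib.helper91

open Cfsg Cfsg.LineSystem

section Generic
variable {X : Type*} {Y : Type*}

/-- `z` is a third point on a line through the different points `x`, `y` (the condition in `lineMap`). -/
def Third (L : Set (Set X)) (x y z : X) : Prop := z ≠ x ∧ z ≠ y ∧ x ≠ y ∧ ({x, y, z} : Set X) ∈ L

theorem Third.symm {L : Set (Set X)} {x y z : X} (h : Third L x y z) : Third L y x z := by
  obtain ⟨h1, h2, h3, h4⟩ := h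
  refine ⟨h2, h1, h3.symm, ?_⟩
  rwa [Set.insert_comm y x]

theorem Third.swap23 {L : Set (Set X)} {x y z : X} (h : Third L x y z) : Third L x z y := by
  obtain ⟨h1, h2, h3, h4⟩ := h
  refine ⟨h3.symm, h2.symm, h1.symm, ?_⟩
  rwa [Set.pair_comm z y]

theorem Third.unique {L : Set (Set X)} (hL : IsPartialLinear L) {x y z z' : X} (h : Third L x y z)
    (h' : Third L x y z') : z = z' := by
  obtain ⟨h1, h2, h3, h4⟩ := h
  obtain ⟨h1', h2', -, h4'⟩ := h'
  have heq := hL _ h4 _ h4' x y h3 (by simp) (by simp) (by simp) (by simp)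
  have hz : z ∈ ({x, y, z'} : Set X) := by rw [← heq]; simp
  simp only [Set.mem_insert_iff, Set.mem_singleton_iff] at hz
  rcases hz with h | h | h
  · exact absurd h h1
  · exact absurd h h2
  · exact h

theorem lineMap_third (L : Set (Set X)) {x y : X} (h : ∃ z, Third L x y z) :
    Third L x y (lineMap L x y) := by
  have h' : ∃ z : X, z ≠ x ∧ z ≠ y ∧ x ≠ y ∧ ({x, y, z} : Set X) ∈ L := h
  unfold lineMap
  rw [dif_pos h']
  exact h'.choose_spec

theorem lineMap_eq_self {L : Set (Set X)} {x y : X} (h : ¬∃ z, Third L x y z) :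
    lineMap L x y = y := by
  have h' : ¬∃ z : X, z ≠ x ∧ z ≠ y ∧ x ≠ y ∧ ({x, y, z} : Set X) ∈ L := h
  unfold lineMap
  rw [dif_neg h']

theorem lineMap_eq_of_third {L : Set (Set X)} (hL : IsPartialLinear L) {x y z : X}
    (h : Third L x y z) : lineMap L x y = z :=
  (lineMap_third L ⟨z, h⟩).unique hL h

theorem lineMap_self (L : Set (Set X)) (x : X) : lineMap L x x = x :=
  lineMap_eq_self (by rintro ⟨z, -, -, h, -⟩; exact h rfl)

theorem lineMap_involutive {L : Set (Set X)} (hL : IsPartialLinear L) (x : X) :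
    Function.Involutive (lineMap L x) := by
  intro y
  by_cases h : ∃ z, Third L x y z
  · obtain ⟨z, hz⟩ := h
    rw [lineMap_eq_of_third hL hz, lineMap_eq_of_third hL hz.swap23]
  · rw [lineMap_eq_self h, lineMap_eq_self h]

/-- Two different members of a three-element set have a third one. -/
theorem exists_third_of_triple {a b c x y : X} (hab : a ≠ b) (hac : a ≠ c) (hbc : b ≠ c)
    (hx : x ∈ ({a, b, c} : Set X)) (hy : y ∈ ({a, b, c} : Set X)) (hxy : x ≠ y) :
    ∃ z, z ≠ x ∧ z ≠ y ∧ ({a, b, c} : Set X) = {x, y, z} := by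
  simp only [Set.mem_insert_iff, Set.mem_singleton_iff] at hx hy
  rcases hx with rfl | rfl | rfl <;> rcases hy with rfl | rfl | rfl
  · exact absurd rfl hxy
  · exact ⟨c, hac.symm, hbc.symm, rfl⟩
  · exact ⟨b, hab.symm, hbc, by ext t; simp only [Set.mem_insert_iff, Set.mem_singleton_iff]; tauto⟩
  · exact ⟨c, hbc.symm, hac.symm, by ext t; simp only [Set.mem_insert_iff, Set.mem_singleton_iff]; tauto⟩
  · exact absurd rfl hxy
  · exact ⟨a, hab, hac, by ext t; simp only [Set.mem_insert_iff, Set.mem_singleton_iff]; tauto⟩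
  · exact ⟨b, hbc, hab.symm, by ext t; simp only [Set.mem_insert_iff, Set.mem_singleton_iff]; tauto⟩
  · exact ⟨a, hac, hab, by ext t; simp only [Set.mem_insert_iff, Set.mem_singleton_iff]; tauto⟩
  · exact absurd rfl hxy

/-- On a three-point line, two different points have a third point, and the line is the triple. -/
theorem exists_third_of_mem {L : Set (Set X)} (h3 : ∀ l ∈ L, l.ncard = 3) {l : Set X} (hl : l ∈ L)
    {x y : X} (hx : x ∈ l) (hy : y ∈ l) (hxy : x ≠ y) : ∃ z, Third L x y z ∧ l = {x, y, z} := by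
  obtain ⟨a, b, c, hab, hac, hbc, rfl⟩ := Set.ncard_eq_three.mp (h3 l hl)
  obtain ⟨z, hz1, hz2, heq⟩ := exists_third_of_triple hab hac hbc hx hy hxy
  exact ⟨z, ⟨hz1, hz2, hxy, heq ▸ hl⟩, heq⟩

/-- Transport of `lineMap` along a map compatible with third points. -/
theorem lineMap_map {L : Set (Set X)} {M : Set (Set Y)} (f : X → Y)
    (huniq : ∀ x y z z', Third L x y z → Third L x y z' → z = z')
    (h1 : ∀ x y z, Third L x y z → Third M (f x) (f y) (f z))
    (h2 : ∀ x y w, Third M (f x) (f y) w → ∃ z, w = f z ∧ Third L x y z) (x y : X) :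
    lineMap M (f x) (f y) = f (lineMap L x y) := by
  by_cases h : ∃ z, Third L x y z
  · obtain ⟨z, hz⟩ := h
    have e1 : lineMap L x y = z := huniq _ _ _ _ (lineMap_third L ⟨z, hz⟩) hz
    obtain ⟨z', hz', hz''⟩ := h2 x y _ (lineMap_third M ⟨f z, h1 _ _ _ hz⟩)
    rw [hz', e1, huniq _ _ _ _ hz'' hz]
  · rw [lineMap_eq_self h, lineMap_eq_self]
    rintro ⟨w, hw⟩
    obtain ⟨z, -, hz⟩ := h2 x y w hw
    exact h ⟨z, hz⟩

theorem third_restrict_iff (L : Set (Set X)) (S : Set X) (p q r : S) :
    Third (restrict L S) p q r ↔ Third L (p : X) q r := by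
  constructor
  · rintro ⟨h1, h2, h3, l, hl, hlS, heq⟩
    refine ⟨fun h => h1 (Subtype.ext h), fun h => h2 (Subtype.ext h), fun h => h3 (Subtype.ext h), ?_⟩
    have hl' : ({(p : X), (q : X), (r : X)} : Set X) = l := by
      ext t
      constructor
      · intro ht
        simp only [Set.mem_insert_iff, Set.mem_singleton_iff] at ht
        have hp : p ∈ {s : S | (s : X) ∈ l} := by rw [← heq]; simp
        have hq : q ∈ {s : S | (s : X) ∈ l} := by rw [← heq]; simp
        have hr : r ∈ {s : S | (s : X) ∈ l} := by rw [← heq]; simp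
        rcases ht with rfl | rfl | rfl
        · exact hp
        · exact hq
        · exact hr
      · intro ht
        have h : (⟨t, hlS ht⟩ : S) ∈ ({p, q, r} : Set S) := by rw [heq]; exact ht
        simp only [Set.mem_insert_iff, Set.mem_singleton_iff, Subtype.ext_iff] at h
        simpa using h
    rw [hl']
    exact hl
  · rintro ⟨h1, h2, h3, hl⟩
    refine ⟨fun h => h1 (congrArg Subtype.val h), fun h => h2 (congrArg Subtype.val h),
      fun h => h3 (congrArg Subtype.val h), _, hl, ?_, ?_⟩
    · intro t ht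
      simp only [Set.mem_insert_iff, Set.mem_singleton_iff] at ht
      rcases ht with rfl | rfl | rfl
      · exact p.2
      · exact q.2
      · exact r.2
    · ext s
      simp only [Set.mem_insert_iff, Set.mem_singleton_iff, Subtype.ext_iff, Set.mem_ofPred_eq]

theorem third_restrict_unique {L : Set (Set X)} (hL : IsPartialLinear L) (S : Set X) {p q r r' : S}
    (h : Third (restrict L S) p q r) (h' : Third (restrict L S) p q r') : r = r' :=
  Subtype.ext (((third_restrict_iff L S p q r).mp h).unique hL ((third_restrict_iff L S p q r').mp h'))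

theorem lineMap_restrict {L : Set (Set X)} (hL : IsPartialLinear L) {S : Set X} (hS : IsSubspace L S)
    (p q : S) : lineMap L (p : X) q = ((lineMap (restrict L S) p q : S) : X) := by
  refine lineMap_map (L := restrict L S) (M := L) Subtype.val
    (fun _ _ _ _ h h' => third_restrict_unique hL S h h')
    (fun x y z h => (third_restrict_iff L S x y z).mp h) ?_ p q
  intro x y w hw
  have hwS : w ∈ S := by
    obtain ⟨h1, h2, h3, hl⟩ := hw
    exact hS _ hl x x.2 y y.2 h3 (by simp) (by simp) (by simp)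
  exact ⟨⟨w, hwS⟩, rfl, (third_restrict_iff L S x y ⟨w, hwS⟩).mpr hw⟩

theorem third_iso_iff {L : Set (Set X)} {M : Set (Set Y)} (e : X ≃ Y) (he : IsIso L M e) (x y z : X) :
    Third L x y z ↔ Third M (e x) (e y) (e z) := by
  unfold Third
  rw [he {x, y, z}, Set.image_insert_eq, Set.image_insert_eq, Set.image_singleton,
    e.injective.ne_iff, e.injective.ne_iff, e.injective.ne_iff]

theorem lineMap_iso {L : Set (Set X)} {M : Set (Set Y)}
    (huniq : ∀ x y z z', Third L x y z → Third L x y z' → z = z') (e : X ≃ Y) (he : IsIso L M e)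
    (x y : X) : lineMap M (e x) (e y) = e (lineMap L x y) :=
  lineMap_map e huniq (fun x y z h => (third_iso_iff e he x y z).mp h)
    (fun x y w h => ⟨e.symm w, by simp, (third_iso_iff e he x y (e.symm w)).mpr (by simpa using h)⟩) x y

/-- If a subspace `S` of a partial linear space is isomorphic to a line system `M` in which the maps
`lineMap M x'` send lines to lines, then `lineMap L x` for `x ∈ S` sends lines inside `S` to lines. -/
theorem lineMap_image_mem_of_plane {L : Set (Set X)} (hL : IsPartialLinear L) {S : Set X}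
    (hS : IsSubspace L S) {M : Set (Set Y)} (e : S ≃ Y) (he : IsIso (restrict L S) M e)
    (hM : ∀ x' : Y, ∀ l' ∈ M, (lineMap M x') '' l' ∈ M) {x : X} (hx : x ∈ S) {l : Set X}
    (hl : l ∈ L) (hlS : l ⊆ S) : (lineMap L x) '' l ∈ L := by
  have huniq : ∀ p q r r' : S, Third (restrict L S) p q r → Third (restrict L S) p q r' → r = r' :=
    fun _ _ _ _ h h' => third_restrict_unique hL S h h'
  have hlS' : {s : S | (s : X) ∈ l} ∈ restrict L S := ⟨l, hl, hlS, rfl⟩
  have h1 : e '' {s : S | (s : X) ∈ l} ∈ M := (he _).mp hlS'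
  have h2 := hM (e ⟨x, hx⟩) _ h1
  have h3 : (lineMap M (e ⟨x, hx⟩)) '' (e '' {s : S | (s : X) ∈ l}) =
      e '' ((lineMap (restrict L S) ⟨x, hx⟩) '' {s : S | (s : X) ∈ l}) := by
    rw [Set.image_image, Set.image_image]
    apply Set.image_congr
    intro s _
    exact lineMap_iso huniq e he _ _
  rw [h3] at h2
  obtain ⟨l', hl', hl'S, heq⟩ := (he _).mpr h2
  have hfin : (lineMap L x) '' l = l' := by
    ext t
    constructor
    · rintro ⟨s, hs, rfl⟩
      have h5 : lineMap L x s = ((lineMap (restrict L S) ⟨x, hx⟩ ⟨s, hlS hs⟩ : S) : X) :=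
        lineMap_restrict hL hS ⟨x, hx⟩ ⟨s, hlS hs⟩
      rw [h5]
      have hmem : lineMap (restrict L S) ⟨x, hx⟩ ⟨s, hlS hs⟩ ∈
          (lineMap (restrict L S) ⟨x, hx⟩) '' {s : S | (s : X) ∈ l} := ⟨⟨s, hlS hs⟩, hs, rfl⟩
      rw [heq] at hmem
      exact hmem
    · intro ht
      have hmem : (⟨t, hl'S ht⟩ : S) ∈ {s : S | (s : X) ∈ l'} := ht
      rw [← heq] at hmem
      obtain ⟨s, hs, hst⟩ := hmem
      refine ⟨s, hs, ?_⟩
      have h5 := lineMap_restrict hL hS ⟨x, hx⟩ s
      rw [hst] at h5
      exact h5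
  rw [hfin]
  exact hl'

theorem lineMap_eq_of_third' {L : Set (Set X)} {x y z : X}
    (huniq : ∀ z', Third L x y z' → z' = z) (h : Third L x y z) : lineMap L x y = z :=
  huniq _ (lineMap_third L ⟨z, h⟩)

theorem subset_lineSpan (L : Set (Set X)) (S : Set X) : S ⊆ span L S :=
  fun _ ht _ hT => hT.1 ht

theorem isSubspace_lineSpan (L : Set (Set X)) (S : Set X) : IsSubspace L (span L S) := by
  intro l hl x hx y hy hxy hxl hyl t ht T hT
  exact hT.2 l hl x (hx T hT) y (hy T hT) hxy hxl hyl ht

end Generic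

section Affine

theorem affine_third_iff (x y z : Fin 2 → ZMod 3) :
    Third affinePlaneThree x y z ↔ x ≠ y ∧ z = -x - y := by
  have k1 : ∀ a b : ZMod 3, -a - b = a → a = b := by decide
  have k1' : ∀ a b : ZMod 3, -a - b = b → a = b := by decide
  have k2 : ∀ a b : ZMod 3, -a - b = a + 2 * (b - a) := by decide
  have k3 : ∀ c1 c2 c3 : ZMod 3, c1 ≠ c2 → c1 ≠ c3 → c2 ≠ c3 → c1 + c2 + c3 = 0 := by decide
  have k4 : ∀ c : ZMod 3, c = 0 ∨ c = 1 ∨ c = 2 := by decide
  have k5 : ∀ a b c1 c2 c3 : ZMod 3, c1 + c2 + c3 = 0 →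
      a + c3 * b = -(a + c1 * b) - (a + c2 * b) := by decide
  constructor
  · rintro ⟨hzx, hzy, hxy, v, w, hw, hset⟩
    refine ⟨hxy, ?_⟩
    have hx : x ∈ ({x, y, z} : Set (Fin 2 → ZMod 3)) := by simp
    have hy : y ∈ ({x, y, z} : Set (Fin 2 → ZMod 3)) := by simp
    have hz : z ∈ ({x, y, z} : Set (Fin 2 → ZMod 3)) := by simp
    rw [hset] at hx hy hz
    obtain ⟨c1, rfl⟩ := hx
    obtain ⟨c2, rfl⟩ := hy
    obtain ⟨c3, rfl⟩ := hz
    have h12 : c1 ≠ c2 := fun h => hxy (by rw [h])
    have h13 : c1 ≠ c3 := fun h => hzx (by rw [h])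
    have h23 : c2 ≠ c3 := fun h => hzy (by rw [h])
    funext i
    simp only [Pi.add_apply, Pi.smul_apply, smul_eq_mul, Pi.sub_apply, Pi.neg_apply]
    exact k5 _ _ _ _ _ (k3 c1 c2 c3 h12 h13 h23)
  · rintro ⟨hxy, rfl⟩
    refine ⟨?_, ?_, hxy, x, y - x, sub_ne_zero.mpr (Ne.symm hxy), ?_⟩
    · intro h
      apply hxy
      funext i
      exact k1 _ _ (congrFun h i)
    · intro h
      apply hxy
      funext i
      exact k1' _ _ (congrFun h i)
    · ext p
      simp only [Set.mem_insert_iff, Set.mem_singleton_iff, Set.mem_ofPred_eq]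
      constructor
      · rintro (rfl | rfl | rfl)
        · exact ⟨0, by simp⟩
        · exact ⟨1, by simp⟩
        · refine ⟨2, ?_⟩
          funext i
          simp only [Pi.add_apply, Pi.smul_apply, smul_eq_mul, Pi.sub_apply, Pi.neg_apply]
          exact k2 _ _
      · rintro ⟨c, rfl⟩
        rcases k4 c with rfl | rfl | rfl
        · left
          simp
        · right
          left
          simp
        · right
          right
          funext i
          simp only [Pi.add_apply, Pi.smul_apply, smul_eq_mul, Pi.sub_apply, Pi.neg_apply]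
          exact (k2 _ _).symm

theorem affine_lineMap (x y : Fin 2 → ZMod 3) : lineMap affinePlaneThree x y = -x - y := by
  by_cases hxy : x = y
  · subst hxy
    rw [lineMap_self]
    have k : ∀ a : ZMod 3, a = -a - a := by decide
    funext i
    exact k _
  · exact lineMap_eq_of_third' (fun z' hz' => ((affine_third_iff x y z').mp hz').2)
      ((affine_third_iff x y _).mpr ⟨hxy, rfl⟩)

theorem affine_lineMap_image (x : Fin 2 → ZMod 3) (l : Set (Fin 2 → ZMod 3))
    (hl : l ∈ affinePlaneThree) : lineMap affinePlaneThree x '' l ∈ affinePlaneThree := by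
  obtain ⟨v, w, hw, rfl⟩ := hl
  refine ⟨-x - v, -w, neg_ne_zero.mpr hw, ?_⟩
  ext q
  simp only [Set.mem_image, Set.mem_ofPred_eq]
  constructor
  · rintro ⟨p, ⟨c, rfl⟩, rfl⟩
    exact ⟨c, by rw [affine_lineMap]; module⟩
  · rintro ⟨c, rfl⟩
    exact ⟨v + c • w, ⟨c, rfl⟩, by rw [affine_lineMap]; module⟩

end Affine

section Dual

/-- A decidable form of `Third` in the dual affine plane of order two. -/
def DualR (x y z : DualAffinePoint) : Prop :=
  z ≠ x ∧ z ≠ y ∧ x ≠ y ∧ ∃ i : Fin 4, i ∉ x.1 ∧ i ∉ y.1 ∧ i ∉ z.1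

instance dualRDecidable (x y z : DualAffinePoint) : Decidable (DualR x y z) := by
  unfold DualR
  infer_instance

set_option synthInstance.maxSize 2000 in
set_option synthInstance.maxHeartbeats 200000 in
theorem dual_dec1 : ∀ i : Fin 4, ∀ x : DualAffinePoint, i ∉ x.1 → ∀ y : DualAffinePoint, x ≠ y →
    i ∉ y.1 → ∀ z : DualAffinePoint, z ≠ x → z ≠ y → i ∉ z.1 → ∀ s : DualAffinePoint, i ∉ s.1 →
    (s = x ∨ s = y ∨ s = z) := by
  decide +kernel

set_option synthInstance.maxSize 2000 in
set_option synthInstance.maxHeartbeats 200000 in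
theorem dual_dec2 : ∀ x y z : DualAffinePoint, DualR x y z → ∀ z' : DualAffinePoint,
    DualR x y z' → z' = z := by
  decide +kernel

set_option synthInstance.maxSize 2000 in
set_option synthInstance.maxHeartbeats 200000 in
theorem dual_dec3 : ∀ x : DualAffinePoint, ∀ i : Fin 4, ∃ j : Fin 4,
    (∀ s : DualAffinePoint, j ∉ s.1 → ∃ s' : DualAffinePoint, i ∉ s'.1 ∧
      (DualR x s' s ∨ (s = s' ∧ ∀ z : DualAffinePoint, ¬DualR x s' z))) ∧
    (∀ s' : DualAffinePoint, i ∉ s'.1 → ∀ s : DualAffinePoint,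
      (DualR x s' s ∨ (s = s' ∧ ∀ z : DualAffinePoint, ¬DualR x s' z)) → j ∉ s.1) := by
  decide +kernel

theorem dual_third_iff (x y z : DualAffinePoint) : Third dualAffinePlaneTwo x y z ↔ DualR x y z := by
  constructor
  · rintro ⟨h1, h2, h3, i, hset⟩
    have hx : x ∈ ({x, y, z} : Set DualAffinePoint) := by simp
    have hy : y ∈ ({x, y, z} : Set DualAffinePoint) := by simp
    have hz : z ∈ ({x, y, z} : Set DualAffinePoint) := by simp
    rw [hset] at hx hy hz
    exact ⟨h1, h2, h3, i, hx, hy, hz⟩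
  · rintro ⟨h1, h2, h3, i, hx, hy, hz⟩
    refine ⟨h1, h2, h3, i, ?_⟩
    ext s
    constructor
    · intro hs
      simp only [Set.mem_insert_iff, Set.mem_singleton_iff] at hs
      rcases hs with rfl | rfl | rfl
      · exact hx
      · exact hy
      · exact hz
    · intro hs
      exact dual_dec1 i x hx y h3 hy z h1 h2 hz s hs

theorem dual_lineMap_image (x : DualAffinePoint) (l : Set DualAffinePoint)
    (hl : l ∈ dualAffinePlaneTwo) : lineMap dualAffinePlaneTwo x '' l ∈ dualAffinePlaneTwo := by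
  obtain ⟨i, rfl⟩ := hl
  obtain ⟨j, hj1, hj2⟩ := dual_dec3 x i
  refine ⟨j, ?_⟩
  ext s
  constructor
  · rintro ⟨s', hs', rfl⟩
    apply hj2 s' hs'
    by_cases h : ∃ z, Third dualAffinePlaneTwo x s' z
    · left
      exact (dual_third_iff _ _ _).mp (lineMap_third _ h)
    · right
      exact ⟨lineMap_eq_self h, fun z hz => h ⟨z, (dual_third_iff _ _ _).mpr hz⟩⟩
  · intro hs
    obtain ⟨s', hs', hT⟩ := hj1 s hs
    refine ⟨s', hs', ?_⟩
    rcases hT with hT | ⟨rfl, hT⟩
    · exact lineMap_eq_of_third'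
        (fun z' hz' => dual_dec2 x s' s hT z' ((dual_third_iff _ _ _).mp hz'))
        ((dual_third_iff _ _ _).mpr hT)
    · exact lineMap_eq_self (fun ⟨z, hz⟩ => hT z ((dual_third_iff _ _ _).mp hz))

end Dual

section Fischer
variable {X : Type*}

/-- In a Fischer space the map `t(x)` sends lines to lines. -/
theorem lineMap_image_mem {L : Set (Set X)} (hF : IsFischerSpace L) (x : X) {l : Set X}
    (hl : l ∈ L) : lineMap L x '' l ∈ L := by
  obtain ⟨hPL, h3, hplane⟩ := hF
  by_cases hxl : x ∈ l
  · have hsub : ∀ y ∈ l, lineMap L x y ∈ l := by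
      intro y hy
      by_cases hyx : y = x
      · subst hyx
        rw [lineMap_self]
        exact hy
      · obtain ⟨z, hz, hlz⟩ := exists_third_of_mem h3 hl hxl hy (Ne.symm hyx)
        rw [lineMap_eq_of_third hPL hz, hlz]
        simp
    have himg : lineMap L x '' l = l := by
      apply Set.Subset.antisymm
      · rintro _ ⟨y, hy, rfl⟩
        exact hsub y hy
      · intro y hy
        exact ⟨lineMap L x y, hsub y hy, lineMap_involutive hPL x y⟩
    rw [himg]
    exact hl
  · by_cases hcol : ∃ a ∈ l, ∃ a', Third L x a a'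
    · obtain ⟨a, hal, a', ha'⟩ := hcol
      have hm : ({x, a, a'} : Set X) ∈ L := ha'.2.2.2
      have hne : l ≠ {x, a, a'} := by
        rintro rfl
        exact hxl (by simp)
      have hint : (l ∩ {x, a, a'}).Nonempty := ⟨a, hal, by simp⟩
      have hSsub : l ∪ {x, a, a'} ⊆ span L (l ∪ {x, a, a'}) := subset_lineSpan L _
      have hSsp : IsSubspace L (span L (l ∪ {x, a, a'})) := isSubspace_lineSpan L _
      have hxS : x ∈ span L (l ∪ {x, a, a'}) := hSsub (Or.inr (by simp))
      have hlS : l ⊆ span L (l ∪ {x, a, a'}) := fun t ht => hSsub (Or.inl ht)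
      rcases hplane l hl _ hm hne hint with ⟨e, he⟩ | ⟨e, he⟩
      · exact lineMap_image_mem_of_plane hPL hSsp e he dual_lineMap_image hxS hl hlS
      · exact lineMap_image_mem_of_plane hPL hSsp e he affine_lineMap_image hxS hl hlS
    · have hfix : ∀ y ∈ l, lineMap L x y = y := fun y hy =>
        lineMap_eq_self (fun ⟨z, hz⟩ => hcol ⟨y, hy, z, hz⟩)
      have himg : lineMap L x '' l = l := by
        ext t
        constructor
        · rintro ⟨y, hy, rfl⟩
          rw [hfix y hy]
          exact hy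
        · intro ht
          exact ⟨t, ht, hfix t ht⟩
      rw [himg]
      exact hl

/-- In a Fischer space the map `t(x)` is an automorphism of the line system. -/
theorem lineMap_isIso {L : Set (Set X)} (hF : IsFischerSpace L) (x : X) (σ : Equiv.Perm X)
    (hσ : ⇑σ = lineMap L x) : IsIso L L σ := by
  intro l
  rw [hσ]
  constructor
  · intro hl
    exact lineMap_image_mem hF x hl
  · intro hl
    have h := lineMap_image_mem hF x hl
    rw [Set.image_image] at h
    have h2 : (fun y => lineMap L x (lineMap L x y)) '' l = l := by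
      ext t
      simp only [Set.mem_image, lineMap_involutive hF.1 x _]
      simp
    rw [h2] at h
    exact h

end Fischer


end Cfsg.Agent.Lib.helper91
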