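import Mathlib
import Cfsg.Prelude.Def_FischerSpaces
import Cfsg.Agent.Lib.helper91.FischerSpace
import Cfsg.Agent.Lib.helper91.ThreeTrans

set_option autoImplicit false

namespace Cfsg.Agent.Lib.helper91

open Cfsg Cfsg.LineSystem

section Recognition
variable {X : Type*} {Y : Type*}

/-- A ternary relation symmetric under the transpositions (12) and (23) holds for every
rearrangement of a triple. -/
theorem perm_rel (T : X → X → X → Prop) (h12 : ∀ x y z, T x y z → T y x z)
    (h23 : ∀ x y z, T x y z → T x z y) {x y z p q r : X} (hT : T x y z) (hpq : p ≠ q)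
    (hpr : p ≠ r) (hqr : q ≠ r) (hset : ({p, q, r} : Set X) = {x, y, z}) : T p q r := by
  have hp : p ∈ ({x, y, z} : Set X) := by rw [← hset]; simp
  have hq : q ∈ ({x, y, z} : Set X) := by rw [← hset]; simp
  have hr : r ∈ ({x, y, z} : Set X) := by rw [← hset]; simp
  simp only [Set.mem_insert_iff, Set.mem_singleton_iff] at hp hq hr
  rcases hp with rfl | rfl | rfl <;> rcases hq with rfl | rfl | rfl <;>
    rcases hr with rfl | rfl | rfl <;>
    first
      | exact absurd rfl hpq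
      | exact absurd rfl hpr
      | exact absurd rfl hqr
      | exact hT
      | exact h12 _ _ _ hT
      | exact h23 _ _ _ hT
      | exact h12 _ _ _ (h23 _ _ _ hT)
      | exact h23 _ _ _ (h12 _ _ _ hT)
      | exact h23 _ _ _ (h12 _ _ _ (h23 _ _ _ hT))

/-- Recognition of a plane: a parametrisation `P : Y → X` of a set of points by a model line system `M`
such that every line of `M` is a triple going to a line of `L`, non-collinear pairs of `M` go to
non-collinear pairs, and the image is generated by `A`, identifies the subspace generated by `A`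
with `M`. -/
theorem plane_iso_of_param {L : Set (Set X)} (hPL : IsPartialLinear L) (h3 : ∀ l ∈ L, l.ncard = 3)
    {M : Set (Set Y)} (A : Set X) (P : Y → X) (hinj : Function.Injective P)
    (hb : ∀ m ∈ M, ∃ u v w, m = {u, v, w} ∧ Third L (P u) (P v) (P w))
    (hc : ∀ u v, u ≠ v → (¬∃ w, Third M u v w) → ¬∃ z, Third L (P u) (P v) z)
    (hA : A ⊆ Set.range P) (hspan : ∀ u, P u ∈ span L A) :
    Isomorphic (restrict L (span L A)) M := by
  -- thirds in `M` go to thirds in `L`
  have hb2 : ∀ u v w, Third M u v w → Third L (P u) (P v) (P w) := by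
    rintro u v w ⟨h1, h2, h3', hm⟩
    obtain ⟨u', v', w', hset, hT⟩ := hb _ hm
    exact perm_rel (fun x y z => Third L (P x) (P y) (P z)) (fun _ _ _ h => h.symm)
      (fun _ _ _ h => h.swap23) hT h3' (Ne.symm h1) (Ne.symm h2) hset
  -- lines through two points of the image
  have hline : ∀ l ∈ L, ∀ u v, u ≠ v → P u ∈ l → P v ∈ l →
      ∃ w, Third M u v w ∧ l = {P u, P v, P w} := by
    intro l hl u v huv hu hv
    obtain ⟨z, hz, hlz⟩ := exists_third_of_mem h3 hl hu hv (fun h => huv (hinj h))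
    by_cases hw : ∃ w, Third M u v w
    · obtain ⟨w, hw⟩ := hw
      have hzw : z = P w := hz.unique hPL (hb2 u v w hw)
      exact ⟨w, hw, by rw [hlz, hzw]⟩
    · exact absurd ⟨z, hz⟩ (hc u v huv hw)
  have hsub : IsSubspace L (Set.range P) := by
    rintro l hl _ ⟨u, rfl⟩ _ ⟨v, rfl⟩ hne hu hv
    obtain ⟨w, -, hlw⟩ := hline l hl u v (fun h => hne (by rw [h])) hu hv
    rw [hlw]
    rintro t ht
    simp only [Set.mem_insert_iff, Set.mem_singleton_iff] at ht
    rcases ht with rfl | rfl | rfl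
    · exact ⟨u, rfl⟩
    · exact ⟨v, rfl⟩
    · exact ⟨w, rfl⟩
  have hS : span L A ⊆ Set.range P := Set.sInter_subset_of_mem ⟨hA, hsub⟩
  let f : Y ≃ span L A := Equiv.ofBijective (fun u => (⟨P u, hspan u⟩ : span L A))
    ⟨fun u v h => hinj (congrArg Subtype.val h), fun s => by
      obtain ⟨u, hu⟩ := hS s.2
      exact ⟨u, Subtype.ext hu⟩⟩
  have hf : ∀ u, ((f u : span L A) : X) = P u := fun u => rfl
  refine ⟨f.symm, ?_⟩
  intro n'
  rw [Equiv.image_symm_eq_preimage]
  constructor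
  · rintro ⟨n, hn, hnS, rfl⟩
    obtain ⟨a, b, c, hab, hac, hbc, hnabc⟩ := Set.ncard_eq_three.mp (h3 n hn)
    have ha : a ∈ n := by rw [hnabc]; simp
    have hb' : b ∈ n := by rw [hnabc]; simp
    obtain ⟨u, rfl⟩ := hS (hnS ha)
    obtain ⟨v, rfl⟩ := hS (hnS hb')
    obtain ⟨w, hw, hnw⟩ := hline n hn u v (fun h => hab (by rw [h])) ha hb'
    have hset : f ⁻¹' {s : span L A | (s : X) ∈ n} = {u, v, w} := by
      ext t
      simp only [Set.mem_preimage, Set.mem_ofPred_eq, hf, hnw, Set.mem_insert_iff,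
        Set.mem_singleton_iff, hinj.eq_iff]
    rw [hset]
    exact hw.2.2.2
  · intro hm
    obtain ⟨u, v, w, hset, hT⟩ := hb _ hm
    refine ⟨{P u, P v, P w}, hT.2.2.2, ?_, ?_⟩
    · intro t ht
      simp only [Set.mem_insert_iff, Set.mem_singleton_iff] at ht
      rcases ht with rfl | rfl | rfl
      · exact hspan u
      · exact hspan v
      · exact hspan w
    · ext s
      have hs : s ∈ n' ↔ f.symm s ∈ f ⁻¹' n' := by
        rw [Set.mem_preimage, Equiv.apply_symm_apply]
      rw [hs, hset]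
      have hs2 : (s : X) = P (f.symm s) := by
        rw [← hf, Equiv.apply_symm_apply]
      simp only [Set.mem_insert_iff, Set.mem_singleton_iff, Set.mem_ofPred_eq]
      rw [hs2, hinj.eq_iff, hinj.eq_iff, hinj.eq_iff]

end Recognition

section DualModel

/-- The six points of the dual affine plane of order two. -/
def p01 : DualAffinePoint := ⟨{0, 1}, by decide⟩
def p02 : DualAffinePoint := ⟨{0, 2}, by decide⟩
def p03 : DualAffinePoint := ⟨{0, 3}, by decide⟩
def p12 : DualAffinePoint := ⟨{1, 2}, by decide⟩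
def p13 : DualAffinePoint := ⟨{1, 3}, by decide⟩
def p23 : DualAffinePoint := ⟨{2, 3}, by decide⟩

set_option synthInstance.maxSize 2000 in
set_option synthInstance.maxHeartbeats 200000 in
theorem dual_cases : ∀ s : DualAffinePoint,
    s = p01 ∨ s = p02 ∨ s = p03 ∨ s = p12 ∨ s = p13 ∨ s = p23 := by
  decide +kernel

set_option synthInstance.maxSize 2000 in
set_option synthInstance.maxHeartbeats 200000 in
theorem dual_noncollinear : ∀ u v : DualAffinePoint, u ≠ v → (∀ w : DualAffinePoint, ¬DualR u v w) →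
    (u = p01 ∧ v = p23) ∨ (u = p23 ∧ v = p01) ∨ (u = p12 ∧ v = p03) ∨ (u = p03 ∧ v = p12) ∨
    (u = p02 ∧ v = p13) ∨ (u = p13 ∧ v = p02) := by
  decide +kernel

/-- The line of the dual affine plane avoiding `i` is any triple of distinct points avoiding `i`. -/
theorem dual_line_eq (i : Fin 4) (u v w : DualAffinePoint) (huv : u ≠ v) (hwu : w ≠ u) (hwv : w ≠ v)
    (hu : i ∉ u.1) (hv : i ∉ v.1) (hw : i ∉ w.1) :
    {s : DualAffinePoint | i ∉ s.1} = {u, v, w} := by
  ext s
  constructor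
  · intro hs
    exact dual_dec1 i u hu v huv hv w hwu hwv hw s hs
  · intro hs
    simp only [Set.mem_insert_iff, Set.mem_singleton_iff] at hs
    rcases hs with rfl | rfl | rfl
    · exact hu
    · exact hv
    · exact hw

variable {X : Type*}

/-- The parametrisation of six points by the dual affine plane. -/
def dualP (pa pb pb' pc pc' pd : X) (s : DualAffinePoint) : X :=
  if (0 : Fin 4) ∈ s.1 then (if (1 : Fin 4) ∈ s.1 then pa else if (2 : Fin 4) ∈ s.1 then pb' else pc)
  else (if (1 : Fin 4) ∈ s.1 then (if (2 : Fin 4) ∈ s.1 then pb else pc') else pd)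

theorem dualP_01 (pa pb pb' pc pc' pd : X) : dualP pa pb pb' pc pc' pd p01 = pa := by
  unfold dualP
  rw [if_pos (by decide), if_pos (by decide)]

theorem dualP_02 (pa pb pb' pc pc' pd : X) : dualP pa pb pb' pc pc' pd p02 = pb' := by
  unfold dualP
  rw [if_pos (by decide), if_neg (by decide), if_pos (by decide)]

theorem dualP_03 (pa pb pb' pc pc' pd : X) : dualP pa pb pb' pc pc' pd p03 = pc := by
  unfold dualP
  rw [if_pos (by decide), if_neg (by decide), if_neg (by decide)]

theorem dualP_12 (pa pb pb' pc pc' pd : X) : dualP pa pb pb' pc pc' pd p12 = pb := by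
  unfold dualP
  rw [if_neg (by decide), if_pos (by decide), if_pos (by decide)]

theorem dualP_13 (pa pb pb' pc pc' pd : X) : dualP pa pb pb' pc pc' pd p13 = pc' := by
  unfold dualP
  rw [if_neg (by decide), if_pos (by decide), if_neg (by decide)]

theorem dualP_23 (pa pb pb' pc pc' pd : X) : dualP pa pb pb' pc pc' pd p23 = pd := by
  unfold dualP
  rw [if_neg (by decide), if_neg (by decide)]

/-- Six points forming four lines `{a,b,b'}`, `{a,c,c'}`, `{b,c',d}`, `{b',c,d}` with the three remaining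
pairs non-collinear and different span a dual affine plane of order two. -/
theorem plane_iso_dual {L : Set (Set X)} (hPL : IsPartialLinear L) (h3 : ∀ l ∈ L, l.ncard = 3)
    {pa pb pb' pc pc' pd : X} (l3 : Third L pa pb pb') (l2 : Third L pa pc pc')
    (l0 : Third L pb pc' pd) (l1 : Third L pb' pc pd)
    (n1 : ¬∃ z, Third L pa pd z) (n2 : ¬∃ z, Third L pb pc z) (n3 : ¬∃ z, Third L pb' pc' z)
    (d1 : pa ≠ pd) (d2 : pb ≠ pc) (d3 : pb' ≠ pc') :
    Isomorphic (restrict L (span L ({pa, pb, pb'} ∪ {pa, pc, pc'}))) dualAffinePlaneTwo := by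
  have e01 := dualP_01 pa pb pb' pc pc' pd
  have e02 := dualP_02 pa pb pb' pc pc' pd
  have e03 := dualP_03 pa pb pb' pc pc' pd
  have e12 := dualP_12 pa pb pb' pc pc' pd
  have e13 := dualP_13 pa pb pb' pc pc' pd
  have e23 := dualP_23 pa pb pb' pc pc' pd
  apply plane_iso_of_param hPL h3 _ (dualP pa pb pb' pc pc' pd)
  · -- injectivity
    have ab := l3.2.2.1
    have ab' := l3.1.symm
    have bb' := l3.2.1.symm
    have ac := l2.2.2.1
    have ac' := l2.1.symm
    have cc' := l2.2.1.symm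
    have bc' := l0.2.2.1
    have bd := l0.1.symm
    have c'd := l0.2.1.symm
    have b'c := l1.2.2.1
    have b'd := l1.1.symm
    have cd := l1.2.1.symm
    intro s s' h
    rcases dual_cases s with rfl | rfl | rfl | rfl | rfl | rfl <;>
      rcases dual_cases s' with rfl | rfl | rfl | rfl | rfl | rfl <;>
      simp only [e01, e02, e03, e12, e13, e23] at h <;>
      first
        | rfl
        | exact absurd h (by assumption)
        | exact absurd h.symm (by assumption)
  · -- lines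
    rintro m ⟨i, rfl⟩
    fin_cases i
    · exact ⟨p12, p13, p23, dual_line_eq 0 p12 p13 p23 (by decide) (by decide) (by decide)
        (by decide) (by decide) (by decide), by rw [e12, e13, e23]; exact l0⟩
    · exact ⟨p02, p03, p23, dual_line_eq 1 p02 p03 p23 (by decide) (by decide) (by decide)
        (by decide) (by decide) (by decide), by rw [e02, e03, e23]; exact l1⟩
    · exact ⟨p01, p03, p13, dual_line_eq 2 p01 p03 p13 (by decide) (by decide) (by decide)
        (by decide) (by decide) (by decide), by rw [e01, e03, e13]; exact l2⟩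
    · exact ⟨p01, p12, p02, dual_line_eq 3 p01 p12 p02 (by decide) (by decide) (by decide)
        (by decide) (by decide) (by decide), by rw [e01, e12, e02]; exact l3⟩
  · -- non-collinear pairs
    intro u v huv hno
    have hno' : ∀ w : DualAffinePoint, ¬DualR u v w :=
      fun w hw => hno ⟨w, (dual_third_iff u v w).mpr hw⟩
    rcases dual_noncollinear u v huv hno' with ⟨rfl, rfl⟩ | ⟨rfl, rfl⟩ | ⟨rfl, rfl⟩ | ⟨rfl, rfl⟩ |
      ⟨rfl, rfl⟩ | ⟨rfl, rfl⟩
    · rw [e01, e23]; exact n1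
    · rw [e01, e23]; exact fun ⟨z, hz⟩ => n1 ⟨z, hz.symm⟩
    · rw [e12, e03]; exact n2
    · rw [e12, e03]; exact fun ⟨z, hz⟩ => n2 ⟨z, hz.symm⟩
    · rw [e02, e13]; exact n3
    · rw [e02, e13]; exact fun ⟨z, hz⟩ => n3 ⟨z, hz.symm⟩
  · -- A ⊆ range
    intro t ht
    simp only [Set.mem_union, Set.mem_insert_iff, Set.mem_singleton_iff] at ht
    rcases ht with (rfl | rfl | rfl) | (rfl | rfl | rfl)
    · exact ⟨p01, e01⟩
    · exact ⟨p12, e12⟩
    · exact ⟨p02, e02⟩
    · exact ⟨p01, e01⟩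
    · exact ⟨p03, e03⟩
    · exact ⟨p13, e13⟩
  · -- range ⊆ span
    have hA := subset_lineSpan L ({pa, pb, pb'} ∪ {pa, pc, pc'})
    have hSp := isSubspace_lineSpan L ({pa, pb, pb'} ∪ {pa, pc, pc'})
    have ha : pa ∈ span L ({pa, pb, pb'} ∪ {pa, pc, pc'}) := hA (by simp)
    have hb : pb ∈ span L ({pa, pb, pb'} ∪ {pa, pc, pc'}) := hA (by simp)
    have hb' : pb' ∈ span L ({pa, pb, pb'} ∪ {pa, pc, pc'}) := hA (by simp)
    have hc : pc ∈ span L ({pa, pb, pb'} ∪ {pa, pc, pc'}) := hA (by simp)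
    have hc' : pc' ∈ span L ({pa, pb, pb'} ∪ {pa, pc, pc'}) := hA (by simp)
    have hd : pd ∈ span L ({pa, pb, pb'} ∪ {pa, pc, pc'}) :=
      hSp _ l0.2.2.2 pb hb pc' hc' l0.2.2.1 (by simp) (by simp) (by simp)
    intro s
    rcases dual_cases s with rfl | rfl | rfl | rfl | rfl | rfl
    · rw [e01]; exact ha
    · rw [e02]; exact hb'
    · rw [e03]; exact hc
    · rw [e12]; exact hb
    · rw [e13]; exact hc'
    · rw [e23]; exact hd

end DualModel

section AffineModel
variable {X : Type*}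

/-- A line of the affine plane of order three is a triple `{u, v, -u-v}`. -/
theorem affine_line_eq (v0 w0 : Fin 2 → ZMod 3) :
    {x : Fin 2 → ZMod 3 | ∃ c : ZMod 3, x = v0 + c • w0} = {v0, v0 + w0, -v0 - (v0 + w0)} := by
  have k2 : ∀ a b : ZMod 3, a + 2 * b = -a - (a + b) := by decide
  have k4 : ∀ c : ZMod 3, c = 0 ∨ c = 1 ∨ c = 2 := by decide
  ext p
  simp only [Set.mem_insert_iff, Set.mem_singleton_iff, Set.mem_ofPred_eq]
  constructor
  · rintro ⟨c, rfl⟩
    rcases k4 c with rfl | rfl | rfl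
    · left
      simp
    · right
      left
      simp
    · right
      right
      funext i
      simp only [Pi.add_apply, Pi.smul_apply, smul_eq_mul, Pi.sub_apply, Pi.neg_apply]
      exact k2 _ _
  · rintro (rfl | rfl | rfl)
    · exact ⟨0, by simp⟩
    · exact ⟨1, by simp⟩
    · refine ⟨2, ?_⟩
      funext i
      simp only [Pi.add_apply, Pi.smul_apply, smul_eq_mul, Pi.sub_apply, Pi.neg_apply]
      exact (k2 _ _).symm

/-- Nine points parametrised by the affine plane of order three such that `{P u, P v, P (-u-v)}` is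
always a line span an affine plane of order three. -/
theorem plane_iso_affine {L : Set (Set X)} (hPL : IsPartialLinear L) (h3 : ∀ l ∈ L, l.ncard = 3)
    (A : Set X) (P : (Fin 2 → ZMod 3) → X) (hinj : Function.Injective P)
    (hP : ∀ u v, u ≠ v → Third L (P u) (P v) (P (-u - v)))
    (hA : A ⊆ Set.range P) (h0 : P 0 ∈ A) (h1 : P ![1, 0] ∈ A) (h2 : P ![0, 1] ∈ A) :
    Isomorphic (restrict L (span L A)) affinePlaneThree := by
  apply plane_iso_of_param hPL h3 A P hinj
  · rintro m ⟨v0, w0, hw0, rfl⟩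
    refine ⟨v0, v0 + w0, -v0 - (v0 + w0), affine_line_eq v0 w0, hP _ _ ?_⟩
    intro h
    apply hw0
    have := congrArg (fun t => t - v0) h
    simpa using this.symm
  · intro u v huv hno
    exact absurd ⟨-u - v, (affine_third_iff u v _).mpr ⟨huv, rfl⟩⟩ hno
  · exact hA
  · have hA' := subset_lineSpan L A
    have hSp := isSubspace_lineSpan L A
    have hcl : ∀ u v, u ≠ v → P u ∈ span L A → P v ∈ span L A → P (-u - v) ∈ span L A := by
      intro u v huv hu hv
      have hT := hP u v huv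
      exact hSp _ hT.2.2.2 (P u) hu (P v) hv hT.2.2.1 (by simp) (by simp) (by simp)
    have q00 : P ![0, 0] ∈ span L A := by
      have : (![0, 0] : Fin 2 → ZMod 3) = 0 := by decide
      rw [this]
      exact hA' h0
    have q10 : P ![1, 0] ∈ span L A := hA' h1
    have q01 : P ![0, 1] ∈ span L A := hA' h2
    have q20 : P ![2, 0] ∈ span L A := by
      have := hcl ![0, 0] ![1, 0] (by decide) q00 q10
      have e : (-![0, 0] - ![1, 0] : Fin 2 → ZMod 3) = ![2, 0] := by decide
      rwa [e] at this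
    have q02 : P ![0, 2] ∈ span L A := by
      have := hcl ![0, 0] ![0, 1] (by decide) q00 q01
      have e : (-![0, 0] - ![0, 1] : Fin 2 → ZMod 3) = ![0, 2] := by decide
      rwa [e] at this
    have q22 : P ![2, 2] ∈ span L A := by
      have := hcl ![1, 0] ![0, 1] (by decide) q10 q01
      have e : (-![1, 0] - ![0, 1] : Fin 2 → ZMod 3) = ![2, 2] := by decide
      rwa [e] at this
    have q11 : P ![1, 1] ∈ span L A := by
      have := hcl ![0, 0] ![2, 2] (by decide) q00 q22
      have e : (-![0, 0] - ![2, 2] : Fin 2 → ZMod 3) = ![1, 1] := by decide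
      rwa [e] at this
    have q21 : P ![2, 1] ∈ span L A := by
      have := hcl ![1, 0] ![0, 2] (by decide) q10 q02
      have e : (-![1, 0] - ![0, 2] : Fin 2 → ZMod 3) = ![2, 1] := by decide
      rwa [e] at this
    have q12 : P ![1, 2] ∈ span L A := by
      have := hcl ![2, 0] ![0, 1] (by decide) q20 q01
      have e : (-![2, 0] - ![0, 1] : Fin 2 → ZMod 3) = ![1, 2] := by decide
      rwa [e] at this
    have hall : ∀ u : Fin 2 → ZMod 3, u = ![0, 0] ∨ u = ![1, 0] ∨ u = ![2, 0] ∨ u = ![0, 1] ∨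
        u = ![1, 1] ∨ u = ![2, 1] ∨ u = ![0, 2] ∨ u = ![1, 2] ∨ u = ![2, 2] := by decide
    intro u
    rcases hall u with rfl | rfl | rfl | rfl | rfl | rfl | rfl | rfl | rfl <;> assumption

end AffineModel

section TLines
variable {G : Type*} [Group G] {D : Set G}

/-- The third-point relation of the line system of a set of 3-transpositions, in group terms. -/
def TRel (D : Set G) (p q r : D) : Prop := ¬Commute (p : G) q ∧ (r : G) = q * p * (q : G)⁻¹

theorem trel_symm (hT : IsThreeTranspositionSet D) {p q r : D} (h : TRel D p q r) : TRel D q p r := by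
  obtain ⟨hnc, hr⟩ := h
  refine ⟨fun hc => hnc hc.symm, ?_⟩
  rw [hr, tt_inv hT q.2, tt_inv hT p.2]
  exact (tt_braid hT p.2 q.2 hnc).symm

theorem trel_swap23 (hT : IsThreeTranspositionSet D) {p q r : D} (h : TRel D p q r) :
    TRel D p r q := by
  obtain ⟨hnc, hr⟩ := h
  have hpp := tt_sq hT p.2
  have hbr := tt_braid hT p.2 q.2 hnc
  rw [tt_inv hT q.2] at hr
  have hr' : (r : G) = p * q * p := by rw [hr, hbr]
  constructor
  · intro hc
    apply hnc
    have h1 : (p : G) * (p * q * p) = (p * q * p) * p := by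
      rw [← hr']
      exact hc.eq
    have h2 : (q : G) * p = p * q := by
      calc (q : G) * p = (p * p) * q * p := by rw [hpp, one_mul]
        _ = p * (p * q * p) := by group
        _ = (p * q * p) * p := h1
        _ = p * q * (p * p) := by group
        _ = p * q := by rw [hpp, mul_one]
    exact h2.symm
  · rw [tt_inv hT r.2, hr']
    calc (q : G) = (p * p) * q * (p * p) := by rw [hpp, one_mul, mul_one]
      _ = p * (p * q * p) * p := by group
      _ = p * (q * p * q) * p := by rw [hbr]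
      _ = p * q * (p * (q : G)) * p := by group
      _ = p * q * (p * (p * p) * q) * p := by rw [hpp, mul_one]
      _ = (p * q * p) * p * (p * q * p) := by group

theorem tl_third_iff (hT : IsThreeTranspositionSet D) (hconj : ∀ g : G, ∀ d ∈ D, g * d * g⁻¹ ∈ D)
    (p q r : D) : Third (threeTranspositionLines D) p q r ↔ TRel D p q r := by
  constructor
  · rintro ⟨h1, h2, h3, x, y, hxy, hset⟩
    have hbase : TRel D x y ⟨(y : G) * x * (y : G)⁻¹, hconj y x x.2⟩ := ⟨hxy, rfl⟩
    have hset' : ({p, q, r} : Set D) = {x, y, ⟨(y : G) * x * (y : G)⁻¹, hconj y x x.2⟩} := by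
      rw [hset]
      ext z
      simp only [Set.mem_insert_iff, Set.mem_singleton_iff, Set.mem_ofPred_eq, Subtype.ext_iff]
    exact perm_rel (TRel D) (fun _ _ _ h => trel_symm hT h) (fun _ _ _ h => trel_swap23 hT h) hbase
      h3 (Ne.symm h1) (Ne.symm h2) hset'
  · rintro ⟨hnc, hr⟩
    refine ⟨?_, ?_, ?_, p, q, hnc, ?_⟩
    · intro h
      apply hnc
      have h1 : (q : G) * p * (q : G)⁻¹ = p := by rw [← hr, h]
      exact (mul_inv_eq_iff_eq_mul.mp h1).symm
    · intro h
      apply hnc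
      have h1 : (q : G) * p * (q : G)⁻¹ = q := by rw [← hr, h]
      have h2 : (p : G) = q := mul_left_cancel (mul_inv_eq_iff_eq_mul.mp h1)
      rw [h2]
    · intro h
      apply hnc
      rw [h]
    · ext z
      simp only [Set.mem_insert_iff, Set.mem_singleton_iff, Set.mem_ofPred_eq, Subtype.ext_iff, hr]

theorem tl_ncard (hT : IsThreeTranspositionSet D) (hconj : ∀ g : G, ∀ d ∈ D, g * d * g⁻¹ ∈ D) :
    ∀ l ∈ threeTranspositionLines D, l.ncard = 3 := by
  rintro l ⟨x, y, hxy, rfl⟩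
  have hT3 : Third (threeTranspositionLines D) x y ⟨(y : G) * x * (y : G)⁻¹, hconj y x x.2⟩ :=
    (tl_third_iff hT hconj _ _ _).mpr ⟨hxy, rfl⟩
  rw [Set.ncard_eq_three]
  refine ⟨x, y, ⟨(y : G) * x * (y : G)⁻¹, hconj y x x.2⟩, hT3.2.2.1, hT3.1.symm, hT3.2.1.symm, ?_⟩
  ext z
  simp only [Set.mem_insert_iff, Set.mem_singleton_iff, Set.mem_ofPred_eq, Subtype.ext_iff]

theorem tl_partialLinear (hT : IsThreeTranspositionSet D)
    (hconj : ∀ g : G, ∀ d ∈ D, g * d * g⁻¹ ∈ D) : IsPartialLinear (threeTranspositionLines D) := by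
  intro l hl m hm x y hxy hxl hyl hxm hym
  obtain ⟨z, hz, hlz⟩ := exists_third_of_mem (tl_ncard hT hconj) hl hxl hyl hxy
  obtain ⟨z', hz', hmz⟩ := exists_third_of_mem (tl_ncard hT hconj) hm hxm hym hxy
  have hzz : z = z' := Subtype.ext (by
    rw [((tl_third_iff hT hconj _ _ _).mp hz).2, ((tl_third_iff hT hconj _ _ _).mp hz').2])
  rw [hlz, hmz, hzz]

/-! ### The `S₄` configuration -/

theorem s4_f9 {a b c : G} (aa : a * a = 1) (hbc : b * c = c * b) :
    (a * b * a) * (a * c * a) = (a * c * a) * (a * b * a) := by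
  calc (a * b * a) * (a * c * a) = a * b * (a * a) * c * a := by group
    _ = a * (b * c) * a := by rw [aa]; group
    _ = a * (c * b) * a := by rw [hbc]
    _ = a * c * (a * a) * b * a := by rw [aa]; group
    _ = (a * c * a) * (a * b * a) := by group

theorem s4_f8 {a b c : G} (hab : a * b * a = b * a * b) (hbc : b * c = c * b) :
    a * (b * (a * c * a) * b) = (b * (a * c * a) * b) * a := by
  calc a * (b * (a * c * a) * b) = (a * b * a) * (c * a * b) := by group
    _ = (b * a * b) * (c * a * b) := by rw [hab]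
    _ = b * a * (b * c) * a * b := by group
    _ = b * a * (c * b) * a * b := by rw [hbc]
    _ = b * a * c * (b * a * b) := by group
    _ = b * a * c * (a * b * a) := by rw [← hab]
    _ = (b * (a * c * a) * b) * a := by group

theorem s4_f7 {a b c : G} (hab : a * b * a = b * a * b) (hac : a * c * a = c * a * c)
    (hbc : b * c = c * b) : c * (a * b * a) * c = b * (a * c * a) * b := by
  calc c * (a * b * a) * c = c * (b * a * b) * c := by rw [hab]
    _ = (c * b) * a * (b * c) := by group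
    _ = (b * c) * a * (c * b) := by rw [hbc]
    _ = b * (c * a * c) * b := by group
    _ = b * (a * c * a) * b := by rw [← hac]

/-- Two lines `{a, b, b'}` and `{a, c, c'}` of the line system of a set of 3-transpositions with `b`, `c`
commuting and different span a dual affine plane of order two. -/
theorem tl_dual_case (hT : IsThreeTranspositionSet D) (hconj : ∀ g : G, ∀ d ∈ D, g * d * g⁻¹ ∈ D)
    {pa pb pb' pc pc' : D} (hb : Third (threeTranspositionLines D) pa pb pb')
    (hc : Third (threeTranspositionLines D) pa pc pc') (hbc : Commute (pb : G) pc) (hne : pb ≠ pc) :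
    Isomorphic (restrict (threeTranspositionLines D)
      (span (threeTranspositionLines D) ({pa, pb, pb'} ∪ {pa, pc, pc'}))) dualAffinePlaneTwo := by
  have hPL := tl_partialLinear hT hconj
  have h3 := tl_ncard hT hconj
  obtain ⟨hnab, hb'⟩ := (tl_third_iff hT hconj _ _ _).mp hb
  obtain ⟨hnac, hc'⟩ := (tl_third_iff hT hconj _ _ _).mp hc
  have aa := tt_sq hT pa.2
  have bb := tt_sq hT pb.2
  have cc := tt_sq hT pc.2
  have hab := tt_braid hT pa.2 pb.2 hnab
  have hac := tt_braid hT pa.2 pc.2 hnac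
  rw [tt_inv hT pb.2, ← hab] at hb'
  rw [tt_inv hT pc.2, ← hac] at hc'
  have hbc' : (pb : G) * pc = pc * pb := hbc.eq
  -- the sixth point
  have hdmem : (pb : G) * pc' * (pb : G)⁻¹ ∈ D := hconj _ _ pc'.2
  have hd : ((⟨(pb : G) * pc' * (pb : G)⁻¹, hdmem⟩ : D) : G) = pb * (pa * pc * pa) * pb := by
    show (pb : G) * pc' * (pb : G)⁻¹ = pb * (pa * pc * pa) * pb
    rw [tt_inv hT pb.2, hc']
  have f9 := s4_f9 (b := (pb : G)) (c := (pc : G)) aa hbc'
  have f8 := s4_f8 hab hbc'
  have f7 := s4_f7 hab hac hbc'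
  -- non-commuting pairs
  have f5 : ¬Commute (pc' : G) pb := by
    intro h
    apply hnac
    have h1 : (pb : G) * (pa * pc * pa) * pb = pa * pc * pa := by
      have h2 : (pb : G) * (pa * pc * pa) = (pa * pc * pa) * pb := by
        rw [← hc']
        exact h.eq.symm
      rw [h2, mul_assoc, bb, mul_one]
    rw [h1] at f8
    have h3' : (pc : G) * pa = pa * pc := by
      calc (pc : G) * pa = (pa * pa) * pc * pa := by rw [aa, one_mul]
        _ = pa * (pa * pc * pa) := by group
        _ = (pa * pc * pa) * pa := f8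
        _ = pa * pc * (pa * pa) := by group
        _ = pa * pc := by rw [aa, mul_one]
    exact h3'.symm
  have f6 : ¬Commute (pb' : G) pc := by
    intro h
    apply hnab
    have h1 : (pb : G) * (pa * pc * pa) * pb = pa * pb * pa := by
      rw [← f7]
      have h2 : (pc : G) * (pa * pb * pa) = (pa * pb * pa) * pc := by
        rw [← hb']
        exact h.eq.symm
      rw [h2, mul_assoc, cc, mul_one]
    rw [h1] at f8
    have h3' : (pb : G) * pa = pa * pb := by
      calc (pb : G) * pa = (pa * pa) * pb * pa := by rw [aa, one_mul]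
        _ = pa * (pa * pb * pa) := by group
        _ = (pa * pb * pa) * pa := f8
        _ = pa * pb * (pa * pa) := by group
        _ = pa * pb := by rw [aa, mul_one]
    exact h3'.symm
  have hcancel : ∀ u v : G, (pa : G) * u * pa = pa * v * pa → u = v := by
    intro u v h
    exact mul_left_cancel (mul_right_cancel h)
  apply plane_iso_dual hPL h3 hb hc (pd := ⟨(pb : G) * pc' * (pb : G)⁻¹, hdmem⟩)
  · -- line {b, c', d}
    exact (tl_third_iff hT hconj _ _ _).mpr (trel_symm hT ⟨f5, rfl⟩)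
  · -- line {b', c, d}
    refine (tl_third_iff hT hconj _ _ _).mpr ⟨f6, ?_⟩
    rw [hd, tt_inv hT pc.2, hb', f7]
  · rintro ⟨z, hz⟩
    apply ((tl_third_iff hT hconj _ _ _).mp hz).1
    show (pa : G) * _ = _ * pa
    rw [hd]
    exact f8
  · rintro ⟨z, hz⟩
    exact ((tl_third_iff hT hconj _ _ _).mp hz).1 hbc
  · rintro ⟨z, hz⟩
    apply ((tl_third_iff hT hconj _ _ _).mp hz).1
    show (pb' : G) * pc' = pc' * pb'
    rw [hb', hc']
    exact f9
  · intro h
    have h1 : (pa : G) = pb * (pa * pc * pa) * pb := by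
      rw [← hd, ← h]
    apply hne
    apply Subtype.ext
    apply hcancel
    calc (pa : G) * pb * pa = pb * pa * pb := hab
      _ = pb * (pb * (pa * pc * pa) * pb) * pb := by rw [← h1]
      _ = (pb * pb) * (pa * pc * pa) * (pb * pb) := by group
      _ = pa * pc * pa := by rw [bb, one_mul, mul_one]
  · exact hne
  · intro h
    apply hne
    apply Subtype.ext
    apply hcancel
    rw [← hb', ← hc', h]

end TLines

section Heis
variable {G : Type*} [Group G]

/-- If `y³ = (xy)³ = (x⁻¹y)³ = 1` then `x` commutes with its conjugate `y⁻¹xy`. -/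
theorem commute_conj_of_cubes {x y : G} (hy : y ^ 3 = 1) (hxy : (x * y) ^ 3 = 1)
    (hxy' : (x⁻¹ * y) ^ 3 = 1) : x * (y⁻¹ * x * y) = (y⁻¹ * x * y) * x := by
  have h1 : x * y * x = y⁻¹ * x⁻¹ * y⁻¹ := by
    have h : (x * y * x) * (y * x * y) = 1 := by
      rw [← hxy]
      simp only [pow_succ, pow_zero, one_mul, mul_assoc]
    rw [eq_inv_of_mul_eq_one_left h]
    group
  have h2 : y * x⁻¹ * y = x * y⁻¹ * x := by
    have h : (x⁻¹ * y * x⁻¹) * (y * x⁻¹ * y) = 1 := by
      rw [← hxy']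
      simp only [pow_succ, pow_zero, one_mul, mul_assoc]
    rw [eq_inv_of_mul_eq_one_right h]
    group
  have hy2 : y * y = y⁻¹ := by
    have h : y * y * y = 1 := by
      rw [← hy]
      simp only [pow_succ, pow_zero, one_mul]
    exact eq_inv_of_mul_eq_one_left h
  have hy2' : y⁻¹ * y⁻¹ = y := by
    rw [← mul_inv_rev, hy2, inv_inv]
  calc x * (y⁻¹ * x * y) = (x * y⁻¹ * x) * y := by group
    _ = (y * x⁻¹ * y) * y := by rw [h2]
    _ = y * x⁻¹ * (y * y) := by group
    _ = y * x⁻¹ * y⁻¹ := by rw [hy2]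
    _ = (y⁻¹ * y⁻¹) * x⁻¹ * y⁻¹ := by rw [hy2']
    _ = y⁻¹ * (y⁻¹ * x⁻¹ * y⁻¹) := by group
    _ = y⁻¹ * (x * y * x) := by rw [h1]
    _ = (y⁻¹ * x * y) * x := by group

/-- In a group generated by elements `x`, `y` of order 3 inverted by an involution `a`, with `xy` and
`x⁻¹y` of order 3, the commutator `y⁻¹x⁻¹yx` commutes with `y` and `a`. -/
theorem heis_central {a x y : G} (haa : a * a = 1) (hax : a * x * a = x⁻¹) (hay : a * y * a = y⁻¹)
    (hx : x ^ 3 = 1) (hy : y ^ 3 = 1) (hxy : (x * y) ^ 3 = 1) (hxy' : (x⁻¹ * y) ^ 3 = 1) :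
    Commute (y⁻¹ * x⁻¹ * y * x) y ∧ Commute (y⁻¹ * x⁻¹ * y * x) a := by
  have c1 : Commute x (y⁻¹ * x * y) := commute_conj_of_cubes hy hxy hxy'
  have hyx : (y * x) ^ 3 = 1 := by
    have h : y * x = x⁻¹ * (x * y) * x⁻¹⁻¹ := by group
    rw [h, conj_pow, hxy]
    group
  have hyx' : (y⁻¹ * x) ^ 3 = 1 := by
    have h : y⁻¹ * x = (x⁻¹ * y)⁻¹ := by group
    rw [h, inv_pow, hxy', inv_one]
  have c1' : Commute y (x⁻¹ * y * x) := commute_conj_of_cubes hx hyx hyx'
  have hwy : Commute (y⁻¹ * x⁻¹ * y * x) y := by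
    show (y⁻¹ * x⁻¹ * y * x) * y = y * (y⁻¹ * x⁻¹ * y * x)
    calc (y⁻¹ * x⁻¹ * y * x) * y = y⁻¹ * ((x⁻¹ * y * x) * y) := by group
      _ = y⁻¹ * (y * (x⁻¹ * y * x)) := by rw [c1'.eq]
      _ = y * (y⁻¹ * x⁻¹ * y * x) := by group
  have hwx : Commute (y⁻¹ * x⁻¹ * y * x) x := by
    have h : y⁻¹ * x⁻¹ * y * x = (y⁻¹ * x * y)⁻¹ * x := by group
    rw [h]
    exact (c1.inv_right.symm).mul_left (Commute.refl x)
  refine ⟨hwy, ?_⟩
  have ha_inv : a⁻¹ = a := inv_eq_of_mul_eq_one_left haa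
  have hayi : a * y⁻¹ * a = y := by
    have h := congrArg Inv.inv hay
    simp only [mul_inv_rev, ha_inv, inv_inv] at h
    rw [← mul_assoc] at h
    exact h
  have haxi : a * x⁻¹ * a = x := by
    have h := congrArg Inv.inv hax
    simp only [mul_inv_rev, ha_inv, inv_inv] at h
    rw [← mul_assoc] at h
    exact h
  have hawa : a * (y⁻¹ * x⁻¹ * y * x) * a = y⁻¹ * x⁻¹ * y * x := by
    have hwy' : (y⁻¹ * x⁻¹ * y * x) * y⁻¹ = y⁻¹ * (y⁻¹ * x⁻¹ * y * x) := hwy.inv_right.eq
    have hwx' : (y⁻¹ * x⁻¹ * y * x) * x⁻¹ = x⁻¹ * (y⁻¹ * x⁻¹ * y * x) := hwx.inv_right.eq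
    calc a * (y⁻¹ * x⁻¹ * y * x) * a
        = a * y⁻¹ * (a * a) * x⁻¹ * (a * a) * y * (a * a) * x * a := by rw [haa]; group
      _ = (a * y⁻¹ * a) * (a * x⁻¹ * a) * (a * y * a) * (a * x * a) := by group
      _ = y * x * y⁻¹ * x⁻¹ := by rw [hayi, haxi, hay, hax]
      _ = x * y * ((y⁻¹ * x⁻¹ * y * x) * y⁻¹) * x⁻¹ := by group
      _ = x * y * (y⁻¹ * (y⁻¹ * x⁻¹ * y * x)) * x⁻¹ := by rw [hwy']
      _ = x * ((y⁻¹ * x⁻¹ * y * x) * x⁻¹) := by group
      _ = x * (x⁻¹ * (y⁻¹ * x⁻¹ * y * x)) := by rw [hwx']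
      _ = y⁻¹ * x⁻¹ * y * x := by group
  show (y⁻¹ * x⁻¹ * y * x) * a = a * (y⁻¹ * x⁻¹ * y * x)
  calc (y⁻¹ * x⁻¹ * y * x) * a = (a * (y⁻¹ * x⁻¹ * y * x) * a) * a := by rw [hawa]
    _ = a * (y⁻¹ * x⁻¹ * y * x) * (a * a) := by group
    _ = a * (y⁻¹ * x⁻¹ * y * x) := by rw [haa, mul_one]

/-- Power by a residue modulo 3. -/
def zp (z : G) (k : ZMod 3) : G := z ^ k.val

theorem zp_add {z : G} (hz : z ^ 3 = 1) (k l : ZMod 3) : zp z (k + l) = zp z k * zp z l := by
  unfold zp
  rw [ZMod.val_add, ← pow_add]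
  conv_rhs => rw [← Nat.mod_add_div (k.val + l.val) 3, pow_add, pow_mul, hz, one_pow, mul_one]

theorem zp_zero (z : G) : zp z 0 = 1 := by
  simp [zp]

theorem zp_one (z : G) : zp z 1 = z := by
  simp [zp, ZMod.val_one]

theorem zp_neg {z : G} (hz : z ^ 3 = 1) (k : ZMod 3) : zp z (-k) = (zp z k)⁻¹ := by
  apply eq_inv_of_mul_eq_one_left
  rw [← zp_add hz, neg_add_cancel, zp_zero]

theorem zp_conj (a z : G) (k : ZMod 3) : a * zp z k * a⁻¹ = zp (a * z * a⁻¹) k := by
  unfold zp
  rw [conj_pow]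

theorem zp_inv {z : G} (hz : z ^ 3 = 1) (k : ZMod 3) : zp z⁻¹ k = zp z (-k) := by
  rw [zp_neg hz]
  unfold zp
  rw [inv_pow]

/-- The nine conjugates of `a` under the words `x^i y^j`. -/
def Q9 (a x y : G) (i j : ZMod 3) : G := (zp x i * zp y j) * a * (zp x i * zp y j)⁻¹

theorem Q9_00 (a x y : G) : Q9 a x y 0 0 = a := by
  simp [Q9, zp_zero]

theorem Q9_T1 {x : G} (a y : G) (hx : x ^ 3 = 1) (i j : ZMod 3) :
    x * Q9 a x y i j * x⁻¹ = Q9 a x y (i + 1) j := by
  unfold Q9
  rw [add_comm i 1, zp_add hx, zp_one]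
  group

theorem Q9_T2 {a x y : G} (haa : a * a = 1) (hax : a * x * a = x⁻¹) (hay : a * y * a = y⁻¹)
    (hx : x ^ 3 = 1) (hy : y ^ 3 = 1) (hxy : (x * y) ^ 3 = 1) (hxy' : (x⁻¹ * y) ^ 3 = 1)
    (i j : ZMod 3) : y * Q9 a x y i j * y⁻¹ = Q9 a x y i (j + 1) := by
  have key : ∃ ζ, y * zp x i = zp x i * y * ζ ∧ Commute ζ y ∧ Commute ζ a := by
    have hi : ∀ i : ZMod 3, i = 0 ∨ i = 1 ∨ i = 2 := by decide
    rcases hi i with rfl | rfl | rfl
    · exact ⟨1, by simp [zp_zero], Commute.one_left _, Commute.one_left _⟩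
    · refine ⟨y⁻¹ * x⁻¹ * y * x, ?_, heis_central haa hax hay hx hy hxy hxy'⟩
      rw [zp_one]
      group
    · have h2 : zp x 2 = x⁻¹ := by
        have h : (2 : ZMod 3) = -1 := by decide
        rw [h, zp_neg hx, zp_one]
      have hax' : a * x⁻¹ * a = x⁻¹⁻¹ := by
        have h := congrArg Inv.inv hax
        have ha_inv : a⁻¹ = a := inv_eq_of_mul_eq_one_left haa
        simp only [mul_inv_rev, ha_inv] at h
        rw [← mul_assoc] at h
        exact h
      have hx' : x⁻¹ ^ 3 = 1 := by rw [inv_pow, hx, inv_one]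
      have hxy2 : (x⁻¹⁻¹ * y) ^ 3 = 1 := by rw [inv_inv]; exact hxy
      refine ⟨y⁻¹ * x⁻¹⁻¹ * y * x⁻¹, ?_, heis_central haa hax' hay hx' hy hxy' hxy2⟩
      rw [h2]
      group
  obtain ⟨ζ, h1, h2, h3⟩ := key
  unfold Q9
  rw [add_comm j 1, zp_add hy, zp_one]
  have e1 : y * (zp x i * zp y j * a * (zp x i * zp y j)⁻¹) * y⁻¹ =
      (y * zp x i) * zp y j * a * (zp y j)⁻¹ * (y * zp x i)⁻¹ := by group
  rw [e1, h1]
  have hζ : ζ * (zp y j * a * (zp y j)⁻¹) * ζ⁻¹ = zp y j * a * (zp y j)⁻¹ := by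
    have c1 : Commute ζ (zp y j) := h2.pow_right _
    have c2 : Commute ζ (zp y j * a * (zp y j)⁻¹) := (c1.mul_right h3).mul_right c1.inv_right
    rw [c2.eq]
    group
  calc (zp x i * y * ζ) * zp y j * a * (zp y j)⁻¹ * (zp x i * y * ζ)⁻¹
      = zp x i * y * (ζ * (zp y j * a * (zp y j)⁻¹) * ζ⁻¹) * y⁻¹ * (zp x i)⁻¹ := by group
    _ = zp x i * y * (zp y j * a * (zp y j)⁻¹) * y⁻¹ * (zp x i)⁻¹ := by rw [hζ]
    _ = zp x i * (y * zp y j) * a * (zp x i * (y * zp y j))⁻¹ := by group

theorem Q9_T3 {a x y : G} (haa : a * a = 1) (hax : a * x * a = x⁻¹) (hay : a * y * a = y⁻¹)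
    (hx : x ^ 3 = 1) (hy : y ^ 3 = 1) (i j : ZMod 3) :
    a * Q9 a x y i j * a⁻¹ = Q9 a x y (-i) (-j) := by
  have ha_inv : a⁻¹ = a := inv_eq_of_mul_eq_one_left haa
  have e1 : a * zp x i * a⁻¹ = zp x (-i) := by
    rw [zp_conj, ha_inv, hax, zp_inv hx]
  have e2 : a * zp y j * a⁻¹ = zp y (-j) := by
    rw [zp_conj, ha_inv, hay, zp_inv hy]
  unfold Q9
  rw [← e1, ← e2]
  group

theorem Q9_Tx {x : G} (a y : G) (hx : x ^ 3 = 1) (k i j : ZMod 3) :
    zp x k * Q9 a x y i j * (zp x k)⁻¹ = Q9 a x y (i + k) j := by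
  have hk : ∀ k : ZMod 3, k = 0 ∨ k = 1 ∨ k = 2 := by decide
  rcases hk k with rfl | rfl | rfl
  · simp [zp_zero]
  · rw [zp_one]
    exact Q9_T1 a y hx i j
  · have h2 : zp x 2 = x * x := by
      have h : (2 : ZMod 3) = 1 + 1 := by decide
      rw [h, zp_add hx, zp_one]
    have e : i + 2 = i + 1 + 1 := by
      rw [add_assoc]
      rfl
    rw [h2, e, ← Q9_T1 a y hx, ← Q9_T1 a y hx]
    group

theorem Q9_Ty {a x y : G} (haa : a * a = 1) (hax : a * x * a = x⁻¹) (hay : a * y * a = y⁻¹)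
    (hx : x ^ 3 = 1) (hy : y ^ 3 = 1) (hxy : (x * y) ^ 3 = 1) (hxy' : (x⁻¹ * y) ^ 3 = 1)
    (k i j : ZMod 3) : zp y k * Q9 a x y i j * (zp y k)⁻¹ = Q9 a x y i (j + k) := by
  have hk : ∀ k : ZMod 3, k = 0 ∨ k = 1 ∨ k = 2 := by decide
  have T2 := Q9_T2 haa hax hay hx hy hxy hxy'
  rcases hk k with rfl | rfl | rfl
  · simp [zp_zero]
  · rw [zp_one]
    exact T2 i j
  · have h2 : zp y 2 = y * y := by
      have h : (2 : ZMod 3) = 1 + 1 := by decide
      rw [h, zp_add hy, zp_one]
    have e : j + 2 = j + 1 + 1 := by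
      rw [add_assoc]
      rfl
    rw [h2, e, ← T2, ← T2]
    group

theorem Q9_Tg {a x y : G} (haa : a * a = 1) (hax : a * x * a = x⁻¹) (hay : a * y * a = y⁻¹)
    (hx : x ^ 3 = 1) (hy : y ^ 3 = 1) (hxy : (x * y) ^ 3 = 1) (hxy' : (x⁻¹ * y) ^ 3 = 1)
    (k l i j : ZMod 3) :
    (zp x k * zp y l) * Q9 a x y i j * (zp x k * zp y l)⁻¹ = Q9 a x y (i + k) (j + l) := by
  rw [← Q9_Tx a y hx k i (j + l), ← Q9_Ty haa hax hay hx hy hxy hxy' l i j]
  group

theorem Q9_Tg' {a x y : G} (haa : a * a = 1) (hax : a * x * a = x⁻¹) (hay : a * y * a = y⁻¹)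
    (hx : x ^ 3 = 1) (hy : y ^ 3 = 1) (hxy : (x * y) ^ 3 = 1) (hxy' : (x⁻¹ * y) ^ 3 = 1)
    (k l i j : ZMod 3) :
    (zp x k * zp y l)⁻¹ * Q9 a x y i j * (zp x k * zp y l) = Q9 a x y (i - k) (j - l) := by
  have h := Q9_Tg haa hax hay hx hy hxy hxy' k l (i - k) (j - l)
  rw [sub_add_cancel, sub_add_cancel] at h
  rw [← h]
  group

/-- The product rule `P(u) P(v) P(u) = P(-u-v)` for the nine points. -/
theorem Q9_mul {a x y : G} (haa : a * a = 1) (hax : a * x * a = x⁻¹) (hay : a * y * a = y⁻¹)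
    (hx : x ^ 3 = 1) (hy : y ^ 3 = 1) (hxy : (x * y) ^ 3 = 1) (hxy' : (x⁻¹ * y) ^ 3 = 1)
    (i j k l : ZMod 3) :
    Q9 a x y i j * Q9 a x y k l * Q9 a x y i j = Q9 a x y (-i - k) (-j - l) := by
  have ha_inv : a⁻¹ = a := inv_eq_of_mul_eq_one_left haa
  have e0 : Q9 a x y i j = (zp x i * zp y j) * a * (zp x i * zp y j)⁻¹ := rfl
  have h1 : Q9 a x y i j * Q9 a x y k l * Q9 a x y i j =
      (zp x i * zp y j) * (a * ((zp x i * zp y j)⁻¹ * Q9 a x y k l * (zp x i * zp y j)) * a⁻¹) *
        (zp x i * zp y j)⁻¹ := by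
    rw [e0, ha_inv]
    group
  rw [h1, Q9_Tg' haa hax hay hx hy hxy hxy', Q9_T3 haa hax hay hx hy,
    Q9_Tg haa hax hay hx hy hxy hxy']
  have k1 : ∀ i k : ZMod 3, -(k - i) + i = -i - k := by decide
  rw [k1, k1]

end Heis

section TAffine
variable {G : Type*} [Group G] {D : Set G}

theorem tt_cube (hT : IsThreeTranspositionSet D) {a b : G} (ha : a ∈ D) (hb : b ∈ D)
    (h : ¬Commute a b) : (a * b) ^ 3 = 1 := by
  rcases hT.2 a ha b hb with h2 | h3
  · exact absurd (tt_commute_of_sq hT ha hb h2) h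
  · exact h3

/-- The group-theoretic facts behind the affine plane spanned by three pairwise non-commuting
3-transpositions `a`, `b`, `c` with `aba`, `c` non-commuting. -/
theorem affine_group_facts (hT : IsThreeTranspositionSet D)
    (hconj : ∀ g : G, ∀ d ∈ D, g * d * g⁻¹ ∈ D) {a b c : G} (ha : a ∈ D) (hb : b ∈ D) (hc : c ∈ D)
    (hnab : ¬Commute a b) (hnac : ¬Commute a c) (hnbc : ¬Commute b c)
    (hnb'c : ¬Commute (a * b * a) c) :
    (a * a = 1 ∧ a * (a * b) * a = (a * b)⁻¹ ∧ a * (a * c) * a = (a * c)⁻¹ ∧ (a * b) ^ 3 = 1 ∧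
      (a * c) ^ 3 = 1 ∧ ((a * b) * (a * c)) ^ 3 = 1 ∧ ((a * b)⁻¹ * (a * c)) ^ 3 = 1) ∧
    (Q9 a (a * b) (a * c) 1 0 = b ∧ Q9 a (a * b) (a * c) 2 0 = a * b * a ∧
      Q9 a (a * b) (a * c) 0 1 = c ∧ Q9 a (a * b) (a * c) 0 2 = a * c * a) ∧
    (∀ i j : ZMod 3, Q9 a (a * b) (a * c) i j = a → i = 0 ∧ j = 0) := by
  have aa := tt_sq hT ha
  have bb := tt_sq hT hb
  have cc := tt_sq hT hc
  have ia := tt_inv hT ha
  have ib := tt_inv hT hb
  have ic := tt_inv hT hc
  have hab := tt_braid hT ha hb hnab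
  have hac := tt_braid hT ha hc hnac
  have hax : a * (a * b) * a = (a * b)⁻¹ := by
    rw [mul_inv_rev, ia, ib]
    calc a * (a * b) * a = (a * a) * b * a := by group
      _ = b * a := by rw [aa, one_mul]
  have hay : a * (a * c) * a = (a * c)⁻¹ := by
    rw [mul_inv_rev, ia, ic]
    calc a * (a * c) * a = (a * a) * c * a := by group
      _ = c * a := by rw [aa, one_mul]
  have hx : (a * b) ^ 3 = 1 := tt_cube hT ha hb hnab
  have hy : (a * c) ^ 3 = 1 := tt_cube hT ha hc hnac
  have hb'mem : a * b * a ∈ D := by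
    have := hconj a b hb
    rwa [ia] at this
  have hxy : ((a * b) * (a * c)) ^ 3 = 1 := by
    have h : (a * b) * (a * c) = (a * b * a) * c := by group
    rw [h]
    exact tt_cube hT hb'mem hc hnb'c
  have hxy' : ((a * b)⁻¹ * (a * c)) ^ 3 = 1 := by
    have h : (a * b)⁻¹ * (a * c) = b * c := by
      rw [mul_inv_rev, ia, ib]
      calc b * a * (a * c) = b * (a * a) * c := by group
        _ = b * c := by rw [aa, mul_one]
    rw [h]
    exact tt_cube hT hb hc hnbc
  have T1 := Q9_T1 (x := a * b) a (a * c) hx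
  have T2 := Q9_T2 aa hax hay hx hy hxy hxy'
  have T3 := Q9_T3 aa hax hay hx hy
  have q00 := Q9_00 a (a * b) (a * c)
  have q10 : Q9 a (a * b) (a * c) 1 0 = b := by
    have h := T1 0 0
    rw [zero_add, q00] at h
    rw [← h, mul_inv_rev, ia, ib]
    calc a * b * a * (b * a) = a * (b * a * b) * a := by group
      _ = a * (a * b * a) * a := by rw [hab]
      _ = (a * a) * b * (a * a) := by group
      _ = b := by rw [aa, one_mul, mul_one]
  have q20 : Q9 a (a * b) (a * c) 2 0 = a * b * a := by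
    have h := T1 1 0
    have e : (1 : ZMod 3) + 1 = 2 := by decide
    rw [e, q10] at h
    rw [← h, mul_inv_rev, ia, ib]
    calc a * b * b * (b * a) = a * (b * b) * b * a := by group
      _ = a * b * a := by rw [bb, mul_one]
  have q01 : Q9 a (a * b) (a * c) 0 1 = c := by
    have h := T2 0 0
    rw [zero_add, q00] at h
    rw [← h, mul_inv_rev, ia, ic]
    calc a * c * a * (c * a) = a * (c * a * c) * a := by group
      _ = a * (a * c * a) * a := by rw [hac]
      _ = (a * a) * c * (a * a) := by group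
      _ = c := by rw [aa, one_mul, mul_one]
  have q02 : Q9 a (a * b) (a * c) 0 2 = a * c * a := by
    have h := T2 0 1
    have e : (1 : ZMod 3) + 1 = 2 := by decide
    rw [e, q01] at h
    rw [← h, mul_inv_rev, ia, ic]
    calc a * c * c * (c * a) = a * (c * c) * c * a := by group
      _ = a * c * a := by rw [cc, mul_one]
  refine ⟨⟨aa, hax, hay, hx, hy, hxy, hxy'⟩, ⟨q10, q20, q01, q02⟩, ?_⟩
  -- the four basic non-trivial points are different from `a`
  have n10 : Q9 a (a * b) (a * c) 1 0 ≠ a := by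
    rw [q10]
    intro h
    exact hnab (by rw [h])
  have n01 : Q9 a (a * b) (a * c) 0 1 ≠ a := by
    rw [q01]
    intro h
    exact hnac (by rw [h])
  have n11 : Q9 a (a * b) (a * c) 1 1 ≠ a := by
    have h := T1 0 1
    rw [zero_add, q01] at h
    rw [← h, mul_inv_rev, ia, ib]
    intro h2
    have h3 : b * c * b = a := by
      calc b * c * b = (a * a) * b * c * b * (a * a) := by rw [aa]; group
        _ = a * (a * b * c * (b * a)) * a := by group
        _ = a * a * a := by rw [h2]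
        _ = a := by rw [aa, one_mul]
    have h4 : a * b * a = c := by
      calc a * b * a = b * a * b := hab
        _ = b * (b * c * b) * b := by rw [h3]
        _ = (b * b) * c * (b * b) := by group
        _ = c := by rw [bb, one_mul, mul_one]
    exact hnb'c (by rw [h4])
  have n12 : Q9 a (a * b) (a * c) 1 2 ≠ a := by
    have h := T1 0 2
    rw [zero_add, q02] at h
    rw [← h, mul_inv_rev, ia, ib]
    intro h2
    have h3 : b * (a * c * a) * b = a := by
      calc b * (a * c * a) * b = (a * a) * b * (a * c * a) * b * (a * a) := by rw [aa]; group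
        _ = a * (a * b * (a * c * a) * (b * a)) * a := by group
        _ = a * a * a := by rw [h2]
        _ = a := by rw [aa, one_mul]
    have h4 : a * c * a = a * b * a := by
      calc a * c * a = (b * b) * (a * c * a) * (b * b) := by rw [bb, one_mul, mul_one]
        _ = b * (b * (a * c * a) * b) * b := by group
        _ = b * a * b := by rw [h3]
        _ = a * b * a := hab.symm
    have h5 : c = b := mul_left_cancel (mul_right_cancel h4)
    exact hnbc (by rw [h5])
  intro i j hij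
  have hneg : Q9 a (a * b) (a * c) (-i) (-j) = a := by
    rw [← T3, hij, ia, aa, one_mul]
  have hdec : ∀ i j : ZMod 3, (i = 0 ∧ j = 0) ∨ (i = 1 ∧ j = 0) ∨ (i = 0 ∧ j = 1) ∨ (i = 1 ∧ j = 1) ∨
      (i = 1 ∧ j = 2) ∨ (-i = 1 ∧ -j = 0) ∨ (-i = 0 ∧ -j = 1) ∨ (-i = 1 ∧ -j = 1) ∨
      (-i = 1 ∧ -j = 2) := by decide
  rcases hdec i j with h | ⟨rfl, rfl⟩ | ⟨rfl, rfl⟩ | ⟨rfl, rfl⟩ | ⟨rfl, rfl⟩ | ⟨h1, h2⟩ | ⟨h1, h2⟩ |
    ⟨h1, h2⟩ | ⟨h1, h2⟩
  · exact h
  · exact absurd hij n10
  · exact absurd hij n01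
  · exact absurd hij n11
  · exact absurd hij n12
  · rw [h1, h2] at hneg
    exact absurd hneg n10
  · rw [h1, h2] at hneg
    exact absurd hneg n01
  · rw [h1, h2] at hneg
    exact absurd hneg n11
  · rw [h1, h2] at hneg
    exact absurd hneg n12

/-- Two lines `{a, b, b'}` and `{a, c, c'}` of the line system of a set of 3-transpositions with `c`
commuting with neither `b` nor `b'` span an affine plane of order three. -/
theorem tl_affine_case (hT : IsThreeTranspositionSet D) (hconj : ∀ g : G, ∀ d ∈ D, g * d * g⁻¹ ∈ D)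
    {pa pb pb' pc pc' : D} (hb : Third (threeTranspositionLines D) pa pb pb')
    (hc : Third (threeTranspositionLines D) pa pc pc') (hbc : ¬Commute (pb : G) pc)
    (hb'c : ¬Commute (pb' : G) pc) :
    Isomorphic (restrict (threeTranspositionLines D)
      (span (threeTranspositionLines D) ({pa, pb, pb'} ∪ {pa, pc, pc'}))) affinePlaneThree := by
  have hPL := tl_partialLinear hT hconj
  have h3 := tl_ncard hT hconj
  obtain ⟨hnab, hb'⟩ := (tl_third_iff hT hconj _ _ _).mp hb
  obtain ⟨hnac, hc'⟩ := (tl_third_iff hT hconj _ _ _).mp hc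
  have hab := tt_braid hT pa.2 pb.2 hnab
  have hac := tt_braid hT pa.2 pc.2 hnac
  rw [tt_inv hT pb.2, ← hab] at hb'
  rw [tt_inv hT pc.2, ← hac] at hc'
  rw [hb'] at hb'c
  obtain ⟨⟨aa, hax, hay, hx, hy, hxy, hxy'⟩, ⟨q10, q20, q01, q02⟩, hzero⟩ :=
    affine_group_facts hT hconj pa.2 pb.2 pc.2 hnab hnac hbc hb'c
  have q00 := Q9_00 (pa : G) (pa * pb) (pa * pc)
  have hmul := Q9_mul aa hax hay hx hy hxy hxy'
  have hTg' := Q9_Tg' aa hax hay hx hy hxy hxy'
  have hQinj : ∀ i j k l : ZMod 3, Q9 (pa : G) (pa * pb) (pa * pc) i j =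
      Q9 (pa : G) (pa * pb) (pa * pc) k l → i = k ∧ j = l := by
    intro i j k l h
    have h1 := hTg' k l i j
    rw [h, hTg' k l k l, sub_self, sub_self, q00] at h1
    obtain ⟨e1, e2⟩ := hzero _ _ h1.symm
    exact ⟨sub_eq_zero.mp e1, sub_eq_zero.mp e2⟩
  have hmem : ∀ i j : ZMod 3, Q9 (pa : G) (pa * pb) (pa * pc) i j ∈ D := fun i j => hconj _ _ pa.2
  let P : (Fin 2 → ZMod 3) → D := fun u => ⟨Q9 (pa : G) (pa * pb) (pa * pc) (u 0) (u 1), hmem _ _⟩
  have hPval : ∀ u, ((P u : D) : G) = Q9 (pa : G) (pa * pb) (pa * pc) (u 0) (u 1) := fun u => rfl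
  have hPinj : Function.Injective P := by
    intro u v h
    have h1 := congrArg Subtype.val h
    rw [hPval, hPval] at h1
    obtain ⟨e0, e1⟩ := hQinj _ _ _ _ h1
    funext t
    fin_cases t
    · exact e0
    · exact e1
  have e0 : P 0 = pa := Subtype.ext (by rw [hPval]; exact q00)
  have e10 : P ![1, 0] = pb := Subtype.ext (by rw [hPval]; exact q10)
  have e20 : P ![2, 0] = pb' := Subtype.ext (by rw [hPval, hb']; exact q20)
  have e01 : P ![0, 1] = pc := Subtype.ext (by rw [hPval]; exact q01)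
  have e02 : P ![0, 2] = pc' := Subtype.ext (by rw [hPval, hc']; exact q02)
  apply plane_iso_affine hPL h3 _ P hPinj
  · intro u v huv
    have hval : ((P (-u - v) : D) : G) = (P v : G) * (P u : G) * (P v : G)⁻¹ := by
      rw [tt_inv hT (P v).2, hPval, hPval, hPval, hmul]
      have k : ∀ s t : ZMod 3, -s - t = -t - s := by decide
      simp only [Pi.sub_apply, Pi.neg_apply]
      rw [k (u 0), k (u 1)]
    refine (tl_third_iff hT hconj _ _ _).mpr ⟨?_, hval⟩
    intro hcomm
    apply huv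
    have h1 : (P v : G) * (P u : G) * (P v : G) = P u := by
      rw [← hcomm.eq, mul_assoc, tt_sq hT (P v).2, mul_one]
    rw [hPval, hPval, hmul] at h1
    obtain ⟨e1, e2⟩ := hQinj _ _ _ _ h1
    have k : ∀ s t : ZMod 3, -s - t = t → t = s := by decide
    funext t
    fin_cases t
    · exact k _ _ e1
    · exact k _ _ e2
  · intro t ht
    simp only [Set.mem_union, Set.mem_insert_iff, Set.mem_singleton_iff] at ht
    rcases ht with (rfl | rfl | rfl) | (rfl | rfl | rfl)
    · exact ⟨0, e0⟩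
    · exact ⟨![1, 0], e10⟩
    · exact ⟨![2, 0], e20⟩
    · exact ⟨0, e0⟩
    · exact ⟨![0, 1], e01⟩
    · exact ⟨![0, 2], e02⟩
  · rw [e0]
    simp
  · rw [e10]
    simp
  · rw [e01]
    simp

end TAffine

end Cfsg.Agent.Lib.helper91
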