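import Cfsg.Agent.Lib.helper46.GfVQ
import Cfsg.Agent.Lib.helper3.Class2

/-!
# S4395, piece COVQ (racer copy by helper91): the commutator / power structure of a cover

`V = P/N` is taken from the landed piece `vq`; `M = Additive N`; `κ`, `π` are defined through a
section of `pr`.
-/

set_option autoImplicit false

namespace Cfsg.Agent.Lib.helper3.Gf

universe u

open scoped commutatorElement

/-- the commutative group structure of a central subgroup -/
@[reducible] def helper91_commGroupOfCentral {K : Type*} [Group K] (N : Subgroup K)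
    (hN : N ≤ Subgroup.center K) : CommGroup ↥N :=
  { (inferInstance : Group ↥N) with
    mul_comm := fun a b => Subtype.ext (by
      have h1 := Subgroup.mem_center_iff.mp (hN a.2) (b : K)
      exact h1.symm) }

/-- COVQ (racer copy of `covq`) -/
theorem helper91_covq (p q r : ℕ) [Fact p.Prime] [Fact q.Prime] (hpq : p ≠ q) {K : Type u} [Group K] [Finite K]
    (N P : Subgroup K) (y : K) (h : Cov p q r N P y)
    (hexp : ∀ n ∈ N, n ^ p = 1) (hgen : N ≤ Subgroup.closure (CP p P)) :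
    ∃ (V : Type u) (_ : AddCommGroup V) (_ : Finite V) (M : Type u) (_ : AddCommGroup M) (_ : Finite M)
      (T : V ≃+ V) (κ : V → V → M) (π : V → M), Irr p q T ∧
      (∀ u u' v, κ (u + u') v = κ u v + κ u' v) ∧ (∀ u v v', κ u (v + v') = κ u v + κ u v') ∧
      (∀ v, κ v v = 0) ∧ (∀ u v, κ (T u) (T v) = κ u v) ∧
      (∀ u v, π (u + v) = π u + π v + (p.choose 2) • κ v u) ∧ (∀ v, π (T v) = π v) ∧
      AddSubgroup.closure (Set.range (fun uv : V × V => κ uv.1 uv.2) ∪ Set.range π) = ⊤ ∧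
      Nat.card ↥P = Nat.card V * Nat.card M := by
  classical
  obtain ⟨V, iV, iF, T, pr, hI, hsurj, hadd, hker, hT⟩ := vq p q r hpq N P y h
  let iN : CommGroup ↥N := helper91_commGroupOfCentral N h.N_central
  -- central elements
  have hcen : ∀ n ∈ N, ∀ g : K, g * n = n * g := fun n hn g =>
    Subgroup.mem_center_iff.mp (h.N_central hn) g
  have hconjP : ∀ u : K, u ∈ P → y * u * y⁻¹ ∈ P := fun u hu => h.P_normal.conj_mem u hu y
  -- the section
  let s : V → ↥P := Function.surjInv hsurj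
  have hs_pr : ∀ a, pr (s a) = a := Function.surjInv_eq hsurj
  have hpr1 : pr 1 = 0 := (hker 1).mpr (by simp)
  have hprinv : ∀ x : ↥P, pr x⁻¹ = - pr x := by
    intro x
    have h1 := hadd x⁻¹ x
    rw [inv_mul_cancel, hpr1] at h1
    exact eq_neg_of_add_eq_zero_left h1.symm
  have hrep : ∀ (u : ↥P), ∃ n ∈ N, (u : K) = (s (pr u) : K) * n := by
    intro u
    refine ⟨(((s (pr u))⁻¹ * u : ↥P) : K), ?_, ?_⟩
    · rw [← hker, hadd, hprinv, hs_pr]
      exact neg_add_cancel _
    · simp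
  -- the maps
  let val : Additive ↥N → K := fun m => ((Additive.toMul m : ↥N) : K)
  have val_inj : ∀ x y : Additive ↥N, val x = val y → x = y := by
    intro x y hxy
    exact Additive.toMul.injective (Subtype.ext hxy)
  have val_add : ∀ x y : Additive ↥N, val (x + y) = val x * val y := fun x y => rfl
  have val_mem : ∀ x : Additive ↥N, val x ∈ N := fun x => (Additive.toMul x).2
  have val_nsmul : ∀ (k : ℕ) (x : Additive ↥N), val (k • x) = val x ^ k := by
    intro k x
    induction k with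
    | zero => simp [val]
    | succ k ih => rw [succ_nsmul, val_add, ih, pow_succ]
  let kap : V → V → Additive ↥N := fun a b =>
    Additive.ofMul ⟨(s a : K) * s b * (s a : K)⁻¹ * (s b : K)⁻¹, h.comm_mem _ (s a).2 _ (s b).2⟩
  let pi : V → Additive ↥N := fun a =>
    Additive.ofMul ⟨(s a : K) ^ p, h.pow_mem _ (s a).2⟩
  have val_kap : ∀ u v : ↥P, val (kap (pr u) (pr v)) = (u : K) * v * (u : K)⁻¹ * (v : K)⁻¹ := by
    intro u v
    obtain ⟨n, hn, hu⟩ := hrep u
    obtain ⟨m, hm, hv⟩ := hrep v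
    change (s (pr u) : K) * s (pr v) * (s (pr u) : K)⁻¹ * (s (pr v) : K)⁻¹ = _
    rw [hu, hv]
    generalize (s (pr u) : K) = x
    generalize (s (pr v) : K) = z
    symm
    calc x * n * (z * m) * (x * n)⁻¹ * (z * m)⁻¹
        = x * (n * (z * m) * n⁻¹) * x⁻¹ * (z * m)⁻¹ := by group
      _ = x * (z * m) * x⁻¹ * (z * m)⁻¹ := by
          rw [← hcen n hn (z * m), mul_inv_cancel_right]
      _ = x * z * (m * x⁻¹ * m⁻¹) * z⁻¹ := by group
      _ = x * z * x⁻¹ * z⁻¹ := by
          rw [← hcen m hm x⁻¹, mul_inv_cancel_right]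
  have val_pi : ∀ u : ↥P, val (pi (pr u)) = (u : K) ^ p := by
    intro u
    obtain ⟨n, hn, hu⟩ := hrep u
    change (s (pr u) : K) ^ p = _
    rw [hu, (show Commute (s (pr u) : K) n from hcen n hn _).mul_pow, hexp n hn, mul_one]
  have hTpr : ∀ u : ↥P, T (pr u) = pr ⟨y * (u : K) * y⁻¹, hconjP _ u.2⟩ := fun u =>
    (hT u (hconjP _ u.2)).symm
  have hcc : Cfsg.Agent.Lib.helper3.CommCentral ↥P := by
    intro x z w
    apply Subtype.ext
    have hc : ((⁅x, z⁆ : ↥P) : K) ∈ N := by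
      rw [commutatorElement_def]
      exact h.comm_mem _ x.2 _ z.2
    exact (hcen _ hc (w : K)).symm
  refine ⟨V, iV, iF, Additive ↥N, inferInstance, inferInstance, T, kap, pi, hI,
    ?_, ?_, ?_, ?_, ?_, ?_, ?_, ?_⟩
  · -- additive in the first variable
    intro a a' b
    obtain ⟨u, rfl⟩ := hsurj a
    obtain ⟨u', rfl⟩ := hsurj a'
    obtain ⟨v, rfl⟩ := hsurj b
    apply val_inj
    rw [← hadd, val_add, val_kap, val_kap, val_kap]
    have hc : (u' : K) * v * (u' : K)⁻¹ * (v : K)⁻¹ ∈ N := h.comm_mem _ u'.2 _ v.2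
    generalize hcdef : (u' : K) * v * (u' : K)⁻¹ * (v : K)⁻¹ = c at hc
    calc ((u * u' : ↥P) : K) * v * ((u * u' : ↥P) : K)⁻¹ * (v : K)⁻¹
        = (u : K) * ((u' : K) * v * (u' : K)⁻¹ * (v : K)⁻¹) * (v * (u : K)⁻¹ * (v : K)⁻¹) := by
          rw [Subgroup.coe_mul]; group
      _ = (u : K) * c * (v * (u : K)⁻¹ * (v : K)⁻¹) := by rw [hcdef]
      _ = c * ((u : K) * (v * (u : K)⁻¹ * (v : K)⁻¹)) := by rw [hcen c hc (u : K), mul_assoc]
      _ = c * ((u : K) * v * (u : K)⁻¹ * (v : K)⁻¹) := by group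
      _ = (u : K) * v * (u : K)⁻¹ * (v : K)⁻¹ * c := (hcen c hc _).symm
  · -- additive in the second variable
    intro a b b'
    obtain ⟨u, rfl⟩ := hsurj a
    obtain ⟨v, rfl⟩ := hsurj b
    obtain ⟨v', rfl⟩ := hsurj b'
    apply val_inj
    rw [← hadd, val_add, val_kap, val_kap, val_kap]
    have hc : (u : K) * v' * (u : K)⁻¹ * (v' : K)⁻¹ ∈ N := h.comm_mem _ u.2 _ v'.2
    generalize hcdef : (u : K) * v' * (u : K)⁻¹ * (v' : K)⁻¹ = c at hc
    calc (u : K) * ((v * v' : ↥P) : K) * (u : K)⁻¹ * ((v * v' : ↥P) : K)⁻¹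
        = (u : K) * v * (u : K)⁻¹ * (((u : K) * v' * (u : K)⁻¹ * (v' : K)⁻¹) * (v : K)⁻¹) := by
          rw [Subgroup.coe_mul]; group
      _ = (u : K) * v * (u : K)⁻¹ * (c * (v : K)⁻¹) := by rw [hcdef]
      _ = (u : K) * v * (u : K)⁻¹ * ((v : K)⁻¹ * c) := by rw [hcen c hc (v : K)⁻¹]
      _ = (u : K) * v * (u : K)⁻¹ * (v : K)⁻¹ * c := by simp only [mul_assoc]
  · -- alternating
    intro a
    obtain ⟨u, rfl⟩ := hsurj a
    apply val_inj
    rw [val_kap]
    change _ = (1 : K)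
    group
  · -- T-invariant
    intro a b
    obtain ⟨u, rfl⟩ := hsurj a
    obtain ⟨v, rfl⟩ := hsurj b
    apply val_inj
    rw [hTpr, hTpr, val_kap, val_kap]
    have hc : (u : K) * v * (u : K)⁻¹ * (v : K)⁻¹ ∈ N := h.comm_mem _ u.2 _ v.2
    generalize hcdef : (u : K) * v * (u : K)⁻¹ * (v : K)⁻¹ = c at hc
    calc y * (u : K) * y⁻¹ * (y * (v : K) * y⁻¹) * (y * (u : K) * y⁻¹)⁻¹ * (y * (v : K) * y⁻¹)⁻¹
        = y * ((u : K) * v * (u : K)⁻¹ * (v : K)⁻¹) * y⁻¹ := by group
      _ = y * c * y⁻¹ := by rw [hcdef]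
      _ = c := by rw [hcen c hc y, mul_inv_cancel_right]
  · -- the power map
    intro a b
    obtain ⟨u, rfl⟩ := hsurj a
    obtain ⟨v, rfl⟩ := hsurj b
    apply val_inj
    rw [← hadd, val_add, val_add, val_nsmul, val_pi, val_pi, val_pi, val_kap]
    have h1 := Cfsg.Agent.Lib.helper3.mul_pow_class2 hcc u v p
    have h2 := congrArg (fun w : ↥P => (w : K)) h1
    simp only [Subgroup.coe_mul, Subgroup.coe_pow, commutatorElement_def, Subgroup.coe_inv] at h2
    exact h2
  · -- the power map is T-invariant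
    intro a
    obtain ⟨u, rfl⟩ := hsurj a
    apply val_inj
    rw [hTpr, val_pi, val_pi]
    have hc : (u : K) ^ p ∈ N := h.pow_mem _ u.2
    change (y * (u : K) * y⁻¹) ^ p = (u : K) ^ p
    rw [conj_pow, hcen _ hc y, mul_inv_cancel_right]
  · -- generation
    set C : AddSubgroup (Additive ↥N) :=
      AddSubgroup.closure (Set.range (fun uv : V × V => kap uv.1 uv.2) ∪ Set.range pi) with hC
    let S : Subgroup K :=
      { carrier := {g | ∃ hg : g ∈ N, Additive.ofMul (⟨g, hg⟩ : ↥N) ∈ C}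
        mul_mem' := by
          rintro a b ⟨ha, ha'⟩ ⟨hb, hb'⟩
          exact ⟨N.mul_mem ha hb, C.add_mem ha' hb'⟩
        one_mem' := ⟨N.one_mem, C.zero_mem⟩
        inv_mem' := by
          rintro a ⟨ha, ha'⟩
          exact ⟨N.inv_mem ha, C.neg_mem ha'⟩ }
    have hCP : CP p P ⊆ (S : Set K) := by
      rintro g (⟨u, hu, v, hv, rfl⟩ | ⟨u, hu, rfl⟩)
      · refine ⟨h.comm_mem u hu v hv, ?_⟩
        have e : Additive.ofMul (⟨u * v * u⁻¹ * v⁻¹, h.comm_mem u hu v hv⟩ : ↥N)
            = kap (pr ⟨u, hu⟩) (pr ⟨v, hv⟩) := by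
          apply val_inj
          rw [val_kap]
          rfl
        rw [e]
        exact AddSubgroup.subset_closure (Or.inl ⟨(pr ⟨u, hu⟩, pr ⟨v, hv⟩), rfl⟩)
      · refine ⟨h.pow_mem u hu, ?_⟩
        have e : Additive.ofMul (⟨u ^ p, h.pow_mem u hu⟩ : ↥N) = pi (pr ⟨u, hu⟩) := by
          apply val_inj
          rw [val_pi]
          rfl
        rw [e]
        exact AddSubgroup.subset_closure (Or.inr ⟨pr ⟨u, hu⟩, rfl⟩)
    have hNS : N ≤ S := hgen.trans ((Subgroup.closure_le S).mpr hCP)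
    rw [eq_top_iff]
    intro m _
    obtain ⟨hg, hm⟩ := hNS (val_mem m)
    exact hm
  · -- cardinality
    let f : ↥P →* Multiplicative V :=
      { toFun := fun u => Multiplicative.ofAdd (pr u)
        map_one' := by rw [hpr1]; rfl
        map_mul' := fun u v => by rw [hadd]; rfl }
    have hfs : Function.Surjective f := by
      intro v
      obtain ⟨u, hu⟩ := hsurj (Multiplicative.toAdd v)
      exact ⟨u, by change Multiplicative.ofAdd (pr u) = v; rw [hu]; rfl⟩
    have hfk : f.ker = N.subgroupOf P := by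
      ext u
      rw [MonoidHom.mem_ker, Subgroup.mem_subgroupOf, ← hker]
      exact Iff.rfl
    have h1 : Nat.card ↥P = Nat.card (↥P ⧸ f.ker) * Nat.card ↥f.ker :=
      Subgroup.card_eq_card_quotient_mul_card_subgroup f.ker
    have h2 : Nat.card (↥P ⧸ f.ker) = Nat.card V :=
      Nat.card_congr ((QuotientGroup.quotientKerEquivOfSurjective f hfs).toEquiv.trans
        Multiplicative.toAdd)
    have h3 : Nat.card ↥f.ker = Nat.card (Additive ↥N) := by
      rw [hfk]
      exact Nat.card_congr ((Subgroup.subgroupOfEquivOfLe h.N_le_P).toEquiv.trans Additive.ofMul)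
    rw [h1, h2, h3]

end Cfsg.Agent.Lib.helper3.Gf
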