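import Mathlib
import Cfsg.Prelude.Def_LieTypeChar
import Cfsg.Agent.Lib.helper44.LODefs
import Cfsg.Agent.Lib.helper6.LOARITH

/-!
# S2363 piece POM (`lo_pom`), arithmetic core (helper91, racer copy)
-/

set_option autoImplicit false

namespace Cfsg.Agent.Lib.helper44.LO

open Cfsg

theorem helper91_pom_not_dvd_sub {p q : ℕ} (hp : p.Prime) (hpq : p ∣ q) (j : ℕ) (hj : 1 ≤ j)
    (hq : 1 ≤ q) : ¬ p ∣ q ^ j - 1 := by
  intro h
  have h1 : p ∣ q ^ j := dvd_pow hpq (by omega)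
  have h2 : 1 ≤ q ^ j := Nat.one_le_pow _ _ hq
  have h3 : p ∣ q ^ j - (q ^ j - 1) := Nat.dvd_sub h1 h
  have h4 : q ^ j - (q ^ j - 1) = 1 := by omega
  rw [h4] at h3
  exact hp.one_lt.ne' (Nat.dvd_one.mp h3)

theorem helper91_pom_not_dvd_add {p q : ℕ} (hp : p.Prime) (hpq : p ∣ q) (j : ℕ) (hj : 1 ≤ j) :
    ¬ p ∣ q ^ j + 1 := by
  intro h
  have h1 : p ∣ q ^ j := dvd_pow hpq (by omega)
  have h3 : p ∣ 1 := (Nat.dvd_add_right h1).mp h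
  exact hp.one_lt.ne' (Nat.dvd_one.mp h3)

theorem helper91_pom_not_dvd_prod {p q : ℕ} (hp : p.Prime) (hpq : p ∣ q) (hq : 1 ≤ q) (k : ℕ) :
    ¬ p ∣ ∏ i ∈ Finset.range k, (q ^ (2 * (i + 1)) - 1) := by
  intro h
  obtain ⟨i, -, hi⟩ := (Prime.dvd_finsetProd_iff hp.prime _).mp h
  exact helper91_pom_not_dvd_sub hp hpq _ (by omega) hq hi

theorem helper91_pom_prod_le (q : ℕ) (k : ℕ) :
    ∏ i ∈ Finset.range k, (q ^ (2 * (i + 2)) - 1) ≤ q ^ (k ^ 2 + 3 * k) := by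
  induction k with
  | zero => simp
  | succ k ih =>
    rw [Finset.prod_range_succ]
    have h1 : q ^ (2 * (k + 2)) - 1 ≤ q ^ (2 * (k + 2)) := Nat.sub_le _ _
    calc _ ≤ q ^ (k ^ 2 + 3 * k) * q ^ (2 * (k + 2)) := Nat.mul_le_mul ih h1
      _ = q ^ ((k + 1) ^ 2 + 3 * (k + 1)) := by rw [← pow_add]; congr 1; ring

theorem helper91_pom_pair_lt (q m : ℕ) (hq : 2 ≤ q) (hm : 2 ≤ m) :
    (q ^ m + 1) * (q ^ 2 - 1) < q ^ (m + 2) := by
  have h1 : q ^ 2 ≤ q ^ m := Nat.pow_le_pow_right (by omega) hm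
  have h2 : 1 ≤ q ^ 2 := Nat.one_le_pow _ _ (by omega)
  obtain ⟨a, ha⟩ : ∃ a, q ^ 2 = a + 1 := ⟨q ^ 2 - 1, by omega⟩
  rw [pow_add, ha]
  rw [ha] at h1
  simp only [Nat.add_sub_cancel]
  have e1 : (q ^ m + 1) * a = q ^ m * a + a := by ring
  have e2 : q ^ m * (a + 1) = q ^ m * a + q ^ m := by ring
  omega

/-- The arithmetic core of POM: the order formula of `PΩ⁻_{2m}(q)` (as a hypothesis) gives `LOGood`. -/
theorem helper91_lo_pom_core {p : ℕ} (hp : p.Prime) (f : ℕ) (hf : 1 ≤ f) (m n : ℕ) (hm : 4 ≤ m)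
    (h : Nat.gcd 4 ((p ^ f) ^ m + 1) * n = (p ^ f) ^ (m * (m - 1)) * ((p ^ f) ^ m + 1) *
      ∏ i ∈ Finset.range (m - 1), ((p ^ f) ^ (2 * (i + 1)) - 1)) :
    LOGood p n := by
  have hpq : p ∣ p ^ f := dvd_pow_self p (by omega)
  have hq2 : 2 ≤ p ^ f := le_trans hp.two_le (Nat.le_self_pow (by omega) p)
  obtain ⟨k, rfl⟩ : ∃ k, m = k + 2 := ⟨m - 2, by omega⟩
  have hk1 : k + 2 - 1 = k + 1 := by omega
  rw [hk1] at h
  refine lo_good hp f hf (Nat.gcd 4 ((p ^ f) ^ (k + 2) + 1)) n ((k + 2) * (k + 1))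
    (((p ^ f) ^ (k + 2) + 1) * ∏ i ∈ Finset.range (k + 1), ((p ^ f) ^ (2 * (i + 1)) - 1))
    ((k + 2) ^ 2) ?_ ?_ ?_ ?_ ?_ ?_
  · rw [h, mul_assoc]
  · intro hd
    exact helper91_pom_not_dvd_add hp hpq (k + 2) (by omega)
      (dvd_trans hd (Nat.gcd_dvd_right _ _))
  · intro hd
    rcases (Nat.Prime.dvd_mul hp).mp hd with h1 | h1
    · exact helper91_pom_not_dvd_add hp hpq (k + 2) (by omega) h1
    · exact helper91_pom_not_dvd_prod hp hpq (by omega) _ h1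
  · have hc : 1 ≤ Nat.gcd 4 ((p ^ f) ^ (k + 2) + 1) := Nat.gcd_pos_of_pos_left _ (by norm_num)
    have hM : ((p ^ f) ^ (k + 2) + 1) * ∏ i ∈ Finset.range (k + 1), ((p ^ f) ^ (2 * (i + 1)) - 1)
        < (p ^ f) ^ ((k + 2) ^ 2) := by
      rw [Finset.prod_range_succ']
      have h1 := helper91_pom_prod_le (p ^ f) k
      have h2 := helper91_pom_pair_lt (p ^ f) (k + 2) hq2 (by omega)
      have h3 : 0 < (p ^ f) ^ (k ^ 2 + 3 * k) := by positivity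
      calc ((p ^ f) ^ (k + 2) + 1) * ((∏ i ∈ Finset.range k, ((p ^ f) ^ (2 * (i + 1 + 1)) - 1))
              * ((p ^ f) ^ (2 * (0 + 1)) - 1))
          = (((p ^ f) ^ (k + 2) + 1) * ((p ^ f) ^ 2 - 1))
              * ∏ i ∈ Finset.range k, ((p ^ f) ^ (2 * (i + 2)) - 1) := by
            simp only [zero_add, mul_one]
            rw [mul_comm (∏ i ∈ Finset.range k, ((p ^ f) ^ (2 * (i + 1 + 1)) - 1)), ← mul_assoc]
        _ ≤ (((p ^ f) ^ (k + 2) + 1) * ((p ^ f) ^ 2 - 1)) * (p ^ f) ^ (k ^ 2 + 3 * k) :=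
            Nat.mul_le_mul_left _ h1
        _ < (p ^ f) ^ (k + 2 + 2) * (p ^ f) ^ (k ^ 2 + 3 * k) :=
            Nat.mul_lt_mul_of_pos_right h2 h3
        _ = (p ^ f) ^ ((k + 2) ^ 2) := by rw [← pow_add]; congr 1; ring
    calc _ < (p ^ f) ^ ((k + 2) ^ 2) := hM
      _ ≤ _ := Nat.le_mul_of_pos_left _ hc
  · nlinarith
  · nlinarith

end Cfsg.Agent.Lib.helper44.LO
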