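import Mathlib
import Cfsg.Prelude.Def_MonsterType
import Cfsg.Agent.Lib.helper28.Components

/-!
Groups of Monster type: the squaring map of the extraspecial subgroup `Q` as a quadratic form on the
Leech lattice modulo 2, and the classes of the involutions of `Q` under the centralizer.
The facts on the lattice that are used are gathered in the structure `MQFacts`.
-/

set_option autoImplicit false
open Cfsg

namespace Cfsg.Agent.Lib.helper91

/-- the facts on the Leech lattice and its automorphism group that are used -/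
structure MQFacts : Prop where
  quad : ∀ (Qf : ↥leechLattice → ZMod 2), (∀ v w : ↥leechLattice, Qf (v + (w + w)) = Qf v) →
      (∀ u v w : ↥leechLattice,
        Qf (u + v + w) + Qf u + Qf v + Qf w = Qf (u + v) + Qf (u + w) + Qf (v + w)) →
      (∀ (g : ↥Co0) (v : ↥leechLattice), Qf (g.1 v) = Qf v) → (∃ v : ↥leechLattice, Qf v ≠ 0) →
      ∀ v : ↥leechLattice, Qf v = ((sqNorm (v : GolayPt → ℤ) / 16 : ℤ) : ZMod 2)
  red : ∀ x : ↥leechLattice, ∃ y z : ↥leechLattice, x = y + (z + z) ∧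
      ((y : GolayPt → ℤ) = 0 ∨ sqNorm (y : GolayPt → ℤ) = 32 ∨ sqNorm (y : GolayPt → ℤ) = 48 ∨
        sqNorm (y : GolayPt → ℤ) = 64)
  t32 : ∀ x y : ↥leechLattice, sqNorm (x : GolayPt → ℤ) = 32 → sqNorm (y : GolayPt → ℤ) = 32 →
      ∃ g : ↥Co0, g.1 x = y
  t64 : ∀ x y : ↥leechLattice, sqNorm (x : GolayPt → ℤ) = 64 → sqNorm (y : GolayPt → ℤ) = 64 →
      ∃ g : ↥Co0, g.1 x = y

open Classical in
/-- indicator of non-triviality, with values in `ZMod 2` -/
noncomputable def mqChi {P : Type*} [Group P] (x : P) : ZMod 2 := if x = 1 then 0 else 1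

theorem mqChi_eq_zero_iff {P : Type*} [Group P] (x : P) : mqChi x = 0 ↔ x = 1 := by
  unfold mqChi
  split_ifs with h
  · simp [h]
  · simp [h]

theorem mqChi_one {P : Type*} [Group P] : mqChi (1 : P) = 0 := (mqChi_eq_zero_iff 1).mpr rfl

theorem mqChi_of_ne {P : Type*} [Group P] (x : P) (h : x ≠ 1) : mqChi x = 1 := by
  unfold mqChi
  rw [if_neg h]

theorem mqChi_congr {P P' : Type*} [Group P] [Group P'] (x : P) (y : P') (hxy : x = 1 ↔ y = 1) :
    mqChi x = mqChi y := by
  by_cases hx : x = 1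
  · rw [hx, hxy.mp hx, mqChi_one, mqChi_one]
  · rw [mqChi_of_ne x hx, mqChi_of_ne y (fun hy => hx (hxy.mpr hy))]

/-- two non-trivial elements of a centre of order 2 are equal -/
theorem mq_center_unique {P : Type*} [Group P] (hZ : Nat.card (Subgroup.center P) = 2)
    (a b : P) (ha : a ∈ Subgroup.center P) (hb : b ∈ Subgroup.center P) (ha1 : a ≠ 1) (hb1 : b ≠ 1) :
    a = b := by
  obtain ⟨y, -, hy⟩ := (Nat.card_eq_two_iff' (1 : Subgroup.center P)).mp hZ
  have h1 : (⟨a, ha⟩ : Subgroup.center P) = y := hy _ (fun h => ha1 (congrArg Subtype.val h))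
  have h2 : (⟨b, hb⟩ : Subgroup.center P) = y := hy _ (fun h => hb1 (congrArg Subtype.val h))
  exact congrArg Subtype.val (h1.trans h2.symm)

/-- an element of a centre of order 2 has square 1 -/
theorem mq_center_sq {P : Type*} [Group P] (hZ : Nat.card (Subgroup.center P) = 2)
    (a : P) (ha : a ∈ Subgroup.center P) : a * a = 1 := by
  by_contra h
  by_cases ha1 : a = 1
  · exact h (by rw [ha1, mul_one])
  · have := mq_center_unique hZ (a * a) a (mul_mem ha ha) ha h ha1
    exact ha1 (by simpa using this)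

theorem mqChi_mul {P : Type*} [Group P] (hZ : Nat.card (Subgroup.center P) = 2)
    (a b : P) (ha : a ∈ Subgroup.center P) (hb : b ∈ Subgroup.center P) :
    mqChi (a * b) = mqChi a + mqChi b := by
  by_cases ha1 : a = 1
  · rw [ha1, one_mul, mqChi_one, zero_add]
  by_cases hb1 : b = 1
  · rw [hb1, mul_one, mqChi_one, add_zero]
  have e := mq_center_unique hZ a b ha hb ha1 hb1
  rw [e, mq_center_sq hZ b hb, mqChi_one, mqChi_of_ne b hb1]
  decide

/-- the square of a product, when commutators are central -/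
theorem mq_sq_mul {P : Type*} [Group P] (x y : P) (hc : y * x * y⁻¹ * x⁻¹ ∈ Subgroup.center P) :
    (x * y) * (x * y) = (y * x * y⁻¹ * x⁻¹) * (x * x) * (y * y) := by
  have h := Subgroup.mem_center_iff.mp hc x
  calc (x * y) * (x * y) = x * (y * x * y⁻¹ * x⁻¹) * (x * (y * y)) := by group
    _ = (y * x * y⁻¹ * x⁻¹) * x * (x * (y * y)) := by rw [h]
    _ = (y * x * y⁻¹ * x⁻¹) * (x * x) * (y * y) := by group

/-- commutators with a fixed element are multiplicative, when central -/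
theorem mq_comm_mul {P : Type*} [Group P] (a b c : P)
    (hc : c * b * c⁻¹ * b⁻¹ ∈ Subgroup.center P) :
    c * (a * b) * c⁻¹ * (a * b)⁻¹ = (c * b * c⁻¹ * b⁻¹) * (c * a * c⁻¹ * a⁻¹) := by
  have h := Subgroup.mem_center_iff.mp hc (c * a * c⁻¹)
  calc c * (a * b) * c⁻¹ * (a * b)⁻¹ = (c * a * c⁻¹) * (c * b * c⁻¹ * b⁻¹) * a⁻¹ := by group
    _ = (c * b * c⁻¹ * b⁻¹) * (c * a * c⁻¹) * a⁻¹ := by rw [h]
    _ = (c * b * c⁻¹ * b⁻¹) * (c * a * c⁻¹ * a⁻¹) := by group

theorem mqChi_sq_mul {P : Type*} [Group P] (hZ : Nat.card (Subgroup.center P) = 2)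
    (hsq : ∀ q : P, q * q ∈ Subgroup.center P)
    (hcm : ∀ q r : P, q * r * q⁻¹ * r⁻¹ ∈ Subgroup.center P) (x y : P) :
    mqChi ((x * y) * (x * y)) = mqChi (y * x * y⁻¹ * x⁻¹) + mqChi (x * x) + mqChi (y * y) := by
  rw [mq_sq_mul x y (hcm y x), mqChi_mul hZ _ _ (mul_mem (hcm y x) (hsq x)) (hsq y),
    mqChi_mul hZ _ _ (hcm y x) (hsq x)]

/-- the cubic identity of the squaring map -/
theorem mqChi_cubic {P : Type*} [Group P] (hZ : Nat.card (Subgroup.center P) = 2)
    (hsq : ∀ q : P, q * q ∈ Subgroup.center P)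
    (hcm : ∀ q r : P, q * r * q⁻¹ * r⁻¹ ∈ Subgroup.center P) (a b c : P) :
    mqChi ((a * b * c) * (a * b * c)) + mqChi (a * a) + mqChi (b * b) + mqChi (c * c) =
      mqChi ((a * b) * (a * b)) + mqChi ((a * c) * (a * c)) + mqChi ((b * c) * (b * c)) := by
  rw [mqChi_sq_mul hZ hsq hcm (a * b) c, mqChi_sq_mul hZ hsq hcm a b, mqChi_sq_mul hZ hsq hcm a c,
    mqChi_sq_mul hZ hsq hcm b c, mq_comm_mul a b c (hcm c b),
    mqChi_mul hZ _ _ (hcm c b) (hcm c a)]
  ring

/-- the squaring map on the quotient by the centre -/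
noncomputable def mqK {P : Type*} [Group P] (x : P ⧸ Subgroup.center P) : ZMod 2 :=
  mqChi (x.out * x.out)

theorem mqK_mk {P : Type*} [Group P] (hZ : Nat.card (Subgroup.center P) = 2) (q : P) :
    mqK (QuotientGroup.mk q : P ⧸ Subgroup.center P) = mqChi (q * q) := by
  obtain ⟨h, hh⟩ := QuotientGroup.mk_out_eq_mul (Subgroup.center P) q
  unfold mqK
  rw [hh]
  have h1 := Subgroup.mem_center_iff.mp h.2 q
  have h2 := mq_center_sq hZ h.1 h.2
  have : q * (h : P) * (q * (h : P)) = q * q := by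
    calc q * (h : P) * (q * (h : P)) = q * ((h : P) * q) * (h : P) := by group
      _ = q * (q * (h : P)) * (h : P) := by rw [h1]
      _ = q * q * ((h : P) * (h : P)) := by group
      _ = q * q := by rw [h2, mul_one]
  rw [this]

section setting

variable {G : Type*} [Group G] {z : G} (Q : Subgroup (Subgroup.centralizer ({z} : Set G)))
  [Q.Normal] (e : (Subgroup.centralizer ({z} : Set G)) ⧸ Q ≃* Spor.Co1)
  (ψ : leechLattice → Q ⧸ Subgroup.center Q)

theorem mq_dbl (hψ : IsLeechModTwoIso Q e ψ) (v : ↥leechLattice) : ψ (v + v) = 1 :=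
  (hψ.2.2.1 _).mpr ⟨v, rfl⟩

theorem mq_psi_zero (hψ : IsLeechModTwoIso Q e ψ) : ψ 0 = 1 :=
  (hψ.2.2.1 _).mpr ⟨0, (add_zero 0).symm⟩

/-- squares are central -/
theorem mq_sq_mem (hψ : IsLeechModTwoIso Q e ψ) (q : Q) : q * q ∈ Subgroup.center Q := by
  obtain ⟨v, hv⟩ := hψ.2.1 (QuotientGroup.mk q)
  have h1 : (QuotientGroup.mk (q * q) : Q ⧸ Subgroup.center Q) = 1 := by
    rw [QuotientGroup.mk_mul, ← hv, ← hψ.1, mq_dbl Q e ψ hψ]
  exact (QuotientGroup.eq_one_iff _).mp h1

/-- commutators are central -/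
theorem mq_comm_mem (hψ : IsLeechModTwoIso Q e ψ) (q r : Q) :
    q * r * q⁻¹ * r⁻¹ ∈ Subgroup.center Q := by
  obtain ⟨v, hv⟩ := hψ.2.1 (QuotientGroup.mk q)
  obtain ⟨w, hw⟩ := hψ.2.1 (QuotientGroup.mk r)
  have h1 : (QuotientGroup.mk (q * r * q⁻¹ * r⁻¹) : Q ⧸ Subgroup.center Q) = 1 := by
    rw [QuotientGroup.mk_mul, QuotientGroup.mk_mul, QuotientGroup.mk_mul, QuotientGroup.mk_inv,
      QuotientGroup.mk_inv, ← hv, ← hw, ← hψ.1, add_comm, hψ.1]
    group
  exact (QuotientGroup.eq_one_iff _).mp h1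

/-- a lift of an automorphism of the lattice to the centralizer -/
theorem mq_conj_lift (hψ : IsLeechModTwoIso Q e ψ) (g : ↥Co0) (y : ↥leechLattice) (x : Q)
    (hy : ψ y = QuotientGroup.mk x) :
    ∃ h : Subgroup.centralizer ({z} : Set G), ψ (g.1 y) = QuotientGroup.mk
      (⟨h * x * h⁻¹, (inferInstance : Q.Normal).conj_mem
        (x : Subgroup.centralizer ({z} : Set G)) x.2 h⟩ : Q) := by
  obtain ⟨h, hh⟩ := QuotientGroup.mk_surjective (e.symm (QuotientGroup.mk g))
  exact ⟨h, hψ.2.2.2 h g (by rw [hh, MulEquiv.apply_symm_apply]) y x hy⟩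

/-- the value of the squaring map, when the centre has order 2 and `Q` is not commutative -/
theorem mq_chi_eq (F : MQFacts) (hZ : Nat.card (Subgroup.center Q) = 2)
    (hcard : Nat.card Q ≠ 2) (hψ : IsLeechModTwoIso Q e ψ) (v : ↥leechLattice) (q : Q)
    (hq : ψ v = QuotientGroup.mk q) :
    mqChi (q * q) = ((sqNorm (v : GolayPt → ℤ) / 16 : ℤ) : ZMod 2) := by
  have hsq := mq_sq_mem Q e ψ hψ
  have hcm := mq_comm_mem Q e ψ hψ
  have hadd := hψ.1
  set K : ↥leechLattice → ZMod 2 := fun v => mqK (ψ v) with hK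
  have hKmk : ∀ (v : ↥leechLattice) (q : Q), ψ v = QuotientGroup.mk q → K v = mqChi (q * q) := by
    intro v q hq
    show mqK (ψ v) = mqChi (q * q)
    rw [hq, mqK_mk hZ]
  have hcoset : ∀ v w : ↥leechLattice, K (v + (w + w)) = K v := by
    intro v w
    show mqK (ψ (v + (w + w))) = mqK (ψ v)
    rw [hadd, mq_dbl Q e ψ hψ, mul_one]
  have hquad : ∀ u v w : ↥leechLattice,
      K (u + v + w) + K u + K v + K w = K (u + v) + K (u + w) + K (v + w) := by
    intro u v w
    obtain ⟨a, ha⟩ := QuotientGroup.mk_surjective (ψ u)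
    obtain ⟨b, hb⟩ := QuotientGroup.mk_surjective (ψ v)
    obtain ⟨c, hc⟩ := QuotientGroup.mk_surjective (ψ w)
    rw [hKmk (u + v + w) (a * b * c) (by rw [hadd, hadd, ← ha, ← hb, ← hc]; rfl),
      hKmk u a ha.symm, hKmk v b hb.symm, hKmk w c hc.symm,
      hKmk (u + v) (a * b) (by rw [hadd, ← ha, ← hb]; rfl),
      hKmk (u + w) (a * c) (by rw [hadd, ← ha, ← hc]; rfl),
      hKmk (v + w) (b * c) (by rw [hadd, ← hb, ← hc]; rfl)]
    exact mqChi_cubic hZ hsq hcm a b c
  have hinv : ∀ (g : ↥Co0) (v : ↥leechLattice), K (g.1 v) = K v := by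
    intro g v
    obtain ⟨q, hq⟩ := QuotientGroup.mk_surjective (ψ v)
    obtain ⟨h, h1⟩ := mq_conj_lift Q e ψ hψ g v q hq.symm
    rw [hKmk _ _ h1, hKmk v q hq.symm]
    apply mqChi_congr
    have h4 : h * (q : Subgroup.centralizer ({z} : Set G)) * h⁻¹ *
        (h * (q : Subgroup.centralizer ({z} : Set G)) * h⁻¹) =
        h * ((q : Subgroup.centralizer ({z} : Set G)) * (q : Subgroup.centralizer ({z} : Set G))) *
          h⁻¹ := by group
    constructor
    · intro H
      have H' : h * (q : Subgroup.centralizer ({z} : Set G)) * h⁻¹ *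
          (h * (q : Subgroup.centralizer ({z} : Set G)) * h⁻¹) = 1 := congrArg Subtype.val H
      rw [h4, conj_eq_one_iff] at H'
      exact Subtype.ext H'
    · intro H
      have H' : (q : Subgroup.centralizer ({z} : Set G)) *
          (q : Subgroup.centralizer ({z} : Set G)) = 1 := congrArg Subtype.val H
      apply Subtype.ext
      show h * (q : Subgroup.centralizer ({z} : Set G)) * h⁻¹ *
          (h * (q : Subgroup.centralizer ({z} : Set G)) * h⁻¹) = 1
      rw [h4, conj_eq_one_iff]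
      exact H'
  have hne : ∃ v : ↥leechLattice, K v ≠ 0 := by
    by_contra hne
    have h0 : ∀ q : Q, q * q = 1 := by
      intro q
      obtain ⟨v, hv⟩ := hψ.2.1 (QuotientGroup.mk q)
      have h1 : K v = 0 := by
        by_contra h
        exact hne ⟨v, h⟩
      rw [hKmk v q hv] at h1
      exact (mqChi_eq_zero_iff _).mp h1
    have hcomm : ∀ a b : Q, a * b = b * a := by
      intro a b
      have h4 : a * b * (b * a) = 1 := by
        calc a * b * (b * a) = a * (b * b) * a := by group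
          _ = 1 := by rw [h0 b, mul_one, h0 a]
      exact mul_left_cancel ((h0 (a * b)).trans h4.symm)
    have htop : Subgroup.center Q = ⊤ := by
      rw [eq_top_iff]
      intro a _
      exact Subgroup.mem_center_iff.mpr (fun b => hcomm b a)
    rw [htop, Subgroup.card_top] at hZ
    exact hcard hZ
  rw [← hKmk v q hq]
  exact F.quad K hcoset hquad hinv hne v

end setting

section center

variable {G : Type*} [Group G] [Finite G] (z : G)
  (Q : Subgroup (Subgroup.centralizer ({z} : Set G))) [Q.Normal]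

/-- `z` lies in `Q` and generates its centre -/
theorem mq_center_cases (hS : IsExtraspecialCentralizerSetting z Q 12) :
    ∃ zQ : Q, ((zQ : Subgroup.centralizer ({z} : Set G)) : G) = z ∧ zQ ∈ Subgroup.center Q ∧
      zQ ≠ 1 ∧ ∀ x ∈ Subgroup.center Q, x = 1 ∨ x = zQ := by
  obtain ⟨hz2, hF, hES, -, -⟩ := hS
  have hZ : Nat.card (Subgroup.center Q) = 2 := hES.2
  have hzc : z ∈ Subgroup.centralizer ({z} : Set G) :=
    Subgroup.mem_centralizer_iff.mpr (fun h hh => by rw [Set.mem_singleton_iff.mp hh])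
  have hcomm : ∀ y : Subgroup.centralizer ({z} : Set G),
      y * (⟨z, hzc⟩ : Subgroup.centralizer ({z} : Set G)) = ⟨z, hzc⟩ * y := by
    intro y
    apply Subtype.ext
    show (y : G) * z = z * (y : G)
    exact (Subgroup.mem_centralizer_iff.mp y.2 z rfl).symm
  have hzQ : (⟨z, hzc⟩ : Subgroup.centralizer ({z} : Set G)) ∈ Q := by
    rw [← hF]
    apply Cfsg.Agent.Lib.helper28.centralizer_generalizedFittingSubgroup_le
    exact Subgroup.mem_centralizer_iff.mpr (fun h _ => hcomm h)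
  have hz1 : z ≠ 1 := by
    intro h
    rw [h, orderOf_one] at hz2
    omega
  have hzQ1 : (⟨⟨z, hzc⟩, hzQ⟩ : Q) ≠ 1 := by
    intro h
    exact hz1 (congrArg (fun x : Q => ((x : Subgroup.centralizer ({z} : Set G)) : G)) h)
  have hzQc : (⟨⟨z, hzc⟩, hzQ⟩ : Q) ∈ Subgroup.center Q := by
    apply Subgroup.mem_center_iff.mpr
    intro y
    apply Subtype.ext
    exact hcomm (y : Subgroup.centralizer ({z} : Set G))
  refine ⟨⟨⟨z, hzc⟩, hzQ⟩, rfl, hzQc, hzQ1, ?_⟩
  intro x hx
  by_cases hx1 : x = 1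
  · exact Or.inl hx1
  · exact Or.inr (mq_center_unique hZ x _ hx hzQc hx1 hzQ1)

end center

section classes

variable {G : Type*} [Group G] [Finite G] {z : G}
  (Q : Subgroup (Subgroup.centralizer ({z} : Set G))) [Q.Normal]
  (e : (Subgroup.centralizer ({z} : Set G)) ⧸ Q ≃* Spor.Co1)
  (ψ : leechLattice → Q ⧸ Subgroup.center Q)

theorem mq_card_ne (hS : IsExtraspecialCentralizerSetting z Q 12) : Nat.card Q ≠ 2 := by
  rw [hS.2.2.2.1]
  norm_num

/-- the class of a non-central involution of `Q` is the class of a vector of norm 32 or 64 -/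
theorem mq_type (F : MQFacts) (hS : IsExtraspecialCentralizerSetting z Q 12)
    (hψ : IsLeechModTwoIso Q e ψ) (x : Q) (hx : x ∉ Subgroup.center Q) (hx2 : x * x = 1) :
    ∃ y : ↥leechLattice, ψ y = QuotientGroup.mk x ∧
      (sqNorm (y : GolayPt → ℤ) = 32 ∨ sqNorm (y : GolayPt → ℤ) = 64) := by
  obtain ⟨v, hv⟩ := hψ.2.1 (QuotientGroup.mk x)
  obtain ⟨y, w, hyz, hy⟩ := F.red v
  have hyx : ψ y = QuotientGroup.mk x := by
    rw [← hv, hyz, hψ.1, mq_dbl Q e ψ hψ, mul_one]
  refine ⟨y, hyx, ?_⟩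
  rcases hy with hy | hy | hy | hy
  · exfalso
    have e0 : y = 0 := Subtype.ext hy
    rw [e0, mq_psi_zero Q e ψ hψ] at hyx
    exact hx ((QuotientGroup.eq_one_iff _).mp hyx.symm)
  · exact Or.inl hy
  · exfalso
    have h1 := mq_chi_eq Q e ψ F hS.2.2.1.2 (mq_card_ne Q hS) hψ y x hyx
    rw [hx2, mqChi_one, hy] at h1
    revert h1
    decide
  · exact Or.inr hy

/-- a non-central element of `Q` is conjugate in `Q` to its product with the central involution -/
theorem mq_swap (hψ : IsLeechModTwoIso Q e ψ) (zQ : Q) (hzall : ∀ x ∈ Subgroup.center Q, x = 1 ∨ x = zQ)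
    (x : Q) (hx : x ∉ Subgroup.center Q) : ∃ q : Q, q * x * q⁻¹ = x * zQ := by
  have h1 : ∃ q : Q, q * x ≠ x * q := by
    by_contra h
    apply hx
    apply Subgroup.mem_center_iff.mpr
    intro g
    by_contra h'
    exact h ⟨g, h'⟩
  obtain ⟨q, hq⟩ := h1
  have hc := mq_comm_mem Q e ψ hψ q x
  have hc1 : q * x * q⁻¹ * x⁻¹ ≠ 1 := by
    intro h
    apply hq
    calc q * x = (q * x * q⁻¹ * x⁻¹) * (x * q) := by group
      _ = x * q := by rw [h, one_mul]
  have hc2 : q * x * q⁻¹ * x⁻¹ = zQ := by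
    rcases hzall _ hc with h | h
    · exact absurd h hc1
    · exact h
  refine ⟨q, ?_⟩
  have h3 := Subgroup.mem_center_iff.mp hc x
  calc q * x * q⁻¹ = (q * x * q⁻¹ * x⁻¹) * x := by group
    _ = x * (q * x * q⁻¹ * x⁻¹) := h3.symm
    _ = x * zQ := by rw [hc2]

/-- elements of `Q` whose classes are exchanged by an automorphism of the lattice are conjugate
in the centralizer -/
theorem mq_conj_of_map (hψ : IsLeechModTwoIso Q e ψ) (zQ : Q)
    (hzall : ∀ x ∈ Subgroup.center Q, x = 1 ∨ x = zQ) (hzc : zQ ∈ Subgroup.center Q)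
    (x x' : Q) (hx' : x' ∉ Subgroup.center Q)
    (y y' : ↥leechLattice) (hy : ψ y = QuotientGroup.mk x) (hy' : ψ y' = QuotientGroup.mk x')
    (g : ↥Co0) (hg : g.1 y = y') :
    ∃ h : Subgroup.centralizer ({z} : Set G),
      h * (x : Subgroup.centralizer ({z} : Set G)) * h⁻¹ = (x' : Subgroup.centralizer ({z} : Set G)) := by
  obtain ⟨h, hh⟩ := mq_conj_lift Q e ψ hψ g y x hy
  rw [hg, hy'] at hh
  set x'' : Q := ⟨h * x * h⁻¹, (inferInstance : Q.Normal).conj_mem
        (x : Subgroup.centralizer ({z} : Set G)) x.2 h⟩ with hx''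
  have h1 : x''⁻¹ * x' ∈ Subgroup.center Q := QuotientGroup.eq.mp hh.symm
  rcases hzall _ h1 with h2 | h2
  · refine ⟨h, ?_⟩
    have h3 : x' = x'' := by
      calc x' = x'' * (x''⁻¹ * x') := by group
        _ = x'' := by rw [h2, mul_one]
    rw [h3]
  · have h3 : x' = x'' * zQ := by
      calc x' = x'' * (x''⁻¹ * x') := by group
        _ = x'' * zQ := by rw [h2]
    have hx''c : x'' ∉ Subgroup.center Q := by
      intro hc
      exact hx' (h3 ▸ mul_mem hc hzc)
    obtain ⟨q, hq⟩ := mq_swap Q e ψ hψ zQ hzall x'' hx''c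
    refine ⟨(q : Subgroup.centralizer ({z} : Set G)) * h, ?_⟩
    rw [h3, ← hq]
    show (q : Subgroup.centralizer ({z} : Set G)) * h * (x : Subgroup.centralizer ({z} : Set G)) *
      ((q : Subgroup.centralizer ({z} : Set G)) * h)⁻¹ =
      (q : Subgroup.centralizer ({z} : Set G)) * (h * (x : Subgroup.centralizer ({z} : Set G)) * h⁻¹) *
        (q : Subgroup.centralizer ({z} : Set G))⁻¹
    group

/-- two non-central elements of `Q` whose classes are those of vectors of norm 32 are conjugate in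
the centralizer -/
theorem mq_conj_32 (F : MQFacts) (hψ : IsLeechModTwoIso Q e ψ) (zQ : Q)
    (hzall : ∀ x ∈ Subgroup.center Q, x = 1 ∨ x = zQ) (hzc : zQ ∈ Subgroup.center Q)
    (x x' : Q) (hx' : x' ∉ Subgroup.center Q)
    (y y' : ↥leechLattice) (hy : ψ y = QuotientGroup.mk x) (hy' : ψ y' = QuotientGroup.mk x')
    (hn : sqNorm (y : GolayPt → ℤ) = 32) (hn' : sqNorm (y' : GolayPt → ℤ) = 32) :
    ∃ h : Subgroup.centralizer ({z} : Set G),
      h * (x : Subgroup.centralizer ({z} : Set G)) * h⁻¹ = (x' : Subgroup.centralizer ({z} : Set G)) := by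
  obtain ⟨g, hg⟩ := F.t32 y y' hn hn'
  exact mq_conj_of_map Q e ψ hψ zQ hzall hzc x x' hx' y y' hy hy' g hg

/-- two non-central elements of `Q` whose classes are those of vectors of norm 64 are conjugate in
the centralizer -/
theorem mq_conj_64 (F : MQFacts) (hψ : IsLeechModTwoIso Q e ψ) (zQ : Q)
    (hzall : ∀ x ∈ Subgroup.center Q, x = 1 ∨ x = zQ) (hzc : zQ ∈ Subgroup.center Q)
    (x x' : Q) (hx' : x' ∉ Subgroup.center Q)
    (y y' : ↥leechLattice) (hy : ψ y = QuotientGroup.mk x) (hy' : ψ y' = QuotientGroup.mk x')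
    (hn : sqNorm (y : GolayPt → ℤ) = 64) (hn' : sqNorm (y' : GolayPt → ℤ) = 64) :
    ∃ h : Subgroup.centralizer ({z} : Set G),
      h * (x : Subgroup.centralizer ({z} : Set G)) * h⁻¹ = (x' : Subgroup.centralizer ({z} : Set G)) := by
  obtain ⟨g, hg⟩ := F.t64 y y' hn hn'
  exact mq_conj_of_map Q e ψ hψ zQ hzall hzc x x' hx' y y' hy hy' g hg

end classes

end Cfsg.Agent.Lib.helper91
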