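import Cfsg.Agent.Lib.helper91.MonsterQ

/-!
Groups of Monster type: the conjugates of the central involution `z` inside the extraspecial
subgroup `Q`.  Part 1: centralizers in a group whose commutators are central of order at most 2.
-/

set_option autoImplicit false
open Cfsg

namespace Cfsg.Agent.Lib.helper91

section abstract

variable {P : Type*} [Group P] (zP : P) (hzc : zP ∈ Subgroup.center P) (hzz : zP * zP = 1)
  (hzall : ∀ x ∈ Subgroup.center P, x = 1 ∨ x = zP)
  (hcm : ∀ q r : P, q * r * q⁻¹ * r⁻¹ ∈ Subgroup.center P)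

include hzall hcm in
/-- two elements commute, or conjugation multiplies by the central involution -/
theorem mq_comm_cases (a b : P) : a * b = b * a ∨ a * b * a⁻¹ = zP * b := by
  rcases hzall _ (hcm a b) with h | h
  · left
    calc a * b = (a * b * a⁻¹ * b⁻¹) * (b * a) := by group
      _ = b * a := by rw [h, one_mul]
  · right
    calc a * b * a⁻¹ = (a * b * a⁻¹ * b⁻¹) * b := by group
      _ = zP * b := by rw [h]

include hzall hcm in
theorem mq_conj_of_not_comm (a x : P) (ha : a * x ≠ x * a) : a * x * a⁻¹ = zP * x := by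
  rcases mq_comm_cases zP hzall hcm a x with h | h
  · exact absurd h ha
  · exact h

include hzc hzz hzall hcm in
/-- the product of two elements not commuting with `x` commutes with `x` -/
theorem mq_mul_comm_of_not (a b x : P) (ha : a * x ≠ x * a) (hb : b * x ≠ x * b) :
    (b * a) * x = x * (b * a) := by
  have h1 := mq_conj_of_not_comm zP hzall hcm a x ha
  have h2 := mq_conj_of_not_comm zP hzall hcm b x hb
  have hz := Subgroup.mem_center_iff.mp hzc b
  have h3 : (b * a) * x * (b * a)⁻¹ = x := by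
    calc (b * a) * x * (b * a)⁻¹ = b * (a * x * a⁻¹) * b⁻¹ := by group
      _ = b * (zP * x) * b⁻¹ := by rw [h1]
      _ = (b * zP) * x * b⁻¹ := by group
      _ = (zP * b) * x * b⁻¹ := by rw [hz]
      _ = zP * (b * x * b⁻¹) := by group
      _ = zP * (zP * x) := by rw [h2]
      _ = (zP * zP) * x := by group
      _ = x := by rw [hzz, one_mul]
  calc (b * a) * x = ((b * a) * x * (b * a)⁻¹) * (b * a) := by group
    _ = x * (b * a) := by rw [h3]

include hzc hzz hzall hcm in
/-- the centralizer of a non-central element has index 2 -/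
theorem mq_index_centralizer (x : P) (hx : x ∉ Subgroup.center P) :
    (Subgroup.centralizer ({x} : Set P)).index = 2 := by
  have h1 : ∃ a : P, a * x ≠ x * a := by
    by_contra h
    apply hx
    apply Subgroup.mem_center_iff.mpr
    intro g
    by_contra h'
    exact h ⟨g, h'⟩
  obtain ⟨a, ha⟩ := h1
  rw [Subgroup.index_eq_two_iff]
  refine ⟨a, fun b => ?_⟩
  by_cases hb : b * x = x * b
  · right
    refine ⟨Subgroup.mem_centralizer_singleton_iff.mpr hb, ?_⟩
    intro hba
    have hba' : (b * a) * x = x * (b * a) := Subgroup.mem_centralizer_singleton_iff.mp hba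
    apply ha
    calc a * x = b⁻¹ * ((b * a) * x) := by group
      _ = b⁻¹ * (x * (b * a)) := by rw [hba']
      _ = b⁻¹ * (x * b) * a := by group
      _ = b⁻¹ * (b * x) * a := by rw [hb]
      _ = x * a := by group
  · left
    refine ⟨Subgroup.mem_centralizer_singleton_iff.mpr
      (mq_mul_comm_of_not zP hzc hzz hzall hcm a b x ha hb), ?_⟩
    intro hb'
    exact hb (Subgroup.mem_centralizer_singleton_iff.mp hb')

include hzc hzz hzall hcm in
/-- an element commuting with the whole centralizer of a non-central element `x` is central or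
in the coset of `x` -/
theorem mq_double_centralizer (x : P) (hx : x ∉ Subgroup.center P) (m : P)
    (hm : ∀ r : P, r * x = x * r → r * m = m * r) : m = 1 ∨ m = zP ∨ m = x ∨ m = x * zP := by
  by_cases hmc : m ∈ Subgroup.center P
  · rcases hzall m hmc with h | h
    · exact Or.inl h
    · exact Or.inr (Or.inl h)
  · -- an element not commuting with `x` does not commute with `m`
    have h1 : ∀ q : P, q * x ≠ x * q → q * m ≠ m * q := by
      intro q hq hqm
      apply hmc
      apply Subgroup.mem_center_iff.mpr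
      intro q'
      by_cases hq' : q' * x = x * q'
      · exact hm q' hq'
      · -- `q⁻¹ * q'` commutes with `x`
        have hqi : q⁻¹ * x ≠ x * q⁻¹ := by
          intro h
          apply hq
          calc q * x = q * (x * q⁻¹) * q := by group
            _ = q * (q⁻¹ * x) * q := by rw [h]
            _ = x * q := by group
        have h2 := mq_mul_comm_of_not zP hzc hzz hzall hcm q' q⁻¹ x hq' hqi
        have h3 := hm _ h2
        calc q' * m = q * ((q⁻¹ * q') * m) := by group
          _ = q * (m * (q⁻¹ * q')) := by rw [h3]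
          _ = (q * m) * (q⁻¹ * q') := by group
          _ = (m * q) * (q⁻¹ * q') := by rw [hqm]
          _ = m * q' := by group
    -- `m * x⁻¹` is central
    have h2 : m * x⁻¹ ∈ Subgroup.center P := by
      apply Subgroup.mem_center_iff.mpr
      intro q
      by_cases hq : q * x = x * q
      · have hqm := hm q hq
        have hqx : q * x⁻¹ = x⁻¹ * q := by
          calc q * x⁻¹ = x⁻¹ * (x * q) * x⁻¹ := by group
            _ = x⁻¹ * (q * x) * x⁻¹ := by rw [hq]
            _ = x⁻¹ * q := by group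
        calc q * (m * x⁻¹) = (q * m) * x⁻¹ := by group
          _ = (m * q) * x⁻¹ := by rw [hqm]
          _ = m * (q * x⁻¹) := by group
          _ = m * (x⁻¹ * q) := by rw [hqx]
          _ = m * x⁻¹ * q := by group
      · have e1 := mq_conj_of_not_comm zP hzall hcm q x hq
        have e2 := mq_conj_of_not_comm zP hzall hcm q m (h1 q hq)
        have hz := Subgroup.mem_center_iff.mp hzc (m * x⁻¹)
        have e3 : q * (m * x⁻¹) * q⁻¹ = m * x⁻¹ := by
          calc q * (m * x⁻¹) * q⁻¹ = (q * m * q⁻¹) * (q * x * q⁻¹)⁻¹ := by group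
            _ = (zP * m) * (zP * x)⁻¹ := by rw [e1, e2]
            _ = zP * (m * x⁻¹) * zP⁻¹ := by group
            _ = (m * x⁻¹) * zP * zP⁻¹ := by rw [← hz]
            _ = m * x⁻¹ := by group
        calc q * (m * x⁻¹) = (q * (m * x⁻¹) * q⁻¹) * q := by group
          _ = m * x⁻¹ * q := by rw [e3]
    rcases hzall _ h2 with h | h
    · right; right; left
      calc m = (m * x⁻¹) * x := by group
        _ = x := by rw [h, one_mul]
    · right; right; right
      have hz := Subgroup.mem_center_iff.mp hzc x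
      calc m = (m * x⁻¹) * x := by group
        _ = zP * x := by rw [h]
        _ = x * zP := hz.symm

/-- a type injecting into a set of four elements has at most four elements -/
theorem mq_card_le_four {α : Type*} (f : α → P) (hf : Function.Injective f) (a b c d : P)
    (h : ∀ m : α, f m = a ∨ f m = b ∨ f m = c ∨ f m = d) : Nat.card α ≤ 4 := by
  classical
  have h1 : Set.range f ⊆ ((({a, b, c, d} : Finset P)) : Set P) := by
    rintro _ ⟨m, rfl⟩
    simp only [Finset.coe_insert, Finset.coe_singleton, Set.mem_insert_iff, Set.mem_singleton_iff]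
    exact h m
  have h2 : Nat.card α = (Set.range f).ncard := by
    rw [← Nat.card_coe_set_eq]
    exact Nat.card_congr (Equiv.ofInjective f hf)
  rw [h2]
  calc (Set.range f).ncard ≤ ((({a, b, c, d} : Finset P)) : Set P).ncard :=
        Set.ncard_le_ncard h1 (Finset.finite_toSet _)
    _ = ({a, b, c, d} : Finset P).card := Set.ncard_coe_finset _
    _ ≤ 4 := Finset.card_le_four

include hzc hzz hzall hcm in
/-- the centralizer of a non-central element contains an element whose square is not 1 -/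
theorem mq_exists_sq_ne_one [Finite P] (hP : 8 < Nat.card P) (x : P)
    (hx : x ∉ Subgroup.center P) :
    ∃ q : P, q * x = x * q ∧ q * q ≠ 1 := by
  by_contra hno
  have h0 : ∀ q : P, q * x = x * q → q * q = 1 := by
    intro q hq
    by_contra h
    exact hno ⟨q, hq, h⟩
  -- the centralizer is commutative
  have hcomm : ∀ a b : P, a * x = x * a → b * x = x * b → a * b = b * a := by
    intro a b ha hb
    have hab : (a * b) * x = x * (a * b) := by
      calc (a * b) * x = a * (b * x) := by group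
        _ = a * (x * b) := by rw [hb]
        _ = (a * x) * b := by group
        _ = (x * a) * b := by rw [ha]
        _ = x * (a * b) := by group
    have h4 : a * b * (b * a) = 1 := by
      calc a * b * (b * a) = a * (b * b) * a := by group
        _ = 1 := by rw [h0 b hb, mul_one, h0 a ha]
    exact mul_left_cancel ((h0 (a * b) hab).trans h4.symm)
  have hle : Nat.card (Subgroup.centralizer ({x} : Set P)) ≤ 4 := by
    apply mq_card_le_four (fun m : Subgroup.centralizer ({x} : Set P) => (m : P))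
      Subtype.val_injective 1 zP x (x * zP)
    intro m
    apply mq_double_centralizer zP hzc hzz hzall hcm x hx
    intro r hr
    exact hcomm r m hr (Subgroup.mem_centralizer_singleton_iff.mp m.2)
  have hidx := mq_index_centralizer zP hzc hzz hzall hcm x hx
  have hmul := Subgroup.card_mul_index (Subgroup.centralizer ({x} : Set P))
  rw [hidx] at hmul
  omega

end abstract

/-- further facts on the Leech lattice and its automorphism group -/
structure MQFacts2 : Prop where
  co1 : ¬ 2 ^ 22 ∣ Nat.card Spor.Co1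
  co2 : ∀ v : ↥leechLattice, sqNorm (v : GolayPt → ℤ) = 32 →
      ∀ N : Subgroup (MulAction.stabilizer ↥Co0 v), N.Normal → IsPGroup 2 N → N = ⊥
  short : ∀ v w : ↥leechLattice, sqNorm (v : GolayPt → ℤ) = 32 → sqNorm (w : GolayPt → ℤ) = 32 →
      (∃ u : ↥leechLattice, v + w = u + u) → w = v ∨ w = -v
  neg : ∃ n : ↥Co0, n ∈ Subgroup.center ↥Co0 ∧ ∀ v : ↥leechLattice, n.1 v = -v
  cen : Nat.card (Subgroup.center ↥Co0) = 2
  dbl64 : ∀ w : ↥leechLattice, sqNorm ((w + w : ↥leechLattice) : GolayPt → ℤ) ≠ 64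

section conj

variable {G : Type*} [Group G] {z : G}
  (Q : Subgroup (Subgroup.centralizer ({z} : Set G))) [Q.Normal]
  (e : (Subgroup.centralizer ({z} : Set G)) ⧸ Q ≃* Spor.Co1)
  (ψ : leechLattice → Q ⧸ Subgroup.center Q)

/-- conjugation by `k` on the centralizer in `Q` of an element `x` with `k x k⁻¹ = z` -/
def mqConj (k : G) (x : Q)
    (hk : k * ((x : Subgroup.centralizer ({z} : Set G)) : G) * k⁻¹ = z) :
    Subgroup.centralizer ({x} : Set Q) →* Subgroup.centralizer ({z} : Set G) where
  toFun q := ⟨k * (((q : Q) : Subgroup.centralizer ({z} : Set G)) : G) * k⁻¹, by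
    apply Subgroup.mem_centralizer_singleton_iff.mpr
    have h1 : (((q : Q) : Subgroup.centralizer ({z} : Set G)) : G) *
        ((x : Subgroup.centralizer ({z} : Set G)) : G) =
        ((x : Subgroup.centralizer ({z} : Set G)) : G) *
          (((q : Q) : Subgroup.centralizer ({z} : Set G)) : G) :=
      congrArg (fun u : Q => ((u : Subgroup.centralizer ({z} : Set G)) : G))
        (Subgroup.mem_centralizer_singleton_iff.mp q.2)
    calc k * (((q : Q) : Subgroup.centralizer ({z} : Set G)) : G) * k⁻¹ * z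
        = k * (((q : Q) : Subgroup.centralizer ({z} : Set G)) : G) * k⁻¹ *
          (k * ((x : Subgroup.centralizer ({z} : Set G)) : G) * k⁻¹) := by rw [hk]
      _ = k * ((((q : Q) : Subgroup.centralizer ({z} : Set G)) : G) *
          ((x : Subgroup.centralizer ({z} : Set G)) : G)) * k⁻¹ := by group
      _ = k * (((x : Subgroup.centralizer ({z} : Set G)) : G) *
          (((q : Q) : Subgroup.centralizer ({z} : Set G)) : G)) * k⁻¹ := by rw [h1]
      _ = (k * ((x : Subgroup.centralizer ({z} : Set G)) : G) * k⁻¹) *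
          (k * (((q : Q) : Subgroup.centralizer ({z} : Set G)) : G) * k⁻¹) := by group
      _ = z * (k * (((q : Q) : Subgroup.centralizer ({z} : Set G)) : G) * k⁻¹) := by rw [hk]⟩
  map_one' := by
    apply Subtype.ext
    show k * (1 : G) * k⁻¹ = 1
    group
  map_mul' := by
    intro a b
    apply Subtype.ext
    show k * ((((a : Q) : Subgroup.centralizer ({z} : Set G)) : G) *
      (((b : Q) : Subgroup.centralizer ({z} : Set G)) : G)) * k⁻¹ =
      (k * (((a : Q) : Subgroup.centralizer ({z} : Set G)) : G) * k⁻¹) *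
      (k * (((b : Q) : Subgroup.centralizer ({z} : Set G)) : G) * k⁻¹)
    group

theorem mqConj_coe (k : G) (x : Q)
    (hk : k * ((x : Subgroup.centralizer ({z} : Set G)) : G) * k⁻¹ = z)
    (q : Subgroup.centralizer ({x} : Set Q)) :
    ((mqConj Q k x hk q : Subgroup.centralizer ({z} : Set G)) : G) =
      k * (((q : Q) : Subgroup.centralizer ({z} : Set G)) : G) * k⁻¹ := rfl

/-- the map to the first Conway group -/
noncomputable def mqBar (k : G) (x : Q)
    (hk : k * ((x : Subgroup.centralizer ({z} : Set G)) : G) * k⁻¹ = z) :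
    Subgroup.centralizer ({x} : Set Q) →* Spor.Co1 :=
  (e.toMonoidHom.comp (QuotientGroup.mk' Q)).comp (mqConj Q k x hk)

theorem mqBar_apply (k : G) (x : Q)
    (hk : k * ((x : Subgroup.centralizer ({z} : Set G)) : G) * k⁻¹ = z)
    (q : Subgroup.centralizer ({x} : Set Q)) :
    mqBar Q e k x hk q = e (QuotientGroup.mk (mqConj Q k x hk q)) := rfl

theorem mqBar_eq_one_iff (k : G) (x : Q)
    (hk : k * ((x : Subgroup.centralizer ({z} : Set G)) : G) * k⁻¹ = z)
    (q : Subgroup.centralizer ({x} : Set Q)) :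
    mqBar Q e k x hk q = 1 ↔ mqConj Q k x hk q ∈ Q := by
  rw [mqBar_apply, MulEquiv.map_eq_one_iff, QuotientGroup.eq_one_iff]

/-- a lift of an automorphism of the lattice to the centralizer -/
theorem mq_lift (g : ↥Co0) : ∃ h : Subgroup.centralizer ({z} : Set G),
    (QuotientGroup.mk g : Spor.Co1) = e (QuotientGroup.mk h) := by
  obtain ⟨h, hh⟩ := QuotientGroup.mk_surjective (e.symm (QuotientGroup.mk g))
  exact ⟨h, by rw [hh, MulEquiv.apply_symm_apply]⟩

end conj

section main

variable {G : Type*} [Group G] [Finite G] {z : G}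
  (Q : Subgroup (Subgroup.centralizer ({z} : Set G))) [Q.Normal]
  (e : (Subgroup.centralizer ({z} : Set G)) ⧸ Q ≃* Spor.Co1)
  (ψ : leechLattice → Q ⧸ Subgroup.center Q)

/-- if `k x k⁻¹ = z` for a non-central element `x` of `Q`, then `k z k⁻¹` lies in `Q` -/
theorem mq_conj_mem (F2 : MQFacts2) (hS : IsExtraspecialCentralizerSetting z Q 12)
    (hψ : IsLeechModTwoIso Q e ψ) (zQ : Q)
    (hzQ : ((zQ : Subgroup.centralizer ({z} : Set G)) : G) = z)
    (hzc : zQ ∈ Subgroup.center Q) (hzall : ∀ x ∈ Subgroup.center Q, x = 1 ∨ x = zQ)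
    (k : G) (x : Q) (hx : x ∉ Subgroup.center Q)
    (hk : k * ((x : Subgroup.centralizer ({z} : Set G)) : G) * k⁻¹ = z) :
    ∃ hc : k * z * k⁻¹ ∈ Subgroup.centralizer ({z} : Set G),
      (⟨k * z * k⁻¹, hc⟩ : Subgroup.centralizer ({z} : Set G)) ∈ Q := by
  have hZ : Nat.card (Subgroup.center Q) = 2 := hS.2.2.1.2
  have hzz : zQ * zQ = 1 := mq_center_sq hZ zQ hzc
  have hcm := mq_comm_mem Q e ψ hψ
  -- the central involution, in the centralizer of `x`
  have hzB : zQ ∈ Subgroup.centralizer ({x} : Set Q) :=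
    Subgroup.mem_centralizer_singleton_iff.mpr (Subgroup.mem_center_iff.mp hzc x).symm
  have hval : ((mqConj Q k x hk ⟨zQ, hzB⟩ : Subgroup.centralizer ({z} : Set G)) : G) =
      k * z * k⁻¹ := by
    rw [mqConj_coe]
    show k * ((zQ : Subgroup.centralizer ({z} : Set G)) : G) * k⁻¹ = k * z * k⁻¹
    rw [hzQ]
  have hc : k * z * k⁻¹ ∈ Subgroup.centralizer ({z} : Set G) := by
    rw [← hval]
    exact (mqConj Q k x hk ⟨zQ, hzB⟩).2
  refine ⟨hc, ?_⟩
  have heq : (⟨k * z * k⁻¹, hc⟩ : Subgroup.centralizer ({z} : Set G)) =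
      mqConj Q k x hk ⟨zQ, hzB⟩ := Subtype.ext hval.symm
  rw [heq]
  by_contra hnot
  -- the kernel of the map to the Conway group
  have hker : ∀ m : (mqBar Q e k x hk).ker,
      ((m : Subgroup.centralizer ({x} : Set Q)) : Q) = 1 ∨
      ((m : Subgroup.centralizer ({x} : Set Q)) : Q) = zQ ∨
      ((m : Subgroup.centralizer ({x} : Set Q)) : Q) = x ∨
      ((m : Subgroup.centralizer ({x} : Set Q)) : Q) = x * zQ := by
    intro m
    apply mq_double_centralizer zQ hzc hzz hzall hcm x hx
    intro r hr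
    have hm1 : mqBar Q e k x hk (m : Subgroup.centralizer ({x} : Set Q)) = 1 :=
      MonoidHom.mem_ker.mp m.2
    -- the commutator lies in the kernel
    have hcomm : mqBar Q e k x hk ((⟨r, Subgroup.mem_centralizer_singleton_iff.mpr hr⟩ :
        Subgroup.centralizer ({x} : Set Q)) * (m : Subgroup.centralizer ({x} : Set Q)) *
        (⟨r, Subgroup.mem_centralizer_singleton_iff.mpr hr⟩ :
          Subgroup.centralizer ({x} : Set Q))⁻¹ *
        (m : Subgroup.centralizer ({x} : Set Q))⁻¹) = 1 := by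
      rw [map_mul, map_mul, map_mul, map_inv, map_inv, hm1]
      group
    rcases hzall _ (hcm r ((m : Subgroup.centralizer ({x} : Set Q)) : Q)) with h | h
    · calc r * ((m : Subgroup.centralizer ({x} : Set Q)) : Q)
          = (r * ((m : Subgroup.centralizer ({x} : Set Q)) : Q) * r⁻¹ *
            ((m : Subgroup.centralizer ({x} : Set Q)) : Q)⁻¹) *
            (((m : Subgroup.centralizer ({x} : Set Q)) : Q) * r) := by group
        _ = ((m : Subgroup.centralizer ({x} : Set Q)) : Q) * r := by rw [h, one_mul]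
    · exfalso
      apply hnot
      rw [← mqBar_eq_one_iff Q e k x hk]
      have h2 : (⟨zQ, hzB⟩ : Subgroup.centralizer ({x} : Set Q)) =
          (⟨r, Subgroup.mem_centralizer_singleton_iff.mpr hr⟩ :
            Subgroup.centralizer ({x} : Set Q)) * (m : Subgroup.centralizer ({x} : Set Q)) *
          (⟨r, Subgroup.mem_centralizer_singleton_iff.mpr hr⟩ :
            Subgroup.centralizer ({x} : Set Q))⁻¹ *
          (m : Subgroup.centralizer ({x} : Set Q))⁻¹ := Subtype.ext h.symm
      rw [h2]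
      exact hcomm
  have hk4 : Nat.card (mqBar Q e k x hk).ker ≤ 4 :=
    mq_card_le_four (fun m : (mqBar Q e k x hk).ker =>
      ((m : Subgroup.centralizer ({x} : Set Q)) : Q))
      (Subtype.val_injective.comp Subtype.val_injective) 1 zQ x (x * zQ) hker
  -- orders
  have hidx := mq_index_centralizer zQ hzc hzz hzall hcm x hx
  have hB := Subgroup.card_mul_index (Subgroup.centralizer ({x} : Set Q))
  rw [hidx, hS.2.2.2.1] at hB
  have hkr := Subgroup.card_mul_index (mqBar Q e k x hk).ker
  rw [Subgroup.index_ker] at hkr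
  have hdvd : Nat.card (mqBar Q e k x hk).range ∣ Nat.card Spor.Co1 :=
    Subgroup.card_subgroup_dvd_card _
  have hpos : 0 < Nat.card (mqBar Q e k x hk).ker := Nat.card_pos
  apply F2.co1
  refine dvd_trans ?_ hdvd
  generalize Nat.card (mqBar Q e k x hk).ker = kk at hk4 hkr hpos
  generalize Nat.card (mqBar Q e k x hk).range = rr at hkr
  generalize Nat.card (Subgroup.centralizer ({x} : Set Q)) = bb at hB hkr
  have hbb : bb = 16777216 := by omega
  subst hbb
  have hrr : rr = 16777216 ∨ rr = 8388608 ∨ rr = 4194304 := by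
    interval_cases kk <;> omega
  rcases hrr with h | h | h
  · exact ⟨4, by rw [h]; norm_num⟩
  · exact ⟨2, by rw [h]; norm_num⟩
  · exact ⟨1, by rw [h]; norm_num⟩

/-- an automorphism of the lattice fixing the class of the vector of a non-central element `t` of
`Q` lifts to an element of the centralizer that centralizes `t` -/
theorem mq_fix_lift (hψ : IsLeechModTwoIso Q e ψ) (zQ : Q)
    (hzc : zQ ∈ Subgroup.center Q) (hzall : ∀ x ∈ Subgroup.center Q, x = 1 ∨ x = zQ)
    (tQ : Q) (ht : tQ ∉ Subgroup.center Q) (y : ↥leechLattice) (hy : ψ y = QuotientGroup.mk tQ)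
    (k0 : ↥Co0) (hk0 : ψ (k0.1 y) = ψ y) :
    ∃ h : Subgroup.centralizer ({z} : Set G),
      (QuotientGroup.mk k0 : Spor.Co1) = e (QuotientGroup.mk h) ∧
      h * (tQ : Subgroup.centralizer ({z} : Set G)) * h⁻¹ =
        (tQ : Subgroup.centralizer ({z} : Set G)) := by
  obtain ⟨h0, hh0⟩ := mq_lift Q e k0
  have h1 := hψ.2.2.2 h0 k0 hh0 y tQ hy
  have h2 : k0 • y = k0.1 y := rfl
  rw [h2, hk0, hy] at h1
  set t'' : Q := ⟨h0 * tQ * h0⁻¹, (inferInstance : Q.Normal).conj_mem
        (tQ : Subgroup.centralizer ({z} : Set G)) tQ.2 h0⟩ with ht''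
  have h3 : t''⁻¹ * tQ ∈ Subgroup.center Q := QuotientGroup.eq.mp h1.symm
  rcases hzall _ h3 with h4 | h4
  · refine ⟨h0, hh0, ?_⟩
    have h5 : tQ = t'' := by
      calc tQ = t'' * (t''⁻¹ * tQ) := by group
        _ = t'' := by rw [h4, mul_one]
    exact (congrArg (fun u : Q => (u : Subgroup.centralizer ({z} : Set G))) h5).symm
  · have h5 : tQ = t'' * zQ := by
      calc tQ = t'' * (t''⁻¹ * tQ) := by group
        _ = t'' * zQ := by rw [h4]
    have ht''c : t'' ∉ Subgroup.center Q := by
      intro hc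
      exact ht (h5 ▸ mul_mem hc hzc)
    obtain ⟨q, hq⟩ := mq_swap Q e ψ hψ zQ hzall t'' ht''c
    refine ⟨(q : Subgroup.centralizer ({z} : Set G)) * h0, ?_, ?_⟩
    · rw [hh0, QuotientGroup.mk_mul, map_mul,
        (QuotientGroup.eq_one_iff (q : Subgroup.centralizer ({z} : Set G))).mpr q.2, map_one,
        one_mul]
    · have h6 : q * t'' * q⁻¹ = tQ := by rw [hq, h5]
      have h7 := congrArg (fun u : Q => (u : Subgroup.centralizer ({z} : Set G))) h6
      have h8 : (q : Subgroup.centralizer ({z} : Set G)) *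
          (h0 * (tQ : Subgroup.centralizer ({z} : Set G)) * h0⁻¹) *
          (q : Subgroup.centralizer ({z} : Set G))⁻¹ =
          (tQ : Subgroup.centralizer ({z} : Set G)) := h7
      calc (q : Subgroup.centralizer ({z} : Set G)) * h0 *
            (tQ : Subgroup.centralizer ({z} : Set G)) *
            ((q : Subgroup.centralizer ({z} : Set G)) * h0)⁻¹
          = (q : Subgroup.centralizer ({z} : Set G)) *
            (h0 * (tQ : Subgroup.centralizer ({z} : Set G)) * h0⁻¹) *
            (q : Subgroup.centralizer ({z} : Set G))⁻¹ := by group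
        _ = (tQ : Subgroup.centralizer ({z} : Set G)) := h8

/-- the conjugates `k q k⁻¹` centralize `t = k z k⁻¹` -/
theorem mqConj_fix (k : G) (x : Q)
    (hk : k * ((x : Subgroup.centralizer ({z} : Set G)) : G) * k⁻¹ = z)
    (tQ : Q) (htQ : ((tQ : Subgroup.centralizer ({z} : Set G)) : G) = k * z * k⁻¹)
    (q : Subgroup.centralizer ({x} : Set Q)) :
    mqConj Q k x hk q * (tQ : Subgroup.centralizer ({z} : Set G)) * (mqConj Q k x hk q)⁻¹ =
      (tQ : Subgroup.centralizer ({z} : Set G)) := by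
  apply Subtype.ext
  show k * (((q : Q) : Subgroup.centralizer ({z} : Set G)) : G) * k⁻¹ *
    ((tQ : Subgroup.centralizer ({z} : Set G)) : G) *
    (k * (((q : Q) : Subgroup.centralizer ({z} : Set G)) : G) * k⁻¹)⁻¹ =
    ((tQ : Subgroup.centralizer ({z} : Set G)) : G)
  have hqz : (((q : Q) : Subgroup.centralizer ({z} : Set G)) : G) * z =
      z * (((q : Q) : Subgroup.centralizer ({z} : Set G)) : G) :=
    Subgroup.mem_centralizer_singleton_iff.mp ((q : Q) : Subgroup.centralizer ({z} : Set G)).2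
  rw [htQ]
  calc k * (((q : Q) : Subgroup.centralizer ({z} : Set G)) : G) * k⁻¹ * (k * z * k⁻¹) *
        (k * (((q : Q) : Subgroup.centralizer ({z} : Set G)) : G) * k⁻¹)⁻¹
      = k * ((((q : Q) : Subgroup.centralizer ({z} : Set G)) : G) * z) *
        (((q : Q) : Subgroup.centralizer ({z} : Set G)) : G)⁻¹ * k⁻¹ := by group
    _ = k * (z * (((q : Q) : Subgroup.centralizer ({z} : Set G)) : G)) *
        (((q : Q) : Subgroup.centralizer ({z} : Set G)) : G)⁻¹ * k⁻¹ := by rw [hqz]
    _ = k * z * k⁻¹ := by group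

/-- lifts of the images fix the class of the vector of `t` -/
theorem mqBar_class (hψ : IsLeechModTwoIso Q e ψ) (k : G) (x : Q)
    (hk : k * ((x : Subgroup.centralizer ({z} : Set G)) : G) * k⁻¹ = z)
    (tQ : Q) (htQ : ((tQ : Subgroup.centralizer ({z} : Set G)) : G) = k * z * k⁻¹)
    (y : ↥leechLattice) (hy : ψ y = QuotientGroup.mk tQ)
    (q : Subgroup.centralizer ({x} : Set Q)) (g : ↥Co0)
    (hg : (QuotientGroup.mk g : Spor.Co1) = mqBar Q e k x hk q) : ψ (g.1 y) = ψ y := by
  have h1 := hψ.2.2.2 (mqConj Q k x hk q) g hg y tQ hy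
  have h2 : g • y = g.1 y := rfl
  have h3 : (⟨mqConj Q k x hk q * (tQ : Subgroup.centralizer ({z} : Set G)) *
      (mqConj Q k x hk q)⁻¹, (inferInstance : Q.Normal).conj_mem
      (tQ : Subgroup.centralizer ({z} : Set G)) tQ.2 (mqConj Q k x hk q)⟩ : Q) = tQ :=
    Subtype.ext (mqConj_fix Q k x hk tQ htQ q)
  rw [h2, h3, ← hy] at h1
  exact h1

/-- the image in the Conway group is normalized by the stabilizer of the class of the vector
of `t` -/
theorem mqBar_normalized (hψ : IsLeechModTwoIso Q e ψ) (zQ : Q)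
    (hzc : zQ ∈ Subgroup.center Q) (hzall : ∀ x ∈ Subgroup.center Q, x = 1 ∨ x = zQ)
    (k : G) (x : Q) (hk : k * ((x : Subgroup.centralizer ({z} : Set G)) : G) * k⁻¹ = z)
    (tQ : Q) (htQ : ((tQ : Subgroup.centralizer ({z} : Set G)) : G) = k * z * k⁻¹)
    (htc : tQ ∉ Subgroup.center Q) (y : ↥leechLattice) (hy : ψ y = QuotientGroup.mk tQ)
    (k0 : ↥Co0) (hk0 : ψ (k0.1 y) = ψ y) (q : Subgroup.centralizer ({x} : Set Q)) :
    ∃ q' : Subgroup.centralizer ({x} : Set Q), mqBar Q e k x hk q' =
      (QuotientGroup.mk k0 : Spor.Co1) * mqBar Q e k x hk q *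
        (QuotientGroup.mk k0 : Spor.Co1)⁻¹ := by
  obtain ⟨h', hh', hfix'⟩ := mq_fix_lift Q e ψ hψ zQ hzc hzall tQ htc y hy k0 hk0
  -- in `G`
  have hfixG : (h' : G) * (k * z * k⁻¹) * (h' : G)⁻¹ = k * z * k⁻¹ := by
    have := congrArg (fun u : Subgroup.centralizer ({z} : Set G) => (u : G)) hfix'
    rw [← htQ]
    exact this
  have hh'z : (h' : G) * z = z * (h' : G) := Subgroup.mem_centralizer_singleton_iff.mp h'.2
  have hxG : ((x : Subgroup.centralizer ({z} : Set G)) : G) = k⁻¹ * z * k := by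
    calc ((x : Subgroup.centralizer ({z} : Set G)) : G)
        = k⁻¹ * (k * ((x : Subgroup.centralizer ({z} : Set G)) : G) * k⁻¹) * k := by group
      _ = k⁻¹ * z * k := by rw [hk]
  -- the element `c = k⁻¹ h' k`
  have hcz : k⁻¹ * (h' : G) * k * z = z * (k⁻¹ * (h' : G) * k) := by
    calc k⁻¹ * (h' : G) * k * z = k⁻¹ * ((h' : G) * (k * z * k⁻¹) * (h' : G)⁻¹) * (h' : G) * k := by
          group
      _ = k⁻¹ * (k * z * k⁻¹) * (h' : G) * k := by rw [hfixG]
      _ = z * (k⁻¹ * (h' : G) * k) := by group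
  have hcC : k⁻¹ * (h' : G) * k ∈ Subgroup.centralizer ({z} : Set G) :=
    Subgroup.mem_centralizer_singleton_iff.mpr hcz
  have hcx : k⁻¹ * (h' : G) * k * ((x : Subgroup.centralizer ({z} : Set G)) : G) =
      ((x : Subgroup.centralizer ({z} : Set G)) : G) * (k⁻¹ * (h' : G) * k) := by
    rw [hxG]
    calc k⁻¹ * (h' : G) * k * (k⁻¹ * z * k) = k⁻¹ * ((h' : G) * z) * k := by group
      _ = k⁻¹ * (z * (h' : G)) * k := by rw [hh'z]
      _ = k⁻¹ * z * k * (k⁻¹ * (h' : G) * k) := by group
  -- the conjugate of `q` by `c`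
  have hq'Q : (⟨k⁻¹ * (h' : G) * k, hcC⟩ : Subgroup.centralizer ({z} : Set G)) *
      ((q : Q) : Subgroup.centralizer ({z} : Set G)) *
      (⟨k⁻¹ * (h' : G) * k, hcC⟩ : Subgroup.centralizer ({z} : Set G))⁻¹ ∈ Q :=
    (inferInstance : Q.Normal).conj_mem _ (q : Q).2 _
  have hqx : (((q : Q) : Subgroup.centralizer ({z} : Set G)) : G) *
      ((x : Subgroup.centralizer ({z} : Set G)) : G) =
      ((x : Subgroup.centralizer ({z} : Set G)) : G) *
        (((q : Q) : Subgroup.centralizer ({z} : Set G)) : G) :=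
    congrArg (fun u : Q => ((u : Subgroup.centralizer ({z} : Set G)) : G))
      (Subgroup.mem_centralizer_singleton_iff.mp q.2)
  have hq'x : (⟨_, hq'Q⟩ : Q) ∈ Subgroup.centralizer ({x} : Set Q) := by
    apply Subgroup.mem_centralizer_singleton_iff.mpr
    apply Subtype.ext
    apply Subtype.ext
    show k⁻¹ * (h' : G) * k * (((q : Q) : Subgroup.centralizer ({z} : Set G)) : G) *
      (k⁻¹ * (h' : G) * k)⁻¹ * ((x : Subgroup.centralizer ({z} : Set G)) : G) =
      ((x : Subgroup.centralizer ({z} : Set G)) : G) *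
      (k⁻¹ * (h' : G) * k * (((q : Q) : Subgroup.centralizer ({z} : Set G)) : G) *
      (k⁻¹ * (h' : G) * k)⁻¹)
    have hcx' : (k⁻¹ * (h' : G) * k)⁻¹ * ((x : Subgroup.centralizer ({z} : Set G)) : G) =
        ((x : Subgroup.centralizer ({z} : Set G)) : G) * (k⁻¹ * (h' : G) * k)⁻¹ := by
      calc (k⁻¹ * (h' : G) * k)⁻¹ * ((x : Subgroup.centralizer ({z} : Set G)) : G)
          = (k⁻¹ * (h' : G) * k)⁻¹ * (((x : Subgroup.centralizer ({z} : Set G)) : G) *
            (k⁻¹ * (h' : G) * k)) * (k⁻¹ * (h' : G) * k)⁻¹ := by group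
        _ = (k⁻¹ * (h' : G) * k)⁻¹ * ((k⁻¹ * (h' : G) * k) *
            ((x : Subgroup.centralizer ({z} : Set G)) : G)) * (k⁻¹ * (h' : G) * k)⁻¹ := by
          rw [hcx]
        _ = ((x : Subgroup.centralizer ({z} : Set G)) : G) * (k⁻¹ * (h' : G) * k)⁻¹ := by group
    calc k⁻¹ * (h' : G) * k * (((q : Q) : Subgroup.centralizer ({z} : Set G)) : G) *
          (k⁻¹ * (h' : G) * k)⁻¹ * ((x : Subgroup.centralizer ({z} : Set G)) : G)
        = k⁻¹ * (h' : G) * k * (((q : Q) : Subgroup.centralizer ({z} : Set G)) : G) *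
          ((k⁻¹ * (h' : G) * k)⁻¹ * ((x : Subgroup.centralizer ({z} : Set G)) : G)) := by group
      _ = k⁻¹ * (h' : G) * k * ((((q : Q) : Subgroup.centralizer ({z} : Set G)) : G) *
          ((x : Subgroup.centralizer ({z} : Set G)) : G)) * (k⁻¹ * (h' : G) * k)⁻¹ := by
        rw [hcx']
        group
      _ = (k⁻¹ * (h' : G) * k * ((x : Subgroup.centralizer ({z} : Set G)) : G)) *
          (((q : Q) : Subgroup.centralizer ({z} : Set G)) : G) * (k⁻¹ * (h' : G) * k)⁻¹ := by
        rw [hqx]
        group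
      _ = ((x : Subgroup.centralizer ({z} : Set G)) : G) *
          (k⁻¹ * (h' : G) * k * (((q : Q) : Subgroup.centralizer ({z} : Set G)) : G) *
          (k⁻¹ * (h' : G) * k)⁻¹) := by
        rw [hcx]
        group
  refine ⟨⟨⟨_, hq'Q⟩, hq'x⟩, ?_⟩
  have hΘ : mqConj Q k x hk ⟨⟨_, hq'Q⟩, hq'x⟩ = h' * mqConj Q k x hk q * h'⁻¹ := by
    apply Subtype.ext
    show k * (k⁻¹ * (h' : G) * k * (((q : Q) : Subgroup.centralizer ({z} : Set G)) : G) *
      (k⁻¹ * (h' : G) * k)⁻¹) * k⁻¹ =
      (h' : G) * (k * (((q : Q) : Subgroup.centralizer ({z} : Set G)) : G) * k⁻¹) * (h' : G)⁻¹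
    group
  rw [mqBar_apply, hΘ, QuotientGroup.mk_mul, QuotientGroup.mk_mul, map_mul, map_mul,
    QuotientGroup.mk_inv, map_inv, ← hh', ← mqBar_apply]

/-- the conjugates `k q k⁻¹`, for `q` in the centralizer of `x` in `Q`, do not all lie in `Q` -/
theorem mqConj_not_all_mem (hS : IsExtraspecialCentralizerSetting z Q 12)
    (hψ : IsLeechModTwoIso Q e ψ) (zQ : Q)
    (hzQ : ((zQ : Subgroup.centralizer ({z} : Set G)) : G) = z)
    (hzc : zQ ∈ Subgroup.center Q) (hzall : ∀ x ∈ Subgroup.center Q, x = 1 ∨ x = zQ)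
    (k : G) (x : Q) (hx : x ∉ Subgroup.center Q)
    (hk : k * ((x : Subgroup.centralizer ({z} : Set G)) : G) * k⁻¹ = z)
    (htz : k * z * k⁻¹ ≠ z)
    (hinQ : ∀ q : Subgroup.centralizer ({x} : Set Q), mqConj Q k x hk q ∈ Q) : False := by
  have hZ : Nat.card (Subgroup.center Q) = 2 := hS.2.2.1.2
  have hzz : zQ * zQ = 1 := mq_center_sq hZ zQ hzc
  have hcm := mq_comm_mem Q e ψ hψ
  have hzne : z ≠ 1 := by
    intro h
    have h2 := hS.1
    rw [h, orderOf_one] at h2
    omega
  have hP : 8 < Nat.card Q := by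
    rw [hS.2.2.2.1]
    norm_num
  obtain ⟨q, hqx, hqq⟩ := mq_exists_sq_ne_one zQ hzc hzz hzall hcm hP x hx
  have hqz : q * q = zQ := by
    rcases hzall _ (mq_sq_mem Q e ψ hψ q) with h | h
    · exact absurd h hqq
    · exact h
  have hw := hinQ ⟨q, Subgroup.mem_centralizer_singleton_iff.mpr hqx⟩
  have hsqG : k * ((q : Subgroup.centralizer ({z} : Set G)) : G) * k⁻¹ *
      (k * ((q : Subgroup.centralizer ({z} : Set G)) : G) * k⁻¹) = k * z * k⁻¹ := by
    have h1 : ((q : Subgroup.centralizer ({z} : Set G)) : G) *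
        ((q : Subgroup.centralizer ({z} : Set G)) : G) = z :=
      (congrArg (fun u : Q => ((u : Subgroup.centralizer ({z} : Set G)) : G)) hqz).trans hzQ
    calc k * ((q : Subgroup.centralizer ({z} : Set G)) : G) * k⁻¹ *
          (k * ((q : Subgroup.centralizer ({z} : Set G)) : G) * k⁻¹)
        = k * (((q : Subgroup.centralizer ({z} : Set G)) : G) *
          ((q : Subgroup.centralizer ({z} : Set G)) : G)) * k⁻¹ := by group
      _ = k * z * k⁻¹ := by rw [h1]
  rcases hzall _ (mq_sq_mem Q e ψ hψ ⟨_, hw⟩) with h | h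
  · have h2 := congrArg (fun u : Q => ((u : Subgroup.centralizer ({z} : Set G)) : G)) h
    have h3 : k * z * k⁻¹ = 1 := hsqG.symm.trans h2
    exact hzne (conj_eq_one_iff.mp h3)
  · have h2 := congrArg (fun u : Q => ((u : Subgroup.centralizer ({z} : Set G)) : G)) h
    exact htz (hsqG.symm.trans (h2.trans hzQ))

/-- the class of a conjugate `k z k⁻¹` of `z` in `Q`, with `k⁻¹ z k` also in `Q`, is not the class
of a vector of norm 32 -/
theorem mq_not32_aux (F2 : MQFacts2) (hS : IsExtraspecialCentralizerSetting z Q 12)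
    (hψ : IsLeechModTwoIso Q e ψ) (zQ : Q)
    (hzQ : ((zQ : Subgroup.centralizer ({z} : Set G)) : G) = z)
    (hzc : zQ ∈ Subgroup.center Q)
    (hzall : ∀ x ∈ Subgroup.center Q, x = 1 ∨ x = zQ)
    (k : G) (x : Q) (hx : x ∉ Subgroup.center Q)
    (hk : k * ((x : Subgroup.centralizer ({z} : Set G)) : G) * k⁻¹ = z)
    (tQ : Q) (htQ : ((tQ : Subgroup.centralizer ({z} : Set G)) : G) = k * z * k⁻¹)
    (htz : k * z * k⁻¹ ≠ z) (y : ↥leechLattice) (hy : ψ y = QuotientGroup.mk tQ)
    (hn : sqNorm (y : GolayPt → ℤ) = 32) : False := by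
  have hPQ : IsPGroup 2 Q := hS.2.2.1.1.1
  have hzne : z ≠ 1 := by
    intro h
    have h2 := hS.1
    rw [h, orderOf_one] at h2
    omega
  have htc : tQ ∉ Subgroup.center Q := by
    intro h
    rcases hzall _ h with h1 | h1
    · have h2 := congrArg (fun u : Q => ((u : Subgroup.centralizer ({z} : Set G)) : G)) h1
      have h3 : k * z * k⁻¹ = 1 := htQ.symm.trans h2
      exact hzne (conj_eq_one_iff.mp h3)
    · have h2 := congrArg (fun u : Q => ((u : Subgroup.centralizer ({z} : Set G)) : G)) h1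
      exact htz (htQ.symm.trans (h2.trans hzQ))
  -- lifts of the images map `y` to `y` or `-y`
  have hpm : ∀ (q : Subgroup.centralizer ({x} : Set Q)) (g : ↥Co0),
      (QuotientGroup.mk g : Spor.Co1) = mqBar Q e k x hk q → g.1 y = y ∨ g.1 y = -y := by
    intro q g hg
    have h1 := mqBar_class Q e ψ hψ k x hk tQ htQ y hy q g hg
    have h4 : ψ (y + g.1 y) = 1 := by
      rw [hψ.1, h1, ← hψ.1, mq_dbl Q e ψ hψ]
    obtain ⟨u, hu⟩ := (hψ.2.2.1 _).mp h4
    exact F2.short y (g.1 y) hn ((g.2.2 y).trans hn) ⟨u, hu⟩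
  -- the image is normalized by the stabilizer of `y`
  have hnorm : ∀ (k0 : ↥Co0), k0.1 y = y → ∀ q : Subgroup.centralizer ({x} : Set Q),
      ∃ q' : Subgroup.centralizer ({x} : Set Q), mqBar Q e k x hk q' =
        (QuotientGroup.mk k0 : Spor.Co1) * mqBar Q e k x hk q *
          (QuotientGroup.mk k0 : Spor.Co1)⁻¹ := by
    intro k0 hk0 q
    exact mqBar_normalized Q e ψ hψ zQ hzc hzall k x hk tQ htQ htc y hy k0 (by rw [hk0]) q
  -- the preimage in the automorphism group of the lattice, inside the stabilizer of `y`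
  have hbot := F2.co2 y hn
    ((((mqBar Q e k x hk).range).comap (QuotientGroup.mk' (Subgroup.center ↥Co0))).subgroupOf
      (MulAction.stabilizer ↥Co0 y))
    (by
      constructor
      intro n hnmem g
      obtain ⟨q, hq⟩ := hnmem
      have hg : (g : ↥Co0).1 y = y := MulAction.mem_stabilizer_iff.mp g.2
      obtain ⟨q', hq'⟩ := hnorm (g : ↥Co0) hg q
      refine ⟨q', ?_⟩
      rw [hq', hq]
      rfl)
    (by
      apply IsPGroup.comap_of_injective _ _ (Subgroup.subtype_injective _)
      apply IsPGroup.comap_of_ker_isPGroup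
      · have h1 : IsPGroup 2 (Subgroup.centralizer ({x} : Set Q)) :=
          IsPGroup.of_injective hPQ (Subgroup.subtype _) (Subgroup.subtype_injective _)
        exact IsPGroup.of_surjective h1 (mqBar Q e k x hk).rangeRestrict
          (mqBar Q e k x hk).rangeRestrict_surjective
      · rw [QuotientGroup.ker_mk']
        exact IsPGroup.of_card (n := 1) (by rw [F2.cen, pow_one]))
  -- the images lie in `Q`
  have hinQ : ∀ q : Subgroup.centralizer ({x} : Set Q), mqConj Q k x hk q ∈ Q := by
    intro q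
    rw [← mqBar_eq_one_iff Q e k x hk]
    obtain ⟨g, hg⟩ := QuotientGroup.mk_surjective (mqBar Q e k x hk q)
    have key : ∀ g' : ↥Co0, (QuotientGroup.mk g' : Spor.Co1) = mqBar Q e k x hk q → g'.1 y = y →
        g' = 1 := by
      intro g' hg' hfix'
      have hmem : (⟨g', MulAction.mem_stabilizer_iff.mpr hfix'⟩ : MulAction.stabilizer ↥Co0 y) ∈
          ((((mqBar Q e k x hk).range).comap
            (QuotientGroup.mk' (Subgroup.center ↥Co0))).subgroupOf
            (MulAction.stabilizer ↥Co0 y)) := ⟨q, hg'.symm⟩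
      rw [hbot, Subgroup.mem_bot] at hmem
      exact congrArg Subtype.val hmem
    rcases hpm q g hg with h | h
    · have h1 := key g hg h
      rw [← hg, h1]
      rfl
    · obtain ⟨n, hnc, hneg⟩ := F2.neg
      have h2 : (QuotientGroup.mk (n * g) : Spor.Co1) = mqBar Q e k x hk q := by
        rw [QuotientGroup.mk_mul, (QuotientGroup.eq_one_iff n).mpr hnc, one_mul, hg]
      have h3 : (n * g).1 y = y := by
        show n.1 (g.1 y) = y
        rw [h, hneg, neg_neg]
      have h1 := key (n * g) h2 h3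
      rw [← h2, h1]
      rfl
  exact mqConj_not_all_mem Q e ψ hS hψ zQ hzQ hzc hzall k x hx hk htz hinQ

/-- the class of a conjugate of `z` in `Q`, other than `z`, is not the class of a vector of norm 32 -/
theorem mq_not32 (F2 : MQFacts2) (hS : IsExtraspecialCentralizerSetting z Q 12)
    (hψ : IsLeechModTwoIso Q e ψ) (g : G) (wQ : Q)
    (hw : ((wQ : Subgroup.centralizer ({z} : Set G)) : G) = g * z * g⁻¹)
    (hwz : g * z * g⁻¹ ≠ z) (y : ↥leechLattice) (hy : ψ y = QuotientGroup.mk wQ) :
    sqNorm (y : GolayPt → ℤ) ≠ 32 := by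
  intro hn
  obtain ⟨zQ, hzQ, hzc, hz1, hzall⟩ := mq_center_cases z Q hS
  have hzne : z ≠ 1 := by
    intro h
    have h2 := hS.1
    rw [h, orderOf_one] at h2
    omega
  have hwc : wQ ∉ Subgroup.center Q := by
    intro h
    rcases hzall _ h with h1 | h1
    · have h2 := congrArg (fun u : Q => ((u : Subgroup.centralizer ({z} : Set G)) : G)) h1
      have h3 : g * z * g⁻¹ = 1 := hw.symm.trans h2
      exact hzne (conj_eq_one_iff.mp h3)
    · have h2 := congrArg (fun u : Q => ((u : Subgroup.centralizer ({z} : Set G)) : G)) h1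
      exact hwz (hw.symm.trans (h2.trans hzQ))
  have hk1 : g⁻¹ * ((wQ : Subgroup.centralizer ({z} : Set G)) : G) * g⁻¹⁻¹ = z := by
    rw [hw]
    group
  obtain ⟨huc, huQ⟩ := mq_conj_mem Q e ψ F2 hS hψ zQ hzQ hzc hzall g⁻¹ wQ hwc hk1
  have hunc : (⟨⟨g⁻¹ * z * g⁻¹⁻¹, huc⟩, huQ⟩ : Q) ∉ Subgroup.center Q := by
    intro h
    rcases hzall _ h with h1 | h1
    · have h2 : g⁻¹ * z * g⁻¹⁻¹ = 1 :=
        congrArg (fun u : Q => ((u : Subgroup.centralizer ({z} : Set G)) : G)) h1
      exact hzne (conj_eq_one_iff.mp h2)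
    · have h2 : g⁻¹ * z * g⁻¹⁻¹ = z :=
        (congrArg (fun u : Q => ((u : Subgroup.centralizer ({z} : Set G)) : G)) h1).trans hzQ
      apply hwz
      calc g * z * g⁻¹ = g * (g⁻¹ * z * g⁻¹⁻¹) * g⁻¹ := by rw [h2]
        _ = z := by group
  have hk2 : g * (((⟨⟨g⁻¹ * z * g⁻¹⁻¹, huc⟩, huQ⟩ : Q) : Subgroup.centralizer ({z} : Set G)) : G) *
      g⁻¹ = z := by
    show g * (g⁻¹ * z * g⁻¹⁻¹) * g⁻¹ = z
    group
  exact mq_not32_aux Q e ψ F2 hS hψ zQ hzQ hzc hzall g _ hunc hk2 wQ hw hwz y hy hn

/-- a conjugate of `z` in `Q`, other than `z`, is not central and its class is that of a vector of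
norm 64 -/
theorem mq_conj_type (F : MQFacts) (F2 : MQFacts2) (hS : IsExtraspecialCentralizerSetting z Q 12)
    (hψ : IsLeechModTwoIso Q e ψ) (x : Q) (k : G)
    (hx : ((x : Subgroup.centralizer ({z} : Set G)) : G) = k * z * k⁻¹)
    (hne : k * z * k⁻¹ ≠ z) :
    x ∉ Subgroup.center Q ∧ ∃ v : ↥leechLattice, sqNorm (v : GolayPt → ℤ) = 64 ∧
      ψ v = QuotientGroup.mk x := by
  obtain ⟨zQ, hzQ, hzc, hz1, hzall⟩ := mq_center_cases z Q hS
  have hzne : z ≠ 1 := by
    intro h
    have h2 := hS.1
    rw [h, orderOf_one] at h2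
    omega
  have hzsq : z * z = 1 := by rw [← pow_two, ← hS.1, pow_orderOf_eq_one]
  have hxc : x ∉ Subgroup.center Q := by
    intro h
    rcases hzall _ h with h1 | h1
    · have h2 := congrArg (fun u : Q => ((u : Subgroup.centralizer ({z} : Set G)) : G)) h1
      have h3 : k * z * k⁻¹ = 1 := hx.symm.trans h2
      exact hzne (conj_eq_one_iff.mp h3)
    · have h2 := congrArg (fun u : Q => ((u : Subgroup.centralizer ({z} : Set G)) : G)) h1
      exact hne (hx.symm.trans (h2.trans hzQ))
  have hxx : x * x = 1 := by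
    apply Subtype.ext
    apply Subtype.ext
    show ((x : Subgroup.centralizer ({z} : Set G)) : G) *
      ((x : Subgroup.centralizer ({z} : Set G)) : G) = 1
    rw [hx]
    calc k * z * k⁻¹ * (k * z * k⁻¹) = k * (z * z) * k⁻¹ := by group
      _ = 1 := by rw [hzsq]; group
  obtain ⟨y, hy, hy'⟩ := mq_type Q e ψ F hS hψ x hxc hxx
  rcases hy' with h | h
  · exact absurd h (mq_not32 Q e ψ F2 hS hψ k x hx hne y hy)
  · exact ⟨hxc, y, h, hy⟩

end main

end Cfsg.Agent.Lib.helper91
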