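import Cfsg.Agent.Lib.helper91.MonsterQ2

/-!
Groups of Monster type: the intersection of the extraspecial subgroup `Q` with its conjugate at a
conjugate of `z` in `Q`.
-/

set_option autoImplicit false
open Cfsg

namespace Cfsg.Agent.Lib.helper91

/-- the fact on the stabilizer of the class of a vector of norm 64 that is used: a 2-subgroup of
the automorphism group of the lattice that contains the centre, lies in the stabilizer of the
class and is normalized by it, is the centre or has order `2 ^ 12` -/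
structure MQFacts3 : Prop where
  fin : Finite ↥Co0
  cls : ∃ y0 : ↥leechLattice, sqNorm (y0 : GolayPt → ℤ) = 64 ∧ ∀ M : Subgroup ↥Co0,
    (∀ m ∈ M, ∃ u : ↥leechLattice, y0 + m.1 y0 = u + u) → IsPGroup 2 M →
    Subgroup.center ↥Co0 ≤ M →
    (∀ k : ↥Co0, (∃ u : ↥leechLattice, y0 + k.1 y0 = u + u) → ∀ m ∈ M, k * m * k⁻¹ ∈ M) →
    M = Subgroup.center ↥Co0 ∨ Nat.card M = 2 ^ 12

section twist

variable {G : Type*} [Group G] {z : G}
  (Q : Subgroup (Subgroup.centralizer ({z} : Set G))) [Q.Normal]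
  (e : (Subgroup.centralizer ({z} : Set G)) ⧸ Q ≃* Spor.Co1)
  (ψ : leechLattice → Q ⧸ Subgroup.center Q)

/-- composing the identification with an automorphism of the lattice -/
theorem mq_twist (hψ : IsLeechModTwoIso Q e ψ) (γ : ↥Co0) :
    IsLeechModTwoIso Q (e.trans (MulAut.conj (QuotientGroup.mk γ : Spor.Co1)⁻¹))
      (fun v => ψ (γ.1 v)) := by
  refine ⟨?_, ?_, ?_, ?_⟩
  · intro v w
    show ψ (γ.1 (v + w)) = ψ (γ.1 v) * ψ (γ.1 w)
    rw [γ.2.1, hψ.1]
  · intro x
    obtain ⟨v, hv⟩ := hψ.2.1 x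
    refine ⟨γ.1.symm v, ?_⟩
    show ψ (γ.1 (γ.1.symm v)) = x
    rw [Equiv.apply_symm_apply, hv]
  · intro v
    show ψ (γ.1 v) = 1 ↔ _
    rw [hψ.2.2.1]
    constructor
    · rintro ⟨w, hw⟩
      refine ⟨γ.1.symm w, ?_⟩
      apply γ.1.injective
      rw [hw, γ.2.1, Equiv.apply_symm_apply]
    · rintro ⟨w, hw⟩
      exact ⟨γ.1 w, by rw [hw, γ.2.1]⟩
  · intro h g hg v q hq
    have hg' : (QuotientGroup.mk (γ * g * γ⁻¹) : Spor.Co1) = e (QuotientGroup.mk h) := by
      have h1 : (QuotientGroup.mk g : Spor.Co1) =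
          (QuotientGroup.mk γ : Spor.Co1)⁻¹ * e (QuotientGroup.mk h) *
            ((QuotientGroup.mk γ : Spor.Co1)⁻¹)⁻¹ := hg
      rw [QuotientGroup.mk_mul, QuotientGroup.mk_mul, QuotientGroup.mk_inv, h1]
      group
    have h2 := hψ.2.2.2 h (γ * g * γ⁻¹) hg' (γ.1 v) q hq
    have h3 : (γ * g * γ⁻¹) • (γ.1 v) = γ.1 (g • v) := by
      show γ.1 (g.1 (γ.1.symm (γ.1 v))) = γ.1 (g.1 v)
      rw [Equiv.symm_apply_apply]
    rw [h3] at h2
    exact h2

end twist

/-- the order of the preimage in the automorphism group of the lattice of a subgroup of the first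
Conway group -/
theorem mq_card_comap (hfin : Finite ↥Co0) (hcen : Nat.card (Subgroup.center ↥Co0) = 2)
    (N : Subgroup Spor.Co1) :
    Nat.card (N.comap (QuotientGroup.mk' (Subgroup.center ↥Co0))) = 2 * Nat.card N := by
  have h1 : (N.comap (QuotientGroup.mk' (Subgroup.center ↥Co0))).index = N.index :=
    Subgroup.index_comap_of_surjective N (QuotientGroup.mk'_surjective _)
  have h2 := Subgroup.card_mul_index (N.comap (QuotientGroup.mk' (Subgroup.center ↥Co0)))
  have h3 := Subgroup.card_mul_index N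
  have h4 := Subgroup.card_eq_card_quotient_mul_card_subgroup (Subgroup.center ↥Co0)
  rw [hcen] at h4
  rw [h1] at h2
  have h5 : Nat.card Spor.Co1 = Nat.card (↥Co0 ⧸ Subgroup.center ↥Co0) := rfl
  have hidx : 0 < N.index := Nat.pos_of_ne_zero Subgroup.index_ne_zero_of_finite
  have h6 : Nat.card (N.comap (QuotientGroup.mk' (Subgroup.center ↥Co0))) * N.index =
      2 * Nat.card N * N.index := by
    rw [h2, h4, ← h5, ← h3]
    ring
  exact Nat.eq_of_mul_eq_mul_right hidx h6

section inter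

variable {G : Type*} [Group G] {z : G}
  (Q : Subgroup (Subgroup.centralizer ({z} : Set G))) [Q.Normal]
  (e : (Subgroup.centralizer ({z} : Set G)) ⧸ Q ≃* Spor.Co1)

/-- the intersection of `Q` with its conjugate by `k` has the order of the kernel of the map to
the Conway group -/
theorem mq_inter_card_ker (k : G) (x : Q)
    (hk : k * ((x : Subgroup.centralizer ({z} : Set G)) : G) * k⁻¹ = z) :
    Nat.card ↥((Q.map (Subgroup.centralizer ({z} : Set G)).subtype) ⊓
      (Q.map (Subgroup.centralizer ({z} : Set G)).subtype).map (MulAut.conj k).toMonoidHom) =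
    Nat.card (mqBar Q e k x hk).ker := by
  symm
  have hmem : ∀ m : (mqBar Q e k x hk).ker,
      k * ((((m : Subgroup.centralizer ({x} : Set Q)) : Q) :
        Subgroup.centralizer ({z} : Set G)) : G) * k⁻¹ ∈
      ((Q.map (Subgroup.centralizer ({z} : Set G)).subtype) ⊓
      (Q.map (Subgroup.centralizer ({z} : Set G)).subtype).map (MulAut.conj k).toMonoidHom) := by
    intro m
    refine ⟨?_, ?_⟩
    · exact Subgroup.mem_map.mpr ⟨mqConj Q k x hk (m : Subgroup.centralizer ({x} : Set Q)),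
        (mqBar_eq_one_iff Q e k x hk _).mp (MonoidHom.mem_ker.mp m.2), rfl⟩
    · exact Subgroup.mem_map.mpr ⟨((((m : Subgroup.centralizer ({x} : Set Q)) : Q) :
        Subgroup.centralizer ({z} : Set G)) : G), Subgroup.mem_map.mpr
          ⟨(((m : Subgroup.centralizer ({x} : Set Q)) : Q) : Subgroup.centralizer ({z} : Set G)),
            ((m : Subgroup.centralizer ({x} : Set Q)) : Q).2, rfl⟩, rfl⟩
  apply Nat.card_congr
  refine Equiv.ofBijective (fun m => ⟨_, hmem m⟩) ⟨?_, ?_⟩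
  · intro m m' h
    have h1 : k * ((((m : Subgroup.centralizer ({x} : Set Q)) : Q) :
        Subgroup.centralizer ({z} : Set G)) : G) * k⁻¹ =
        k * ((((m' : Subgroup.centralizer ({x} : Set Q)) : Q) :
        Subgroup.centralizer ({z} : Set G)) : G) * k⁻¹ := congrArg Subtype.val h
    have h2 : ((((m : Subgroup.centralizer ({x} : Set Q)) : Q) :
        Subgroup.centralizer ({z} : Set G)) : G) =
        ((((m' : Subgroup.centralizer ({x} : Set Q)) : Q) :
        Subgroup.centralizer ({z} : Set G)) : G) :=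
      mul_left_cancel (mul_right_cancel h1)
    exact Subtype.ext (Subtype.ext (Subtype.ext (Subtype.ext h2)))
  · rintro ⟨w, hw1, hw2⟩
    obtain ⟨c, hcQ, hcw⟩ := Subgroup.mem_map.mp hw1
    obtain ⟨q'G, hq'G, hconj⟩ := Subgroup.mem_map.mp hw2
    obtain ⟨q', hq'Q, hq'⟩ := Subgroup.mem_map.mp hq'G
    have hconj' : k * (q' : G) * k⁻¹ = w := by
      rw [← hconj, ← hq']
      rfl
    have hcw' : (c : G) = w := hcw
    -- `q'` commutes with `x`
    have hwz : w * z = z * w := by
      rw [← hcw']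
      exact Subgroup.mem_centralizer_singleton_iff.mp c.2
    have hxG : ((x : Subgroup.centralizer ({z} : Set G)) : G) = k⁻¹ * z * k := by
      calc ((x : Subgroup.centralizer ({z} : Set G)) : G)
          = k⁻¹ * (k * ((x : Subgroup.centralizer ({z} : Set G)) : G) * k⁻¹) * k := by group
        _ = k⁻¹ * z * k := by rw [hk]
    have hq'x : (⟨q', hq'Q⟩ : Q) ∈ Subgroup.centralizer ({x} : Set Q) := by
      apply Subgroup.mem_centralizer_singleton_iff.mpr
      apply Subtype.ext
      apply Subtype.ext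
      show (q' : G) * ((x : Subgroup.centralizer ({z} : Set G)) : G) =
        ((x : Subgroup.centralizer ({z} : Set G)) : G) * (q' : G)
      rw [hxG]
      calc (q' : G) * (k⁻¹ * z * k) = k⁻¹ * ((k * (q' : G) * k⁻¹) * z) * k := by group
        _ = k⁻¹ * (z * (k * (q' : G) * k⁻¹)) * k := by rw [hconj', hwz]
        _ = k⁻¹ * z * k * (q' : G) := by group
    have hΘ : mqConj Q k x hk ⟨⟨q', hq'Q⟩, hq'x⟩ = c := by
      apply Subtype.ext
      show k * (q' : G) * k⁻¹ = (c : G)
      rw [hconj', hcw']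
    have hker : (⟨⟨q', hq'Q⟩, hq'x⟩ : Subgroup.centralizer ({x} : Set Q)) ∈
        (mqBar Q e k x hk).ker := by
      rw [MonoidHom.mem_ker, mqBar_eq_one_iff, hΘ]
      exact hcQ
    refine ⟨⟨_, hker⟩, ?_⟩
    apply Subtype.ext
    exact hconj'

end inter

section main

variable {G : Type*} [Group G] [Finite G] {z : G}
  (Q : Subgroup (Subgroup.centralizer ({z} : Set G))) [Q.Normal]
  (e : (Subgroup.centralizer ({z} : Set G)) ⧸ Q ≃* Spor.Co1)
  (ψ : leechLattice → Q ⧸ Subgroup.center Q)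

/-- the intersection of `Q` with its conjugate by `g`, where `g z g⁻¹` lies in `Q` and is not `z`,
has order `2 ^ 13` -/
theorem mq_inter_card (F : MQFacts) (F2 : MQFacts2) (F3 : MQFacts3)
    (hS : IsExtraspecialCentralizerSetting z Q 12) (hψ : IsLeechModTwoIso Q e ψ) (g : G) (sQ : Q)
    (hs : ((sQ : Subgroup.centralizer ({z} : Set G)) : G) = g * z * g⁻¹)
    (hsz : g * z * g⁻¹ ≠ z) :
    Nat.card ↥((Q.map (Subgroup.centralizer ({z} : Set G)).subtype) ⊓
      (Q.map (Subgroup.centralizer ({z} : Set G)).subtype).map (MulAut.conj g).toMonoidHom) =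
    2 ^ 13 := by
  obtain ⟨zQ, hzQ, hzc, hz1, hzall⟩ := mq_center_cases z Q hS
  have hZ : Nat.card (Subgroup.center Q) = 2 := hS.2.2.1.2
  have hzz : zQ * zQ = 1 := mq_center_sq hZ zQ hzc
  have hPQ : IsPGroup 2 Q := hS.2.2.1.1.1
  have hzne : z ≠ 1 := by
    intro h
    have h2 := hS.1
    rw [h, orderOf_one] at h2
    omega
  -- the class of `s`
  obtain ⟨hsc, y, hy64, hy⟩ := mq_conj_type Q e ψ F F2 hS hψ sQ g hs hsz
  obtain ⟨y0, hy0, hcls⟩ := F3.cls
  obtain ⟨γ, hγ⟩ := F.t64 y0 y hy0 hy64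
  -- the twisted identification
  have hψ' := mq_twist Q e ψ hψ γ
  have hy' : (fun v => ψ (γ.1 v)) y0 = QuotientGroup.mk sQ := by
    show ψ (γ.1 y0) = QuotientGroup.mk sQ
    rw [hγ, hy]
  generalize (e.trans (MulAut.conj (QuotientGroup.mk γ : Spor.Co1)⁻¹)) = e' at hψ'
  generalize (fun v => ψ (γ.1 v)) = ψ' at hψ' hy'
  have hcm := mq_comm_mem Q e' ψ' hψ'
  -- the conjugate `g⁻¹ z g` lies in `Q`
  have hk1 : g⁻¹ * ((sQ : Subgroup.centralizer ({z} : Set G)) : G) * g⁻¹⁻¹ = z := by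
    rw [hs]
    group
  obtain ⟨huc, huQ⟩ := mq_conj_mem Q e' ψ' F2 hS hψ' zQ hzQ hzc hzall g⁻¹ sQ hsc hk1
  have hunc : (⟨⟨g⁻¹ * z * g⁻¹⁻¹, huc⟩, huQ⟩ : Q) ∉ Subgroup.center Q := by
    intro h
    rcases hzall _ h with h1 | h1
    · have h2 : g⁻¹ * z * g⁻¹⁻¹ = 1 :=
        congrArg (fun u : Q => ((u : Subgroup.centralizer ({z} : Set G)) : G)) h1
      exact hzne (conj_eq_one_iff.mp h2)
    · have h2 : g⁻¹ * z * g⁻¹⁻¹ = z :=
        (congrArg (fun u : Q => ((u : Subgroup.centralizer ({z} : Set G)) : G)) h1).trans hzQ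
      apply hsz
      calc g * z * g⁻¹ = g * (g⁻¹ * z * g⁻¹⁻¹) * g⁻¹ := by rw [h2]
        _ = z := by group
  have hk2 : g * (((⟨⟨g⁻¹ * z * g⁻¹⁻¹, huc⟩, huQ⟩ : Q) : Subgroup.centralizer ({z} : Set G)) : G) *
      g⁻¹ = z := by
    show g * (g⁻¹ * z * g⁻¹⁻¹) * g⁻¹ = z
    group
  generalize (⟨⟨g⁻¹ * z * g⁻¹⁻¹, huc⟩, huQ⟩ : Q) = uQ at hunc hk2
  rw [mq_inter_card_ker Q e' g uQ hk2]
  -- the preimage of the image, in the automorphism group of the lattice
  have hfin := F3.fin
  have hdbl : ∀ v : ↥leechLattice, ψ' v * ψ' v = 1 := by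
    intro v
    rw [← hψ'.1, mq_dbl Q e' ψ' hψ']
  have hcls_iff : ∀ k0 : ↥Co0, (∃ u : ↥leechLattice, y0 + k0.1 y0 = u + u) ↔ ψ' (k0.1 y0) = ψ' y0 := by
    intro k0
    rw [← hψ'.2.2.1, hψ'.1]
    constructor
    · intro h
      calc ψ' (k0.1 y0) = (ψ' y0 * ψ' y0) * ψ' (k0.1 y0) := by rw [hdbl, one_mul]
        _ = ψ' y0 * (ψ' y0 * ψ' (k0.1 y0)) := by group
        _ = ψ' y0 := by rw [h, mul_one]
    · intro h
      rw [h, hdbl]
  have hM := hcls (((mqBar Q e' g uQ hk2).range).comap (QuotientGroup.mk' (Subgroup.center ↥Co0)))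
    (by
      rintro m ⟨q, hq⟩
      rw [hcls_iff]
      exact mqBar_class Q e' ψ' hψ' g uQ hk2 sQ hs y0 hy' q m hq.symm)
    (by
      apply IsPGroup.comap_of_ker_isPGroup
      · have h1 : IsPGroup 2 (Subgroup.centralizer ({uQ} : Set Q)) :=
          IsPGroup.of_injective hPQ (Subgroup.subtype _) (Subgroup.subtype_injective _)
        exact IsPGroup.of_surjective h1 (mqBar Q e' g uQ hk2).rangeRestrict
          (mqBar Q e' g uQ hk2).rangeRestrict_surjective
      · rw [QuotientGroup.ker_mk']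
        exact IsPGroup.of_card (n := 1) (by rw [F2.cen, pow_one]))
    (by
      intro c hc
      refine ⟨1, ?_⟩
      rw [map_one]
      exact ((QuotientGroup.eq_one_iff c).mpr hc).symm)
    (by
      rintro k0 hk0 m ⟨q, hq⟩
      obtain ⟨q', hq'⟩ := mqBar_normalized Q e' ψ' hψ' zQ hzc hzall g uQ hk2 sQ hs hsc y0 hy' k0
        ((hcls_iff k0).mp hk0) q
      refine ⟨q', ?_⟩
      rw [hq', hq]
      rfl)
  rcases hM with hM | hM
  · -- the image is trivial: impossible
    exfalso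
    apply mqConj_not_all_mem Q e' ψ' hS hψ' zQ hzQ hzc hzall g uQ hunc hk2 hsz
    intro q
    rw [← mqBar_eq_one_iff Q e' g uQ hk2]
    obtain ⟨m, hm⟩ := QuotientGroup.mk_surjective (mqBar Q e' g uQ hk2 q)
    have hmM : m ∈ ((mqBar Q e' g uQ hk2).range).comap
        (QuotientGroup.mk' (Subgroup.center ↥Co0)) := ⟨q, hm.symm⟩
    rw [hM] at hmM
    rw [← hm]
    exact (QuotientGroup.eq_one_iff m).mpr hmM
  · -- the image has order `2 ^ 11`
    have h1 := mq_card_comap hfin F2.cen (mqBar Q e' g uQ hk2).range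
    rw [hM] at h1
    have hidx := mq_index_centralizer zQ hzc hzz hzall hcm uQ hunc
    have hB := Subgroup.card_mul_index (Subgroup.centralizer ({uQ} : Set Q))
    rw [hidx, hS.2.2.2.1] at hB
    have hkr := Subgroup.card_mul_index (mqBar Q e' g uQ hk2).ker
    rw [Subgroup.index_ker] at hkr
    generalize Nat.card (mqBar Q e' g uQ hk2).ker = kk at hkr ⊢
    generalize Nat.card (mqBar Q e' g uQ hk2).range = rr at hkr h1
    generalize Nat.card (Subgroup.centralizer ({uQ} : Set Q)) = bb at hB hkr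
    have hrr : rr = 2048 := by omega
    have hbb : bb = 16777216 := by omega
    subst hrr hbb
    omega

end main

end Cfsg.Agent.Lib.helper91
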