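import Cfsg.Agent.Lib.helper91.MonsterQ3
import Cfsg.Agent.Lib.helper9.CrossStab
import Cfsg.Agent.Lib.helper9.M24Simple
import Cfsg.Agent.Lib.helper9.Co0Fin
import Cfsg.Agent.Lib.helper93.M24Sub
import Cfsg.Agent.Lib.helper93.LeechIndex

/-!
The stabilizer in the automorphism group of the Leech lattice of the class modulo twice the lattice
of a vector of norm 64 is the monomial group; its normal 2-subgroups containing the centre and
contained in it are the centre and the group of sign changes.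
-/

set_option autoImplicit false
open Cfsg

namespace Cfsg.Agent.Lib.helper91

open Cfsg.Agent.Lib.helper9 Cfsg.Agent.Lib.helper93

/-- the doubles of the vectors of the lattice -/
def mq3Dbl : AddSubgroup ↥leechLattice where
  carrier := {v | ∃ u : ↥leechLattice, v = u + u}
  zero_mem' := ⟨0, (add_zero 0).symm⟩
  add_mem' := by
    rintro a b ⟨u, rfl⟩ ⟨w, rfl⟩
    exact ⟨u + w, by abel⟩
  neg_mem' := by
    rintro a ⟨u, rfl⟩
    exact ⟨-u, by abel⟩

theorem mem_mq3Dbl (v : ↥leechLattice) : v ∈ mq3Dbl ↔ ∃ u : ↥leechLattice, v = u + u := Iff.rfl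

/-- the vector `4 e_p + 4 e_q` lies in the lattice -/
theorem mq3_four_mem (p q : GolayPt) :
    (Pi.single p (4 : ℤ) + Pi.single q (4 : ℤ) : GolayPt → ℤ) ∈ leechLattice := by
  apply singSub_le
  apply subA0_le_singSub
  rw [mem_subA0]
  constructor
  · intro i
    simp only [Pi.add_apply, Pi.single_apply]
    split_ifs <;> decide
  · simp only [Pi.add_apply, Finset.sum_add_distrib, Finset.sum_pi_single', Finset.mem_univ,
      if_true]
    decide

/-- `8 e_p + 8 e_q` is a double -/
theorem mq3_E_add (p q : GolayPt) : E p + E q ∈ mq3Dbl := by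
  refine ⟨⟨_, mq3_four_mem p q⟩, ?_⟩
  apply Subtype.ext
  show (E p : GolayPt → ℤ) + (E q : GolayPt → ℤ) =
    (Pi.single p (4 : ℤ) + Pi.single q (4 : ℤ)) + (Pi.single p (4 : ℤ) + Pi.single q (4 : ℤ))
  rw [E_coe, E_coe]
  funext i
  simp only [Pi.add_apply, Pi.single_apply]
  split_ifs <;> norm_num

/-- the image of a double under an automorphism is a double -/
theorem mq3_map_dbl (g : ↥Co0) (v : ↥leechLattice) (hv : v ∈ mq3Dbl) : g.1 v ∈ mq3Dbl := by
  obtain ⟨u, rfl⟩ := hv
  exact ⟨g.1 u, g.2.1 u u⟩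

/-- an automorphism fixing the class of `8 e_p` maps every `8 e_q` into the class of `8 e_r` -/
theorem mq3_class (p : GolayPt) (g : ↥Co0) (h : E p + g.1 (E p) ∈ mq3Dbl) (q r : GolayPt) :
    g.1 (E q) - E r ∈ mq3Dbl := by
  have h1 : g.1 (E q + E p) ∈ mq3Dbl := mq3_map_dbl g _ (mq3_E_add q p)
  rw [g.2.1] at h1
  have h2 := mq3_E_add p r
  have h3 := mq3_E_add r r
  have e : g.1 (E q) - E r = (g.1 (E q) + g.1 (E p)) - (E p + g.1 (E p)) + (E p + E r) -
      (E r + E r) := by abel
  rw [e]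
  exact mq3Dbl.sub_mem (mq3Dbl.add_mem (mq3Dbl.sub_mem h1 h) h2) h3

/-- two vectors of norm 64 that are congruent modulo twice the lattice are equal, opposite or
orthogonal -/
theorem mq3_orth64 (v w : ↥leechLattice) (hv : sqNorm (v : GolayPt → ℤ) = 64)
    (hw : sqNorm (w : GolayPt → ℤ) = 64) (h : v - w ∈ mq3Dbl) :
    w = v ∨ w = -v ∨ dotInt (v : GolayPt → ℤ) (w : GolayPt → ℤ) = 0 := by
  obtain ⟨u, hu⟩ := h
  by_cases h0 : u = 0
  · left
    rw [h0, add_zero] at hu
    exact (sub_eq_zero.mp hu).symm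
  by_cases h0' : u + w = 0
  · right; left
    have h1 : v + w = (u + w) + (u + w) := by
      have : v + w = (v - w) + (w + w) := by abel
      rw [this, hu]
      abel
    rw [h0', add_zero] at h1
    exact eq_neg_of_add_eq_zero_right h1
  right; right
  have hu' : (u : GolayPt → ℤ) ≠ 0 := fun hh => h0 (Subtype.ext hh)
  have huw' : ((u + w : ↥leechLattice) : GolayPt → ℤ) ≠ 0 := fun hh => h0' (Subtype.ext hh)
  have n1 := leech_min_sqNorm (u : GolayPt → ℤ) u.2 hu'
  have n2 := leech_min_sqNorm ((u + w : ↥leechLattice) : GolayPt → ℤ) (u + w).2 huw'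
  have hp := sqNorm_parallelogram (v : GolayPt → ℤ) (w : GolayPt → ℤ)
  have e1 : (v : GolayPt → ℤ) - (w : GolayPt → ℤ) = 2 • (u : GolayPt → ℤ) := by
    have := congrArg (fun x : ↥leechLattice => (x : GolayPt → ℤ)) hu
    rw [two_nsmul]
    exact this
  have e2 : (v : GolayPt → ℤ) + (w : GolayPt → ℤ) =
      2 • ((u + w : ↥leechLattice) : GolayPt → ℤ) := by
    have h1 : (v : GolayPt → ℤ) + (w : GolayPt → ℤ) =
        ((v : GolayPt → ℤ) - (w : GolayPt → ℤ)) + ((w : GolayPt → ℤ) + (w : GolayPt → ℤ)) := by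
      abel
    rw [h1, e1, two_nsmul, two_nsmul]
    show _ = ((u : GolayPt → ℤ) + (w : GolayPt → ℤ)) + ((u : GolayPt → ℤ) + (w : GolayPt → ℤ))
    abel
  have hadd := sqNorm_add (v : GolayPt → ℤ) (w : GolayPt → ℤ)
  rw [e1, e2, sqNorm_two_nsmul, sqNorm_two_nsmul, hv, hw] at hp
  rw [e2, sqNorm_two_nsmul, hv, hw] at hadd
  omega

theorem mq3_E_neg_coe (q : GolayPt) :
    ((-E q : ↥leechLattice) : GolayPt → ℤ) = Pi.single q (-8) := by
  show -(E q : GolayPt → ℤ) = Pi.single q (-8)
  rw [E_coe, Pi.single_neg]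

/-- an automorphism fixing the class of `8 e_p` is monomial -/
theorem mq3_mono_of_class (p : GolayPt) (g : ↥Co0) (h : E p + g.1 (E p) ∈ mq3Dbl) :
    ∃ (σ : ↥M24) (w : ↥golayCode), g = monoCo σ w := by
  have hq : ∀ q, ((g.1 (E q) : ↥leechLattice) : GolayPt → ℤ) ∈ stdCross := by
    intro q
    have hn : sqNorm ((g.1 (E q) : ↥leechLattice) : GolayPt → ℤ) = 64 :=
      (g.2.2 (E q)).trans (sqNorm_E q)
    by_cases hex : ∃ r, E r = g.1 (E q) ∨ E r = -g.1 (E q)
    · obtain ⟨r, hr | hr⟩ := hex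
      · rw [← hr]
        exact ⟨r, 8, Or.inl rfl, E_coe r⟩
      · have hr' : g.1 (E q) = -E r := by rw [hr, neg_neg]
        rw [hr']
        exact ⟨r, -8, Or.inr rfl, mq3_E_neg_coe r⟩
    · exfalso
      have h0 : ∀ r, ((g.1 (E q) : ↥leechLattice) : GolayPt → ℤ) r = 0 := by
        intro r
        rcases mq3_orth64 (g.1 (E q)) (E r) hn (sqNorm_E r) (mq3_class p g h q r) with h1 | h1 | h1
        · exact absurd ⟨r, Or.inl h1⟩ hex
        · exact absurd ⟨r, Or.inr h1⟩ hex
        · rw [E_coe, dotInt_single] at h1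
          omega
      have h1 : ((g.1 (E q) : ↥leechLattice) : GolayPt → ℤ) = 0 := funext h0
      rw [h1] at hn
      have : sqNorm (0 : GolayPt → ℤ) = 0 := by
        unfold sqNorm
        simp
      omega
  have hpres : ∀ v : ↥leechLattice, (v : GolayPt → ℤ) ∈ stdCross →
      ((g • v : ↥leechLattice) : GolayPt → ℤ) ∈ stdCross := by
    rintro v ⟨i, s, hs, hv⟩
    rw [co_smul_def]
    rcases hs with hs | hs
    · have hvE : v = E i := Subtype.ext (by rw [hv, hs, E_coe])
      rw [hvE]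
      exact hq i
    · have hvE : v = -E i := Subtype.ext (by rw [hv, hs, mq3_E_neg_coe])
      rw [hvE, co_map_neg]
      obtain ⟨j, t, ht, hj⟩ := hq i
      refine ⟨j, -t, ?_, ?_⟩
      · rcases ht with ht | ht
        · exact Or.inr (by rw [ht])
        · exact Or.inl (by rw [ht]; norm_num)
      · show -((g.1 (E i) : ↥leechLattice) : GolayPt → ℤ) = Pi.single j (-t)
        rw [hj, Pi.single_neg]
  obtain ⟨⟨σ, w⟩, hσw⟩ := monoMap_surjective ⟨g, hpres⟩
  exact ⟨σ, w, (congrArg Subtype.val hσw).symm⟩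

/-- the value of a monomial automorphism at `8 e_q` -/
theorem mq3_mono_E (σ : ↥M24) (w : ↥golayCode) (q : GolayPt) :
    (monoCo σ w).1 (E q) = if w.1 (σ.1 q) = 0 then E (σ.1 q) else -E (σ.1 q) := by
  apply Subtype.ext
  have h1 := monoCo_apply σ w (E q)
  rw [co_smul_def, E_coe, signedPerm_single] at h1
  rw [h1]
  by_cases hw : w.1 (σ.1 q) = 0
  · have hns : σ.1 q ∉ support₂ w.1 := by
      unfold support₂
      simp only [Finset.mem_filter, Finset.mem_univ, true_and]
      exact fun hh => hh hw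
    rw [if_neg hns, if_pos hw, E_coe]
  · have hns : σ.1 q ∈ support₂ w.1 := by
      unfold support₂
      simp only [Finset.mem_filter, Finset.mem_univ, true_and]
      exact hw
    rw [if_pos hns, if_neg hw, mq3_E_neg_coe]

/-- the permutation part of an automorphism preserving the cross -/
def MqPP (g : ↥Co0) (σ : Equiv.Perm GolayPt) : Prop :=
  ∀ q, g.1 (E q) = E (σ q) ∨ g.1 (E q) = -E (σ q)

theorem mqPP_mono (σ : ↥M24) (w : ↥golayCode) : MqPP (monoCo σ w) σ.1 := by
  intro q
  rw [mq3_mono_E]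
  by_cases hw : w.1 (σ.1 q) = 0
  · rw [if_pos hw]
    exact Or.inl rfl
  · rw [if_neg hw]
    exact Or.inr rfl

theorem mqPP_one : MqPP 1 1 := fun q => Or.inl rfl

theorem mqPP_mul (g g' : ↥Co0) (σ σ' : Equiv.Perm GolayPt) (h : MqPP g σ) (h' : MqPP g' σ') :
    MqPP (g * g') (σ * σ') := by
  intro q
  show g.1 (g'.1 (E q)) = E (σ (σ' q)) ∨ g.1 (g'.1 (E q)) = -E (σ (σ' q))
  rcases h' q with h1 | h1
  · rw [h1]
    exact h (σ' q)
  · rw [h1, co_map_neg]
    rcases h (σ' q) with h2 | h2
    · exact Or.inr (by rw [h2])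
    · exact Or.inl (by rw [h2, neg_neg])

theorem mqPP_inv (g : ↥Co0) (σ : Equiv.Perm GolayPt) (h : MqPP g σ) : MqPP g⁻¹ σ⁻¹ := by
  intro q
  have hq : σ (σ⁻¹ q) = q := Equiv.apply_symm_apply σ q
  have hinv : ∀ v : ↥leechLattice, (g⁻¹).1 (g.1 v) = v := fun v => g.1.symm_apply_apply v
  rcases h (σ⁻¹ q) with h1 | h1
  · left
    rw [hq] at h1
    rw [← h1, hinv]
  · right
    rw [hq] at h1
    have h2 : E q = g.1 (-E (σ⁻¹ q)) := by rw [co_map_neg, h1, neg_neg]
    rw [h2, hinv]

theorem mq3_E_inj (a b : GolayPt) (h : E a = E b ∨ E a = -E b) : a = b := by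
  by_contra hab
  rcases h with h | h
  · have h1 := congrArg (fun v : ↥leechLattice => (v : GolayPt → ℤ) a) h
    simp only [E_apply, if_true] at h1
    rw [if_neg hab] at h1
    omega
  · have h1 := congrArg (fun v : ↥leechLattice => (v : GolayPt → ℤ) a) h
    have h2 : ((-E b : ↥leechLattice) : GolayPt → ℤ) a = -((E b : GolayPt → ℤ) a) := rfl
    simp only [h2, E_apply, if_true] at h1
    rw [if_neg hab] at h1
    omega

theorem mqPP_unique (g : ↥Co0) (σ τ : Equiv.Perm GolayPt) (h : MqPP g σ) (h' : MqPP g τ) :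
    σ = τ := by
  apply Equiv.ext
  intro q
  apply mq3_E_inj
  rcases h q with h1 | h1 <;> rcases h' q with h2 | h2
  · exact Or.inl (h1.symm.trans h2)
  · exact Or.inr (h1.symm.trans h2)
  · right
    have : -E (σ q) = E (τ q) := h1.symm.trans h2
    rw [← this, neg_neg]
  · left
    have : -E (σ q) = -E (τ q) := h1.symm.trans h2
    exact neg_injective this

theorem mqPP_pow (g : ↥Co0) (σ : Equiv.Perm GolayPt) (h : MqPP g σ) (n : ℕ) :
    MqPP (g ^ n) (σ ^ n) := by
  induction n with
  | zero =>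
    rw [pow_zero, pow_zero]
    exact mqPP_one
  | succ n ih =>
    rw [pow_succ, pow_succ]
    exact mqPP_mul _ _ _ _ ih h

/-- monomial automorphisms fix the class of `8 e_p` -/
theorem mq3_mono_class (p : GolayPt) (σ : ↥M24) (w : ↥golayCode) :
    E p + (monoCo σ w).1 (E p) ∈ mq3Dbl := by
  rw [mq3_mono_E]
  split_ifs
  · exact mq3_E_add p (σ.1 p)
  · have e : E p + -E (σ.1 p) = (E p + E (σ.1 p)) - (E (σ.1 p) + E (σ.1 p)) := by abel
    rw [e]
    exact mq3Dbl.sub_mem (mq3_E_add _ _) (mq3_E_add _ _)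

/-- the value of a sign change at `8 e_q` -/
theorem mq3_sgn_E (w : ↥golayCode) (q : GolayPt) :
    (monoCo 1 w).1 (E q) = if w.1 q = 0 then E q else -E q :=
  mq3_mono_E 1 w q

theorem mq3_sgn_zero : monoCo 1 0 = 1 := by
  apply co_ext
  intro q
  rw [mq3_sgn_E]
  have h0 : (0 : ↥golayCode).1 q = 0 := rfl
  rw [if_pos h0]
  rfl

theorem mq3_zmod2_add : ∀ x y : ZMod 2, x ≠ 0 → y ≠ 0 → x + y = 0 := by decide

theorem mq3_zmod2_eq : ∀ x y : ZMod 2, (x = 0 ↔ y = 0) → x = y := by decide

theorem mq3_sgn_mul (a b : ↥golayCode) : monoCo 1 a * monoCo 1 b = monoCo 1 (a + b) := by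
  apply co_ext
  intro q
  rw [co_mul_apply, mq3_sgn_E b, mq3_sgn_E (a + b)]
  have hab : (a + b).1 q = a.1 q + b.1 q := rfl
  by_cases hb : b.1 q = 0 <;> by_cases ha : a.1 q = 0
  · rw [if_pos hb, mq3_sgn_E, if_pos ha, if_pos (by rw [hab, ha, hb, add_zero])]
  · rw [if_pos hb, mq3_sgn_E, if_neg ha, if_neg (by rw [hab, hb, add_zero]; exact ha)]
  · rw [if_neg hb, co_map_neg, mq3_sgn_E, if_pos ha, if_neg (by rw [hab, ha, zero_add]; exact hb)]
  · rw [if_neg hb, co_map_neg, mq3_sgn_E, if_neg ha, neg_neg,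
      if_pos (by rw [hab]; exact mq3_zmod2_add _ _ ha hb)]

theorem mq3_sgn_neg : monoCo 1 ⟨1, one_mem_golayCode⟩ = negCo := by
  apply co_ext
  intro q
  rw [mq3_sgn_E, negCo_apply]
  have h1 : (⟨1, one_mem_golayCode⟩ : ↥golayCode).1 q ≠ 0 := by
    show (1 : ZMod 2) ≠ 0
    decide
  rw [if_neg h1]

theorem mq3_syn_chk : syn 8388609 = false := by decide +kernel

theorem mq3_pc_chk : pc 8388609 = 2 := by decide +kernel

/-- the facts on the stabilizer of the class of a vector of norm 64 -/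
theorem mqFacts3 : MQFacts3 where
  fin := finite_Co0
  cls := by
    refine ⟨E none, sqNorm_E none, ?_⟩
    intro M hMcls hM2 hMcen hMnorm
    have hmono : ∀ m ∈ M, ∃ (σ : ↥M24) (w : ↥golayCode), m = monoCo σ w :=
      fun m hm => mq3_mono_of_class none m (hMcls m hm)
    -- the permutation parts
    let H : Subgroup (Equiv.Perm GolayPt) :=
      { carrier := {σ | ∃ m ∈ M, MqPP m σ}
        one_mem' := ⟨1, M.one_mem, mqPP_one⟩
        mul_mem' := by
          rintro a b ⟨m, hm, h⟩ ⟨m', hm', h'⟩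
          exact ⟨m * m', M.mul_mem hm hm', mqPP_mul _ _ _ _ h h'⟩
        inv_mem' := by
          rintro a ⟨m, hm, h⟩
          exact ⟨m⁻¹, M.inv_mem hm, mqPP_inv _ _ h⟩ }
    have hHmem : ∀ σ : Equiv.Perm GolayPt, σ ∈ H ↔ ∃ m ∈ M, MqPP m σ := fun σ => Iff.rfl
    have hH2 : IsPGroup 2 (H.subgroupOf M24) := by
      intro x
      obtain ⟨m, hm, h⟩ := (hHmem _).mp (Subgroup.mem_subgroupOf.mp x.2)
      obtain ⟨k, hk⟩ := hM2 ⟨m, hm⟩
      refine ⟨k, ?_⟩
      have hk' : m ^ (2 ^ k) = 1 := by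
        have := congrArg Subtype.val hk
        simpa using this
      have h1 := mqPP_pow m _ h (2 ^ k)
      rw [hk'] at h1
      have h2 := mqPP_unique _ _ _ h1 mqPP_one
      apply Subtype.ext
      apply Subtype.ext
      simpa using h2
    have hHn : (H.subgroupOf M24).Normal := by
      constructor
      intro x hx τ
      obtain ⟨m, hm, h⟩ := (hHmem _).mp (Subgroup.mem_subgroupOf.mp hx)
      apply Subgroup.mem_subgroupOf.mpr
      apply (hHmem _).mpr
      refine ⟨monoCo τ 0 * m * (monoCo τ 0)⁻¹,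
        hMnorm _ (mq3_mono_class none τ 0) m hm, ?_⟩
      exact mqPP_mul _ _ _ _ (mqPP_mul _ _ _ _ (mqPP_mono τ 0) h) (mqPP_inv _ _ (mqPP_mono τ 0))
    have hHbot : H.subgroupOf M24 = ⊥ := by
      have hsimple := m24_simple
      rcases hHn.eq_bot_or_eq_top with h | h
      · exact h
      · exfalso
        rw [h] at hH2
        have hp' : IsPGroup 2 ↥M24 := hH2.of_equiv Subgroup.topEquiv
        have hfin : Finite ↥M24 := Nat.finite_of_card_ne_zero (by rw [card_M24]; norm_num)
        have : Fact (Nat.Prime 2) := ⟨Nat.prime_two⟩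
        obtain ⟨n, hn⟩ := IsPGroup.iff_card.mp hp'
        rw [card_M24] at hn
        have h3 : (3 : ℕ) ∣ 2 ^ n := by
          rw [← hn]
          norm_num
        have h4 := Nat.Prime.dvd_of_dvd_pow Nat.prime_three h3
        omega
    -- the elements of `M` are sign changes
    have hsgn : ∀ m ∈ M, ∃ w : ↥golayCode, m = monoCo 1 w := by
      intro m hm
      obtain ⟨σ, w, rfl⟩ := hmono m hm
      have hσH : σ ∈ H.subgroupOf M24 :=
        Subgroup.mem_subgroupOf.mpr ((hHmem _).mpr ⟨_, hm, mqPP_mono σ w⟩)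
      rw [hHbot, Subgroup.mem_bot] at hσH
      exact ⟨w, by rw [hσH]⟩
    -- the code words of the sign changes in `M`
    let W : Submodule (ZMod 2) GV :=
      { carrier := {w | ∃ hw : w ∈ golayCode, monoCo 1 ⟨w, hw⟩ ∈ M}
        zero_mem' := ⟨golayCode.zero_mem, by
          have e : (⟨0, golayCode.zero_mem⟩ : ↥golayCode) = 0 := rfl
          rw [e, mq3_sgn_zero]
          exact M.one_mem⟩
        add_mem' := by
          rintro a b ⟨ha, hma⟩ ⟨hb, hmb⟩
          refine ⟨golayCode.add_mem ha hb, ?_⟩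
          have h1 := M.mul_mem hma hmb
          rw [mq3_sgn_mul] at h1
          exact h1
        smul_mem' := by
          rintro c w ⟨hw, hm⟩
          rcases zmod2_cases' c with hc | hc
          · rw [hc, zero_smul]
            refine ⟨golayCode.zero_mem, ?_⟩
            have e : (⟨0, golayCode.zero_mem⟩ : ↥golayCode) = 0 := rfl
            rw [e, mq3_sgn_zero]
            exact M.one_mem
          · rw [hc, one_smul]
            exact ⟨hw, hm⟩ }
    have hWmem : ∀ w : GV, w ∈ W ↔ ∃ hw : w ∈ golayCode, monoCo 1 ⟨w, hw⟩ ∈ M := fun w => Iff.rfl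
    have hWle : W ≤ golayCode := fun w hw => ((hWmem w).mp hw).1
    have hMW : ∀ m ∈ M, ∃ w : ↥golayCode, m = monoCo 1 w ∧ w.1 ∈ W := by
      intro m hm
      obtain ⟨w, rfl⟩ := hsgn m hm
      exact ⟨w, rfl, (hWmem _).mpr ⟨w.2, hm⟩⟩
    have hInv : Cfsg.Agent.Lib.helper93.Inv W := by
      intro σ hσ w hw
      obtain ⟨hwG, hm⟩ := (hWmem w).mp hw
      have hcM := hMnorm _ (mq3_mono_class none ⟨σ, hσ⟩ 0) _ hm
      obtain ⟨w'', hw''⟩ := hsgn _ hcM
      have hk : ∀ p : GolayPt, (monoCo ⟨σ, hσ⟩ 0).1 (E p) = E (σ p) := by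
        intro p
        rw [mq3_mono_E]
        have h0 : (0 : ↥golayCode).1 (σ p) = 0 := rfl
        rw [if_pos h0]
      have hkinv : ∀ q : GolayPt, ((monoCo ⟨σ, hσ⟩ 0)⁻¹).1 (E q) = E (σ.symm q) := by
        intro q
        have h1 := hk (σ.symm q)
        rw [Equiv.apply_symm_apply] at h1
        rw [← h1]
        exact (monoCo ⟨σ, hσ⟩ 0).1.symm_apply_apply _
      have hval : ∀ q : GolayPt, w''.1 q = w (σ.symm q) := by
        intro q
        apply mq3_zmod2_eq
        have h1 : (monoCo ⟨σ, hσ⟩ 0 * monoCo 1 ⟨w, hwG⟩ * (monoCo ⟨σ, hσ⟩ 0)⁻¹).1 (E q) =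
            (monoCo 1 w'').1 (E q) := by rw [hw'']
        rw [co_mul_apply, co_mul_apply, hkinv, mq3_sgn_E, mq3_sgn_E] at h1
        have hwq : (⟨w, hwG⟩ : ↥golayCode).1 (σ.symm q) = w (σ.symm q) := rfl
        rw [hwq] at h1
        by_cases h2 : w (σ.symm q) = 0 <;> by_cases h3 : w''.1 q = 0
        · exact ⟨fun _ => h2, fun _ => h3⟩
        · exfalso
          rw [if_pos h2, if_neg h3, hk, Equiv.apply_symm_apply] at h1
          exact neg_E_ne q h1.symm
        · exfalso
          rw [if_neg h2, if_pos h3, co_map_neg, hk, Equiv.apply_symm_apply] at h1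
          exact neg_E_ne q h1
        · exact ⟨fun h => absurd h h3, fun h => absurd h h2⟩
      have hact : act σ w = w''.1 := by
        funext q
        rw [act_apply, hval]
      apply (hWmem _).mpr
      rw [hact]
      refine ⟨w''.2, ?_⟩
      have e : (⟨w''.1, w''.2⟩ : ↥golayCode) = w'' := rfl
      rw [e, ← hw'']
      exact hcM
    have hcenter : (∀ w ∈ W, w = 0 ∨ w = 1) → M = Subgroup.center ↥Co0 := by
      intro h01
      apply le_antisymm _ hMcen
      intro m hm
      obtain ⟨w, rfl, hwW⟩ := hMW m hm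
      rcases h01 _ hwW with h | h
      · have e : w = 0 := Subtype.ext h
        rw [e, mq3_sgn_zero]
        exact Subgroup.one_mem _
      · have e : w = ⟨1, one_mem_golayCode⟩ := Subtype.ext h
        rw [e, mq3_sgn_neg]
        exact negCo_mem_center
    rcases invariant_subspaces hInv with h | h | h | h | h
    · left
      apply hcenter
      intro w hw
      rw [h, Submodule.mem_bot] at hw
      exact Or.inl hw
    · left
      apply hcenter
      intro w hw
      rw [h] at hw
      obtain ⟨a, ha⟩ := Submodule.mem_span_singleton.mp hw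
      rcases zmod2_cases' a with hc | hc
      · left
        rw [← ha, hc, zero_smul]
      · right
        rw [← ha, hc, one_smul]
        rfl
    · right
      have hall : ∀ w : ↥golayCode, monoCo 1 w ∈ M := by
        intro w
        have hw : w.1 ∈ W := by
          rw [h]
          exact w.2
        exact ((hWmem _).mp hw).2
      have hcard : Nat.card M = Nat.card ↥golayCode := by
        symm
        apply Nat.card_congr
        refine Equiv.ofBijective (fun w => ⟨monoCo 1 w, hall w⟩) ⟨?_, ?_⟩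
        · intro a b hab
          have h1 : monoCo 1 a = monoCo 1 b := congrArg Subtype.val hab
          have h2 : monoMap (1, a) = monoMap (1, b) := Subtype.ext h1
          exact (Prod.mk.inj (monoMap_injective h2)).2
        · rintro ⟨m, hm⟩
          obtain ⟨w, rfl⟩ := hsgn m hm
          exact ⟨w, rfl⟩
      rw [hcard, natCard_golayCode]
      norm_num
    · exfalso
      have h1 : dec 8388609 ∈ (W : Set GV) := by
        rw [h]
        show ∑ p, dec 8388609 p = 0
        rw [sum_dec, mq3_pc_chk]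
        decide
      have h2 := hWle h1
      rw [dec_mem_golayCode_iff, mq3_syn_chk] at h2
      exact Bool.false_ne_true h2
    · exfalso
      have h1 : dec 8388609 ∈ W := by
        rw [h]
        exact Submodule.mem_top
      have h2 := hWle h1
      rw [dec_mem_golayCode_iff, mq3_syn_chk] at h2
      exact Bool.false_ne_true h2

end Cfsg.Agent.Lib.helper91
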