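import Cfsg.Agent.Lib.helper91.MonsterQ3

/-!
Groups of Monster type: the images in the first Conway group of the centralizer of a conjugate
`s` of `z` in `Q`, and of the conjugate of `Q` at `s`.
-/

set_option autoImplicit false
open Cfsg

namespace Cfsg.Agent.Lib.helper91

/-- the facts on the stabilizer of the class of a vector of norm 64 that are used: it is the
product of an elementary abelian group `A` of order `2 ^ 12` and a copy `L` of the Mathieu group
meeting it trivially, and a 2-subgroup of the automorphism group of the lattice that contains the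
centre, lies in the stabilizer of the class and is normalized by it, is the centre or `A` -/
structure MQFacts4 : Prop where
  fin : Finite ↥Co0
  cls : ∃ y0 : ↥leechLattice, sqNorm (y0 : GolayPt → ℤ) = 64 ∧ ∃ A L : Subgroup ↥Co0,
    (∀ a ∈ A, a * a = 1) ∧ (∀ a ∈ A, ∀ b ∈ A, a * b = b * a) ∧ Nat.card A = 2 ^ 12 ∧
    Nonempty (L ≃* Cfsg.M24) ∧ A ⊓ L = ⊥ ∧
    (∀ k : ↥Co0, (∃ u : ↥leechLattice, y0 + k.1 y0 = u + u) ↔ ∃ a ∈ A, ∃ l ∈ L, k = a * l) ∧
    ∀ M : Subgroup ↥Co0,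
    (∀ m ∈ M, ∃ u : ↥leechLattice, y0 + m.1 y0 = u + u) → IsPGroup 2 M →
    Subgroup.center ↥Co0 ≤ M →
    (∀ k : ↥Co0, (∃ u : ↥leechLattice, y0 + k.1 y0 = u + u) → ∀ m ∈ M, k * m * k⁻¹ ∈ M) →
    M = Subgroup.center ↥Co0 ∨ M = A

section main

variable {G : Type*} [Group G] [Finite G] {z : G}
  (Q : Subgroup (Subgroup.centralizer ({z} : Set G))) [Q.Normal]
  (e : (Subgroup.centralizer ({z} : Set G)) ⧸ Q ≃* Spor.Co1)
  (ψ : leechLattice → Q ⧸ Subgroup.center Q)

/-- the image `X` of the centralizer of `s = g z g⁻¹` and the image `E` of the conjugate of `Q`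
by `g` in the quotient by `Q`: `E` is elementary abelian of order `2 ^ 11`, normal in `X`, with
a complement isomorphic to the Mathieu group -/
theorem mq_split (F : MQFacts) (F2 : MQFacts2) (F4 : MQFacts4)
    (hS : IsExtraspecialCentralizerSetting z Q 12) (hψ : IsLeechModTwoIso Q e ψ) (g : G) (sQ : Q)
    (hs : ((sQ : Subgroup.centralizer ({z} : Set G)) : G) = g * z * g⁻¹)
    (hsz : g * z * g⁻¹ ≠ z)
    (X E : Subgroup ((Subgroup.centralizer ({z} : Set G)) ⧸ Q))
    (hX : ∀ x, x ∈ X ↔ ∃ c : Subgroup.centralizer ({z} : Set G),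
      c * (sQ : Subgroup.centralizer ({z} : Set G)) =
        (sQ : Subgroup.centralizer ({z} : Set G)) * c ∧
      (QuotientGroup.mk c : (Subgroup.centralizer ({z} : Set G)) ⧸ Q) = x)
    (hE : ∀ x, x ∈ E ↔ ∃ (c : Subgroup.centralizer ({z} : Set G)) (q : Q),
      (c : G) = g * ((q : Subgroup.centralizer ({z} : Set G)) : G) * g⁻¹ ∧
      (QuotientGroup.mk c : (Subgroup.centralizer ({z} : Set G)) ⧸ Q) = x) :
    E ≤ X ∧ (∀ x ∈ X, ∀ y ∈ E, x * y * x⁻¹ ∈ E) ∧ IsElementaryAbelian 2 E ∧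
      Nat.card E = 2 ^ 11 ∧ ∃ K : Subgroup ((Subgroup.centralizer ({z} : Set G)) ⧸ Q),
        K ≤ X ∧ E ⊓ K = ⊥ ∧ E ⊔ K = X ∧ Nonempty (K ≃* Cfsg.M24) := by
  obtain ⟨zQ, hzQ, hzc, hz1, hzall⟩ := mq_center_cases z Q hS
  have hZ : Nat.card (Subgroup.center Q) = 2 := hS.2.2.1.2
  have hzz : zQ * zQ = 1 := mq_center_sq hZ zQ hzc
  have hPQ : IsPGroup 2 Q := hS.2.2.1.1.1
  have hzne : z ≠ 1 := by
    intro h
    have h2 := hS.1
    rw [h, orderOf_one] at h2
    omega
  -- the class of `s`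
  obtain ⟨hsc, y, hy64, hy⟩ := mq_conj_type Q e ψ F F2 hS hψ sQ g hs hsz
  obtain ⟨y0, hy0, A, L, hAsq, hAcomm, hAcard, ⟨eL⟩, hAL, hSiff, hcls⟩ := F4.cls
  obtain ⟨γ, hγ⟩ := F.t64 y0 y hy0 hy64
  -- the twisted identification
  have hψ' := mq_twist Q e ψ hψ γ
  have hy' : (fun v => ψ (γ.1 v)) y0 = QuotientGroup.mk sQ := by
    show ψ (γ.1 y0) = QuotientGroup.mk sQ
    rw [hγ, hy]
  generalize (e.trans (MulAut.conj (QuotientGroup.mk γ : Spor.Co1)⁻¹)) = e' at hψ'
  generalize (fun v => ψ (γ.1 v)) = ψ' at hψ' hy'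
  have hcm := mq_comm_mem Q e' ψ' hψ'
  -- the conjugate `g⁻¹ z g` lies in `Q`
  have hk1 : g⁻¹ * ((sQ : Subgroup.centralizer ({z} : Set G)) : G) * g⁻¹⁻¹ = z := by
    rw [hs]
    group
  obtain ⟨huc, huQ⟩ := mq_conj_mem Q e' ψ' F2 hS hψ' zQ hzQ hzc hzall g⁻¹ sQ hsc hk1
  have hunc : (⟨⟨g⁻¹ * z * g⁻¹⁻¹, huc⟩, huQ⟩ : Q) ∉ Subgroup.center Q := by
    intro h
    rcases hzall _ h with h1 | h1
    · have h2 : g⁻¹ * z * g⁻¹⁻¹ = 1 :=
        congrArg (fun u : Q => ((u : Subgroup.centralizer ({z} : Set G)) : G)) h1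
      exact hzne (conj_eq_one_iff.mp h2)
    · have h2 : g⁻¹ * z * g⁻¹⁻¹ = z :=
        (congrArg (fun u : Q => ((u : Subgroup.centralizer ({z} : Set G)) : G)) h1).trans hzQ
      apply hsz
      calc g * z * g⁻¹ = g * (g⁻¹ * z * g⁻¹⁻¹) * g⁻¹ := by rw [h2]
        _ = z := by group
  have hk2 : g * (((⟨⟨g⁻¹ * z * g⁻¹⁻¹, huc⟩, huQ⟩ : Q) : Subgroup.centralizer ({z} : Set G)) : G) *
      g⁻¹ = z := by
    show g * (g⁻¹ * z * g⁻¹⁻¹) * g⁻¹ = z
    group
  generalize (⟨⟨g⁻¹ * z * g⁻¹⁻¹, huc⟩, huQ⟩ : Q) = uQ at hunc hk2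
  have hfin := F4.fin
  have hdbl : ∀ v : ↥leechLattice, ψ' v * ψ' v = 1 := by
    intro v
    rw [← hψ'.1, mq_dbl Q e' ψ' hψ']
  have hcls_iff : ∀ k0 : ↥Co0, (∃ u : ↥leechLattice, y0 + k0.1 y0 = u + u) ↔ ψ' (k0.1 y0) = ψ' y0 := by
    intro k0
    rw [← hψ'.2.2.1, hψ'.1]
    constructor
    · intro h
      calc ψ' (k0.1 y0) = (ψ' y0 * ψ' y0) * ψ' (k0.1 y0) := by rw [hdbl, one_mul]
        _ = ψ' y0 * (ψ' y0 * ψ' (k0.1 y0)) := by group
        _ = ψ' y0 := by rw [h, mul_one]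
    · intro h
      rw [h, hdbl]
  -- the image of the conjugate of `Q`
  have hE' : ∀ x, x ∈ E ↔ e' x ∈ (mqBar Q e' g uQ hk2).range := by
    intro x
    rw [hE]
    constructor
    · rintro ⟨c, q, hcq, rfl⟩
      have hcz : (c : G) * z = z * (c : G) := Subgroup.mem_centralizer_singleton_iff.mp c.2
      have hq : q ∈ Subgroup.centralizer ({uQ} : Set Q) := by
        apply Subgroup.mem_centralizer_singleton_iff.mpr
        apply Subtype.ext
        apply Subtype.ext
        show ((q : Subgroup.centralizer ({z} : Set G)) : G) *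
          ((uQ : Subgroup.centralizer ({z} : Set G)) : G) =
          ((uQ : Subgroup.centralizer ({z} : Set G)) : G) *
          ((q : Subgroup.centralizer ({z} : Set G)) : G)
        have hu : ((uQ : Subgroup.centralizer ({z} : Set G)) : G) = g⁻¹ * z * g := by
          calc ((uQ : Subgroup.centralizer ({z} : Set G)) : G)
              = g⁻¹ * (g * ((uQ : Subgroup.centralizer ({z} : Set G)) : G) * g⁻¹) * g := by group
            _ = g⁻¹ * z * g := by rw [hk2]
        rw [hu]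
        calc ((q : Subgroup.centralizer ({z} : Set G)) : G) * (g⁻¹ * z * g)
            = g⁻¹ * ((g * ((q : Subgroup.centralizer ({z} : Set G)) : G) * g⁻¹) * z) * g := by
              group
          _ = g⁻¹ * (z * (g * ((q : Subgroup.centralizer ({z} : Set G)) : G) * g⁻¹)) * g := by
              rw [← hcq, hcz]
          _ = g⁻¹ * z * g * ((q : Subgroup.centralizer ({z} : Set G)) : G) := by group
      refine ⟨⟨q, hq⟩, ?_⟩
      rw [mqBar_apply]
      have h1 : mqConj Q g uQ hk2 ⟨q, hq⟩ = c := Subtype.ext hcq.symm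
      rw [h1]
    · rintro ⟨q, hq⟩
      refine ⟨mqConj Q g uQ hk2 q, (q : Q), rfl, ?_⟩
      apply e'.injective
      rw [← hq]
      rfl
  -- the image of the centralizer of `s`
  have hX' : ∀ x, x ∈ X ↔ ∃ k : ↥Co0, (∃ u : ↥leechLattice, y0 + k.1 y0 = u + u) ∧
      e' x = QuotientGroup.mk k := by
    intro x
    rw [hX]
    constructor
    · rintro ⟨c, hc, rfl⟩
      obtain ⟨k, hk⟩ := QuotientGroup.mk_surjective (e' (QuotientGroup.mk c))
      refine ⟨k, ?_, hk.symm⟩
      rw [hcls_iff]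
      have h1 := hψ'.2.2.2 c k hk y0 sQ hy'
      have h2 : k • y0 = k.1 y0 := rfl
      have h3 : (⟨c * (sQ : Subgroup.centralizer ({z} : Set G)) * c⁻¹,
          (inferInstance : Q.Normal).conj_mem (sQ : Subgroup.centralizer ({z} : Set G)) sQ.2 c⟩ :
          Q) = sQ := by
        apply Subtype.ext
        show c * (sQ : Subgroup.centralizer ({z} : Set G)) * c⁻¹ =
          (sQ : Subgroup.centralizer ({z} : Set G))
        rw [hc]
        group
      rw [h2, h3, ← hy'] at h1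
      exact h1
    · rintro ⟨k, hk, hxk⟩
      obtain ⟨c, hc1, hc2⟩ :=
        mq_fix_lift Q e' ψ' hψ' zQ hzc hzall sQ hsc y0 hy' k ((hcls_iff k).mp hk)
      refine ⟨c, ?_, ?_⟩
      · calc c * (sQ : Subgroup.centralizer ({z} : Set G))
            = (c * (sQ : Subgroup.centralizer ({z} : Set G)) * c⁻¹) * c := by group
          _ = (sQ : Subgroup.centralizer ({z} : Set G)) * c := by rw [hc2]
      · apply e'.injective
        rw [hxk, hc1]
  -- the preimage of the image, in the automorphism group of the lattice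
  have hMn : ∀ k0 : ↥Co0, (∃ u : ↥leechLattice, y0 + k0.1 y0 = u + u) →
      ∀ m ∈ ((mqBar Q e' g uQ hk2).range).comap (QuotientGroup.mk' (Subgroup.center ↥Co0)),
      k0 * m * k0⁻¹ ∈
        ((mqBar Q e' g uQ hk2).range).comap (QuotientGroup.mk' (Subgroup.center ↥Co0)) := by
    rintro k0 hk0 m ⟨q, hq⟩
    obtain ⟨q', hq'⟩ := mqBar_normalized Q e' ψ' hψ' zQ hzc hzall g uQ hk2 sQ hs hsc y0 hy' k0
      ((hcls_iff k0).mp hk0) q
    refine ⟨q', ?_⟩
    rw [hq', hq]
    rfl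
  have hMc : Subgroup.center ↥Co0 ≤
      ((mqBar Q e' g uQ hk2).range).comap (QuotientGroup.mk' (Subgroup.center ↥Co0)) := by
    intro c hc
    refine ⟨1, ?_⟩
    rw [map_one]
    exact ((QuotientGroup.eq_one_iff c).mpr hc).symm
  have hM := hcls (((mqBar Q e' g uQ hk2).range).comap (QuotientGroup.mk' (Subgroup.center ↥Co0)))
    (by
      rintro m ⟨q, hq⟩
      rw [hcls_iff]
      exact mqBar_class Q e' ψ' hψ' g uQ hk2 sQ hs y0 hy' q m hq.symm)
    (by
      apply IsPGroup.comap_of_ker_isPGroup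
      · have h1 : IsPGroup 2 (Subgroup.centralizer ({uQ} : Set Q)) :=
          IsPGroup.of_injective hPQ (Subgroup.subtype _) (Subgroup.subtype_injective _)
        exact IsPGroup.of_surjective h1 (mqBar Q e' g uQ hk2).rangeRestrict
          (mqBar Q e' g uQ hk2).rangeRestrict_surjective
      · rw [QuotientGroup.ker_mk']
        exact IsPGroup.of_card (n := 1) (by rw [F2.cen, pow_one]))
    hMc hMn
  have hMA : ((mqBar Q e' g uQ hk2).range).comap (QuotientGroup.mk' (Subgroup.center ↥Co0)) =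
      A := by
    rcases hM with hM | hM
    · -- the image is trivial: impossible
      exfalso
      apply mqConj_not_all_mem Q e' ψ' hS hψ' zQ hzQ hzc hzall g uQ hunc hk2 hsz
      intro q
      rw [← mqBar_eq_one_iff Q e' g uQ hk2]
      obtain ⟨m, hm⟩ := QuotientGroup.mk_surjective (mqBar Q e' g uQ hk2 q)
      have hmM : m ∈ ((mqBar Q e' g uQ hk2).range).comap
          (QuotientGroup.mk' (Subgroup.center ↥Co0)) := ⟨q, hm.symm⟩
      rw [hM] at hmM
      rw [← hm]
      exact (QuotientGroup.eq_one_iff m).mpr hmM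
    · exact hM
  have hcenA : Subgroup.center ↥Co0 ≤ A := by
    rw [← hMA]
    exact hMc
  have hEA : ∀ x, x ∈ E ↔ ∃ a ∈ A, e' x = QuotientGroup.mk a := by
    intro x
    rw [hE']
    constructor
    · intro hx
      obtain ⟨a, ha⟩ := QuotientGroup.mk_surjective (e' x)
      refine ⟨a, ?_, ha.symm⟩
      rw [← hMA]
      show QuotientGroup.mk' _ a ∈ (mqBar Q e' g uQ hk2).range
      rw [QuotientGroup.mk'_apply, ha]
      exact hx
    · rintro ⟨a, ha, hxa⟩
      rw [← hMA] at ha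
      rw [hxa]
      exact ha
  have hEX : E ≤ X := by
    intro x hx
    obtain ⟨a, ha, hxa⟩ := (hEA x).mp hx
    exact (hX' x).mpr ⟨a, (hSiff a).mpr ⟨a, ha, 1, L.one_mem, (mul_one a).symm⟩, hxa⟩
  refine ⟨hEX, ?_, ?_, ?_, ?_⟩
  · intro x hx y hy
    obtain ⟨k, hk, hxk⟩ := (hX' x).mp hx
    obtain ⟨a, ha, hya⟩ := (hEA y).mp hy
    refine (hEA _).mpr ⟨k * a * k⁻¹, ?_, ?_⟩
    · rw [← hMA] at ha ⊢
      exact hMn k hk a ha
    · rw [map_mul, map_mul, map_inv, hxk, hya]
      rfl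
  · refine ⟨⟨⟨?_⟩⟩, ?_⟩
    · rintro ⟨x, hx⟩ ⟨y, hy⟩
      apply Subtype.ext
      show x * y = y * x
      obtain ⟨a, ha, hxa⟩ := (hEA x).mp hx
      obtain ⟨b, hb, hyb⟩ := (hEA y).mp hy
      apply e'.injective
      rw [map_mul, map_mul, hxa, hyb, ← QuotientGroup.mk_mul, ← QuotientGroup.mk_mul,
        hAcomm a ha b hb]
    · intro x hx
      obtain ⟨a, ha, hxa⟩ := (hEA x).mp hx
      apply e'.injective
      rw [map_pow, hxa, map_one, pow_two, ← QuotientGroup.mk_mul, hAsq a ha]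
      rfl
  · have h1 := mq_card_comap hfin F2.cen (mqBar Q e' g uQ hk2).range
    rw [hMA, hAcard] at h1
    have h2 : Nat.card E = Nat.card (mqBar Q e' g uQ hk2).range := by
      apply Nat.card_congr
      refine Equiv.ofBijective (fun x => ⟨e' x.1, (hE' x.1).mp x.2⟩) ⟨?_, ?_⟩
      · intro x x' h
        have h3 : e' x.1 = e' x'.1 := congrArg Subtype.val h
        exact Subtype.ext (e'.injective h3)
      · rintro ⟨b, hb⟩
        refine ⟨⟨e'.symm b, (hE' _).mpr (by rw [MulEquiv.apply_symm_apply]; exact hb)⟩, ?_⟩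
        apply Subtype.ext
        exact MulEquiv.apply_symm_apply e' b
    rw [h2]
    omega
  · let f : L →* ((Subgroup.centralizer ({z} : Set G)) ⧸ Q) :=
      (e'.symm.toMonoidHom.comp (QuotientGroup.mk' (Subgroup.center ↥Co0))).comp L.subtype
    have hf : ∀ l : L, e' (f l) = QuotientGroup.mk (l : ↥Co0) :=
      fun l => MulEquiv.apply_symm_apply e' _
    have hfinj : Function.Injective f := by
      intro l l' h
      have h1 : (QuotientGroup.mk (l : ↥Co0) : Spor.Co1) = QuotientGroup.mk (l' : ↥Co0) := by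
        rw [← hf, ← hf, h]
      have h2 : (l : ↥Co0)⁻¹ * (l' : ↥Co0) ∈ Subgroup.center ↥Co0 := QuotientGroup.eq.mp h1
      have h3 : (l : ↥Co0)⁻¹ * (l' : ↥Co0) ∈ A ⊓ L :=
        ⟨hcenA h2, L.mul_mem (L.inv_mem l.2) l'.2⟩
      rw [hAL, Subgroup.mem_bot] at h3
      apply Subtype.ext
      exact inv_mul_eq_one.mp h3
    have hK : ∀ x, x ∈ f.range ↔ ∃ l ∈ L, e' x = QuotientGroup.mk l := by
      intro x
      constructor
      · rintro ⟨l, rfl⟩
        exact ⟨l, l.2, hf l⟩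
      · rintro ⟨l, hl, hxl⟩
        refine ⟨⟨l, hl⟩, ?_⟩
        apply e'.injective
        rw [hf, hxl]
    have hKX : f.range ≤ X := by
      intro x hx
      obtain ⟨l, hl, hxl⟩ := (hK x).mp hx
      exact (hX' x).mpr ⟨l, (hSiff l).mpr ⟨1, A.one_mem, l, hl, (one_mul l).symm⟩, hxl⟩
    refine ⟨f.range, hKX, ?_, ?_, ⟨(MonoidHom.ofInjective hfinj).symm.trans eL⟩⟩
    · rw [eq_bot_iff]
      rintro x ⟨hxE, hxK⟩
      obtain ⟨a, ha, hxa⟩ := (hEA x).mp hxE
      obtain ⟨l, hl, hxl⟩ := (hK x).mp hxK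
      have h1 : (QuotientGroup.mk a : Spor.Co1) = QuotientGroup.mk l := by rw [← hxa, hxl]
      have h2 : a⁻¹ * l ∈ Subgroup.center ↥Co0 := QuotientGroup.eq.mp h1
      have h3 : l ∈ A := by
        have := A.mul_mem ha (hcenA h2)
        rwa [mul_inv_cancel_left] at this
      have h4 : l ∈ A ⊓ L := ⟨h3, hl⟩
      rw [hAL, Subgroup.mem_bot] at h4
      rw [Subgroup.mem_bot]
      apply e'.injective
      rw [hxl, h4, map_one]
      rfl
    · apply le_antisymm
      · exact sup_le hEX hKX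
      · intro x hx
        obtain ⟨k, hk, hxk⟩ := (hX' x).mp hx
        obtain ⟨a, ha, l, hl, rfl⟩ := (hSiff k).mp hk
        have h1 : x = e'.symm (QuotientGroup.mk a) * e'.symm (QuotientGroup.mk l) := by
          apply e'.injective
          rw [map_mul, MulEquiv.apply_symm_apply, MulEquiv.apply_symm_apply, hxk]
          rfl
        rw [h1]
        apply Subgroup.mul_mem_sup
        · exact (hEA _).mpr ⟨a, ha, MulEquiv.apply_symm_apply e' _⟩
        · exact (hK _).mpr ⟨l, hl, MulEquiv.apply_symm_apply e' _⟩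

end main

end Cfsg.Agent.Lib.helper91
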