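import Cfsg.Agent.Lib.helper91.MonsterQ3Facts
import Cfsg.Agent.Lib.helper91.MonsterQ4

/-!
The stabilizer in the automorphism group of the Leech lattice of the class modulo twice the lattice
of a vector of norm 64: it is the product of the group of sign changes and the group of
permutations.
-/

set_option autoImplicit false
open Cfsg

namespace Cfsg.Agent.Lib.helper91

open Cfsg.Agent.Lib.helper9 Cfsg.Agent.Lib.helper93

theorem mq4_add_self (a : ↥golayCode) : a + a = 0 := by
  apply Subtype.ext
  funext q
  show a.1 q + a.1 q = 0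
  exact CharTwo.add_self_eq_zero _

/-- the group of sign changes -/
def mq4A : Subgroup ↥Co0 where
  carrier := {m | ∃ w : ↥golayCode, m = monoCo 1 w}
  one_mem' := ⟨0, mq3_sgn_zero.symm⟩
  mul_mem' := by
    rintro _ _ ⟨a, rfl⟩ ⟨b, rfl⟩
    exact ⟨a + b, mq3_sgn_mul a b⟩
  inv_mem' := by
    rintro _ ⟨a, rfl⟩
    refine ⟨a, ?_⟩
    apply inv_eq_of_mul_eq_one_left
    rw [mq3_sgn_mul, mq4_add_self, mq3_sgn_zero]

theorem mem_mq4A (m : ↥Co0) : m ∈ mq4A ↔ ∃ w : ↥golayCode, m = monoCo 1 w := Iff.rfl

/-- the value of a permutation at `8 e_q` -/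
theorem mq4_perm_E (σ : ↥M24) (q : GolayPt) : (monoCo σ 0).1 (E q) = E (σ.1 q) := by
  rw [mq3_mono_E]
  have h0 : (0 : ↥golayCode).1 (σ.1 q) = 0 := rfl
  rw [if_pos h0]

/-- the permutations, as a homomorphism -/
def mq4Perm : ↥M24 →* ↥Co0 where
  toFun σ := monoCo σ 0
  map_one' := mq3_sgn_zero
  map_mul' := by
    intro σ τ
    apply co_ext
    intro q
    rw [co_mul_apply, mq4_perm_E, mq4_perm_E, mq4_perm_E]
    rfl

theorem mq4Perm_apply (σ : ↥M24) : mq4Perm σ = monoCo σ 0 := rfl

theorem mq4Perm_injective : Function.Injective mq4Perm := by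
  intro σ τ h
  have h1 : monoCo σ 0 = monoCo τ 0 := h
  have h2 : monoMap (σ, 0) = monoMap (τ, 0) := Subtype.ext h1
  exact (Prod.mk.inj (monoMap_injective h2)).1

/-- a monomial automorphism is the product of a sign change and a permutation -/
theorem mq4_decomp (σ : ↥M24) (w : ↥golayCode) : monoCo σ w = monoCo 1 w * monoCo σ 0 := by
  apply co_ext
  intro q
  rw [co_mul_apply, mq4_perm_E, mq3_sgn_E, mq3_mono_E]

/-- the facts on the stabilizer of the class of a vector of norm 64 -/
theorem mqFacts4 : MQFacts4 where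
  fin := finite_Co0
  cls := by
    refine ⟨E none, sqNorm_E none, mq4A, mq4Perm.range, ?_, ?_, ?_, ?_, ?_, ?_, ?_⟩
    · rintro _ ⟨a, rfl⟩
      rw [mq3_sgn_mul, mq4_add_self, mq3_sgn_zero]
    · rintro _ ⟨a, rfl⟩ _ ⟨b, rfl⟩
      rw [mq3_sgn_mul, mq3_sgn_mul, add_comm]
    · have hcard : Nat.card mq4A = Nat.card ↥golayCode := by
        symm
        apply Nat.card_congr
        refine Equiv.ofBijective (fun w => ⟨monoCo 1 w, w, rfl⟩) ⟨?_, ?_⟩
        · intro a b hab
          have h1 : monoCo 1 a = monoCo 1 b := congrArg Subtype.val hab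
          have h2 : monoMap (1, a) = monoMap (1, b) := Subtype.ext h1
          exact (Prod.mk.inj (monoMap_injective h2)).2
        · rintro ⟨m, w, rfl⟩
          exact ⟨w, rfl⟩
      rw [hcard, natCard_golayCode]
      norm_num
    · exact ⟨(MonoidHom.ofInjective mq4Perm_injective).symm⟩
    · rw [eq_bot_iff]
      rintro m ⟨⟨w, hw⟩, ⟨σ, hσ⟩⟩
      have h1 : monoCo σ 0 = monoCo 1 w := by
        rw [← hw]
        exact hσ
      have h2 : monoMap (σ, 0) = monoMap (1, w) := Subtype.ext h1
      have h3 := (Prod.mk.inj (monoMap_injective h2)).2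
      rw [Subgroup.mem_bot, hw, ← h3, mq3_sgn_zero]
    · intro k
      constructor
      · intro hk
        obtain ⟨σ, w, rfl⟩ := mq3_mono_of_class none k hk
        exact ⟨monoCo 1 w, ⟨w, rfl⟩, monoCo σ 0, ⟨σ, rfl⟩, mq4_decomp σ w⟩
      · rintro ⟨_, ⟨w, rfl⟩, _, ⟨σ, rfl⟩, rfl⟩
        rw [mq4Perm_apply, ← mq4_decomp]
        exact mq3_mono_class none σ w
    · intro M hMcls hM2 hMcen hMnorm
      have hmono : ∀ m ∈ M, ∃ (σ : ↥M24) (w : ↥golayCode), m = monoCo σ w :=
        fun m hm => mq3_mono_of_class none m (hMcls m hm)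
      -- the permutation parts
      let H : Subgroup (Equiv.Perm GolayPt) :=
        { carrier := {σ | ∃ m ∈ M, MqPP m σ}
          one_mem' := ⟨1, M.one_mem, mqPP_one⟩
          mul_mem' := by
            rintro a b ⟨m, hm, h⟩ ⟨m', hm', h'⟩
            exact ⟨m * m', M.mul_mem hm hm', mqPP_mul _ _ _ _ h h'⟩
          inv_mem' := by
            rintro a ⟨m, hm, h⟩
            exact ⟨m⁻¹, M.inv_mem hm, mqPP_inv _ _ h⟩ }
      have hHmem : ∀ σ : Equiv.Perm GolayPt, σ ∈ H ↔ ∃ m ∈ M, MqPP m σ := fun σ => Iff.rfl
      have hH2 : IsPGroup 2 (H.subgroupOf M24) := by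
        intro x
        obtain ⟨m, hm, h⟩ := (hHmem _).mp (Subgroup.mem_subgroupOf.mp x.2)
        obtain ⟨k, hk⟩ := hM2 ⟨m, hm⟩
        refine ⟨k, ?_⟩
        have hk' : m ^ (2 ^ k) = 1 := by
          have := congrArg Subtype.val hk
          simpa using this
        have h1 := mqPP_pow m _ h (2 ^ k)
        rw [hk'] at h1
        have h2 := mqPP_unique _ _ _ h1 mqPP_one
        apply Subtype.ext
        apply Subtype.ext
        simpa using h2
      have hHn : (H.subgroupOf M24).Normal := by
        constructor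
        intro x hx τ
        obtain ⟨m, hm, h⟩ := (hHmem _).mp (Subgroup.mem_subgroupOf.mp hx)
        apply Subgroup.mem_subgroupOf.mpr
        apply (hHmem _).mpr
        refine ⟨monoCo τ 0 * m * (monoCo τ 0)⁻¹,
          hMnorm _ (mq3_mono_class none τ 0) m hm, ?_⟩
        exact mqPP_mul _ _ _ _ (mqPP_mul _ _ _ _ (mqPP_mono τ 0) h) (mqPP_inv _ _ (mqPP_mono τ 0))
      have hHbot : H.subgroupOf M24 = ⊥ := by
        have hsimple := m24_simple
        rcases hHn.eq_bot_or_eq_top with h | h
        · exact h
        · exfalso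
          rw [h] at hH2
          have hp' : IsPGroup 2 ↥M24 := hH2.of_equiv Subgroup.topEquiv
          have hfin : Finite ↥M24 := Nat.finite_of_card_ne_zero (by rw [card_M24]; norm_num)
          have : Fact (Nat.Prime 2) := ⟨Nat.prime_two⟩
          obtain ⟨n, hn⟩ := IsPGroup.iff_card.mp hp'
          rw [card_M24] at hn
          have h3 : (3 : ℕ) ∣ 2 ^ n := by
            rw [← hn]
            norm_num
          have h4 := Nat.Prime.dvd_of_dvd_pow Nat.prime_three h3
          omega
      -- the elements of `M` are sign changes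
      have hsgn : ∀ m ∈ M, ∃ w : ↥golayCode, m = monoCo 1 w := by
        intro m hm
        obtain ⟨σ, w, rfl⟩ := hmono m hm
        have hσH : σ ∈ H.subgroupOf M24 :=
          Subgroup.mem_subgroupOf.mpr ((hHmem _).mpr ⟨_, hm, mqPP_mono σ w⟩)
        rw [hHbot, Subgroup.mem_bot] at hσH
        exact ⟨w, by rw [hσH]⟩
      -- the code words of the sign changes in `M`
      let W : Submodule (ZMod 2) GV :=
        { carrier := {w | ∃ hw : w ∈ golayCode, monoCo 1 ⟨w, hw⟩ ∈ M}
          zero_mem' := ⟨golayCode.zero_mem, by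
            have e : (⟨0, golayCode.zero_mem⟩ : ↥golayCode) = 0 := rfl
            rw [e, mq3_sgn_zero]
            exact M.one_mem⟩
          add_mem' := by
            rintro a b ⟨ha, hma⟩ ⟨hb, hmb⟩
            refine ⟨golayCode.add_mem ha hb, ?_⟩
            have h1 := M.mul_mem hma hmb
            rw [mq3_sgn_mul] at h1
            exact h1
          smul_mem' := by
            rintro c w ⟨hw, hm⟩
            rcases zmod2_cases' c with hc | hc
            · rw [hc, zero_smul]
              refine ⟨golayCode.zero_mem, ?_⟩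
              have e : (⟨0, golayCode.zero_mem⟩ : ↥golayCode) = 0 := rfl
              rw [e, mq3_sgn_zero]
              exact M.one_mem
            · rw [hc, one_smul]
              exact ⟨hw, hm⟩ }
      have hWmem : ∀ w : GV, w ∈ W ↔ ∃ hw : w ∈ golayCode, monoCo 1 ⟨w, hw⟩ ∈ M := fun w => Iff.rfl
      have hWle : W ≤ golayCode := fun w hw => ((hWmem w).mp hw).1
      have hMW : ∀ m ∈ M, ∃ w : ↥golayCode, m = monoCo 1 w ∧ w.1 ∈ W := by
        intro m hm
        obtain ⟨w, rfl⟩ := hsgn m hm
        exact ⟨w, rfl, (hWmem _).mpr ⟨w.2, hm⟩⟩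
      have hInv : Cfsg.Agent.Lib.helper93.Inv W := by
        intro σ hσ w hw
        obtain ⟨hwG, hm⟩ := (hWmem w).mp hw
        have hcM := hMnorm _ (mq3_mono_class none ⟨σ, hσ⟩ 0) _ hm
        obtain ⟨w'', hw''⟩ := hsgn _ hcM
        have hk : ∀ p : GolayPt, (monoCo ⟨σ, hσ⟩ 0).1 (E p) = E (σ p) := by
          intro p
          rw [mq3_mono_E]
          have h0 : (0 : ↥golayCode).1 (σ p) = 0 := rfl
          rw [if_pos h0]
        have hkinv : ∀ q : GolayPt, ((monoCo ⟨σ, hσ⟩ 0)⁻¹).1 (E q) = E (σ.symm q) := by
          intro q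
          have h1 := hk (σ.symm q)
          rw [Equiv.apply_symm_apply] at h1
          rw [← h1]
          exact (monoCo ⟨σ, hσ⟩ 0).1.symm_apply_apply _
        have hval : ∀ q : GolayPt, w''.1 q = w (σ.symm q) := by
          intro q
          apply mq3_zmod2_eq
          have h1 : (monoCo ⟨σ, hσ⟩ 0 * monoCo 1 ⟨w, hwG⟩ * (monoCo ⟨σ, hσ⟩ 0)⁻¹).1 (E q) =
              (monoCo 1 w'').1 (E q) := by rw [hw'']
          rw [co_mul_apply, co_mul_apply, hkinv, mq3_sgn_E, mq3_sgn_E] at h1
          have hwq : (⟨w, hwG⟩ : ↥golayCode).1 (σ.symm q) = w (σ.symm q) := rfl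
          rw [hwq] at h1
          by_cases h2 : w (σ.symm q) = 0 <;> by_cases h3 : w''.1 q = 0
          · exact ⟨fun _ => h2, fun _ => h3⟩
          · exfalso
            rw [if_pos h2, if_neg h3, hk, Equiv.apply_symm_apply] at h1
            exact neg_E_ne q h1.symm
          · exfalso
            rw [if_neg h2, if_pos h3, co_map_neg, hk, Equiv.apply_symm_apply] at h1
            exact neg_E_ne q h1
          · exact ⟨fun h => absurd h h3, fun h => absurd h h2⟩
        have hact : act σ w = w''.1 := by
          funext q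
          rw [act_apply, hval]
        apply (hWmem _).mpr
        rw [hact]
        refine ⟨w''.2, ?_⟩
        have e : (⟨w''.1, w''.2⟩ : ↥golayCode) = w'' := rfl
        rw [e, ← hw'']
        exact hcM
      have hcenter : (∀ w ∈ W, w = 0 ∨ w = 1) → M = Subgroup.center ↥Co0 := by
        intro h01
        apply le_antisymm _ hMcen
        intro m hm
        obtain ⟨w, rfl, hwW⟩ := hMW m hm
        rcases h01 _ hwW with h | h
        · have e : w = 0 := Subtype.ext h
          rw [e, mq3_sgn_zero]
          exact Subgroup.one_mem _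
        · have e : w = ⟨1, one_mem_golayCode⟩ := Subtype.ext h
          rw [e, mq3_sgn_neg]
          exact negCo_mem_center
      rcases invariant_subspaces hInv with h | h | h | h | h
      · left
        apply hcenter
        intro w hw
        rw [h, Submodule.mem_bot] at hw
        exact Or.inl hw
      · left
        apply hcenter
        intro w hw
        rw [h] at hw
        obtain ⟨a, ha⟩ := Submodule.mem_span_singleton.mp hw
        rcases zmod2_cases' a with hc | hc
        · left
          rw [← ha, hc, zero_smul]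
        · right
          rw [← ha, hc, one_smul]
          rfl
      · right
        have hall : ∀ w : ↥golayCode, monoCo 1 w ∈ M := by
          intro w
          have hw : w.1 ∈ W := by
            rw [h]
            exact w.2
          exact ((hWmem _).mp hw).2
        apply le_antisymm
        · intro m hm
          obtain ⟨w, rfl⟩ := hsgn m hm
          exact ⟨w, rfl⟩
        · rintro _ ⟨w, rfl⟩
          exact hall w
      · exfalso
        have h1 : dec 8388609 ∈ (W : Set GV) := by
          rw [h]
          show ∑ p, dec 8388609 p = 0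
          rw [sum_dec, mq3_pc_chk]
          decide
        have h2 := hWle h1
        rw [dec_mem_golayCode_iff, mq3_syn_chk] at h2
        exact Bool.false_ne_true h2
      · exfalso
        have h1 : dec 8388609 ∈ W := by
          rw [h]
          exact Submodule.mem_top
        have h2 := hWle h1
        rw [dec_mem_golayCode_iff, mq3_syn_chk] at h2
        exact Bool.false_ne_true h2


end Cfsg.Agent.Lib.helper91
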