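import Mathlib

/-!
# S5238E piece E4 (`gen_sub_P2`), core with the statements of E1, E2, E3 as hypotheses (helper91)
-/

set_option autoImplicit false

namespace Cfsg.Agent.Lib.helper91.PearlEnd

/-- E4 core: `gen_sub_P2` from the (instantiated) statements of E1 (`hE1`), E2 (`hE2`), E3 (`hE3`). -/
theorem helper91_gen_sub_P2_core {G : Type*} [Group G] (p : ℕ) [Fact p.Prime] (n : ℕ)
    (P : ℕ → Subgroup G)
    (hpow : ∀ i, 2 ≤ i → i + p ≤ n → ∀ m ∈ P i, m ∉ P (i + 1) → m ^ p ∈ P (i + p - 1) ∧ m ^ p ∉ P (i + p))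
    (H : Subgroup G) (hH : H ≤ P 2)
    (hE1 : ∀ J J0 : Finset ℕ, (∀ i ∈ J, 2 ≤ i ∧ i + 1 ≤ n) → (∀ i ∈ J, i + p ≤ n → i + (p - 1) ∈ J) →
      (∀ i ∈ J0, i ∈ J ∧ (i < p + 1 ∨ i - (p - 1) ∉ J)) → J0.card ≤ p - 1)
    (hE2 : ∀ J : Finset ℕ, (∀ i ∈ J, 2 ≤ i ∧ i + 1 ≤ n) → ∀ K : Subgroup G,
      (∀ i ∈ J, (i < p + 1 ∨ i - (p - 1) ∉ J) → ∃ k ∈ K, k ∈ P i ∧ k ∉ P (i + 1)) →
      ∀ i ∈ J, ∃ k ∈ K, k ∈ P i ∧ k ∉ P (i + 1))
    (hE3 : ∀ K : Subgroup G, K ≤ H →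
      (∀ i, 2 ≤ i → i + 1 ≤ n → (∃ h ∈ H, h ∈ P i ∧ h ∉ P (i + 1)) → ∃ k ∈ K, k ∈ P i ∧ k ∉ P (i + 1)) →
      H ⊓ P 2 ≤ K) :
    ∃ T : Finset G, T.card ≤ p - 1 ∧ Subgroup.closure (T : Set G) = H := by
  classical
  have hp : p.Prime := Fact.out
  have hp2 := hp.two_le
  set J : Finset ℕ := (Finset.Icc 2 (n - 1)).filter (fun i => ∃ h ∈ H, h ∈ P i ∧ h ∉ P (i + 1))
    with hJdef
  have hJmem : ∀ i, i ∈ J ↔ (2 ≤ i ∧ i ≤ n - 1) ∧ ∃ h ∈ H, h ∈ P i ∧ h ∉ P (i + 1) := by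
    intro i
    rw [hJdef, Finset.mem_filter, Finset.mem_Icc]
  have hJ : ∀ i ∈ J, 2 ≤ i ∧ i + 1 ≤ n := by
    intro i hi
    have := ((hJmem i).mp hi).1
    omega
  have hw : ∀ i : ℕ, ∃ h : G, i ∈ J → (h ∈ H ∧ h ∈ P i ∧ h ∉ P (i + 1)) := by
    intro i
    by_cases hi : i ∈ J
    · obtain ⟨h, hh, h1, h2⟩ := ((hJmem i).mp hi).2
      exact ⟨h, fun _ => ⟨hh, h1, h2⟩⟩
    · exact ⟨1, fun h => absurd h hi⟩
  choose w hw using hw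
  set J0 : Finset ℕ := J.filter (fun i => i < p + 1 ∨ i - (p - 1) ∉ J) with hJ0def
  have hJ0 : ∀ i ∈ J0, i ∈ J ∧ (i < p + 1 ∨ i - (p - 1) ∉ J) := by
    intro i hi
    rw [hJ0def, Finset.mem_filter] at hi
    exact hi
  have hup : ∀ i ∈ J, i + p ≤ n → i + (p - 1) ∈ J := by
    intro i hi hin
    obtain ⟨hh, h1, h2⟩ := hw i hi
    have h2i := (hJ i hi).1
    obtain ⟨q1, q2⟩ := hpow i h2i hin (w i) h1 h2
    rw [hJmem]
    have e1 : i + p - 1 = i + (p - 1) := by omega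
    have e2 : i + (p - 1) + 1 = i + p := by omega
    refine ⟨by omega, w i ^ p, H.pow_mem hh p, ?_, ?_⟩
    · rw [← e1]; exact q1
    · rw [e2]; exact q2
  have hcardJ0 : J0.card ≤ p - 1 := hE1 J J0 hJ hup hJ0
  refine ⟨J0.image w, le_trans Finset.card_image_le hcardJ0, ?_⟩
  have hKH : Subgroup.closure ((J0.image w : Finset G) : Set G) ≤ H := by
    rw [Subgroup.closure_le]
    intro g hg
    simp only [Finset.coe_image, Set.mem_image, Finset.mem_coe] at hg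
    obtain ⟨i, hi, rfl⟩ := hg
    exact (hw i (hJ0 i hi).1).1
  have hK : ∀ i ∈ J, (i < p + 1 ∨ i - (p - 1) ∉ J) →
      ∃ k ∈ Subgroup.closure ((J0.image w : Finset G) : Set G), k ∈ P i ∧ k ∉ P (i + 1) := by
    intro i hi hprim
    have hi0 : i ∈ J0 := by
      rw [hJ0def, Finset.mem_filter]
      exact ⟨hi, hprim⟩
    refine ⟨w i, Subgroup.subset_closure ?_, (hw i hi).2.1, (hw i hi).2.2⟩
    simp only [Finset.coe_image, Set.mem_image, Finset.mem_coe]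
    exact ⟨i, hi0, rfl⟩
  have hreach := hE2 J hJ _ hK
  have hJ' : ∀ i, 2 ≤ i → i + 1 ≤ n → (∃ h ∈ H, h ∈ P i ∧ h ∉ P (i + 1)) →
      ∃ k ∈ Subgroup.closure ((J0.image w : Finset G) : Set G), k ∈ P i ∧ k ∉ P (i + 1) := by
    intro i hi hin hex
    exact hreach i ((hJmem i).mpr ⟨⟨hi, by omega⟩, hex⟩)
  have hdown := hE3 _ hKH hJ'
  apply le_antisymm hKH
  intro h hh
  exact hdown ⟨hh, hH hh⟩

end Cfsg.Agent.Lib.helper91.PearlEnd
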