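import Mathlib
import Cfsg.Agent.Lib.helper68.HallPet
import Cfsg.Agent.Lib.helper10.PearlEnd
import Cfsg.Agent.Lib.helper19.PearlEE6
import Cfsg.Agent.Lib.helper4.PearlEE0

/-!
# S5238, END of block G (architect helper91): from the series data to the generators

`pearl_end` (abstract chain `P`) is helper10's one-theorem proof `h10_pearl_end`; `two_gen` (E7) and the export
`pearl_end_gam` for the lower central series `gam G` are proved here from E0 (helper4) and E6 (helper19).
-/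

set_option autoImplicit false

namespace Cfsg.Agent.Lib.helper91.PearlEnd

/-- E7: `G` is 2-generated when `|G : P2| = p ^ 2` and `P2` consists of non-generators. -/
theorem helper91_two_gen {G : Type*} [Group G] [Finite G] (p : ℕ) [Fact p.Prime] (n : ℕ) (hG : Nat.card G = p ^ n)
    (hn : 2 ≤ n) (P2 : Subgroup G) (hnorm : P2.Normal) (hcard : Nat.card P2 = p ^ (n - 2))
    (hfr : ∀ H : Subgroup G, H ⊔ P2 = ⊤ → H = ⊤) : ∃ a b : G, Subgroup.closure {a, b} = ⊤ := by
  classical
  have hp : p.Prime := Fact.out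
  have hQ : Nat.card (G ⧸ P2) = p ^ 2 := by
    have h1 : Nat.card G = Nat.card (G ⧸ P2) * Nat.card P2 :=
      Subgroup.card_eq_card_quotient_mul_card_subgroup P2
    rw [hG, hcard] at h1
    have h2 : p ^ n = p ^ 2 * p ^ (n - 2) := by
      rw [← pow_add]
      congr 1
      omega
    rw [h2] at h1
    exact (Nat.eq_of_mul_eq_mul_right (pow_pos hp.pos _) h1).symm
  have hTop : Nat.card (⊤ : Subgroup (G ⧸ P2)) = p ^ 2 := by
    rw [Subgroup.card_top]
    exact hQ
  obtain ⟨T, hT, hcl⟩ := gen_le_log p (⊤ : Subgroup (G ⧸ P2)) 2 hTop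
  obtain ⟨a', b', hab⟩ : ∃ a' b' : G ⧸ P2, T ⊆ {a', b'} := by
    have h3 : T.card = 0 ∨ T.card = 1 ∨ T.card = 2 := by omega
    rcases h3 with h | h | h
    · rw [Finset.card_eq_zero] at h
      exact ⟨1, 1, by rw [h]; exact Finset.empty_subset _⟩
    · obtain ⟨x, hx⟩ := Finset.card_eq_one.mp h
      exact ⟨x, x, by rw [hx]; intro t ht; simp only [Finset.mem_singleton] at ht; simp [ht]⟩
    · obtain ⟨x, y, -, hxy⟩ := Finset.card_eq_two.mp h
      exact ⟨x, y, by rw [hxy]⟩
  obtain ⟨a, rfl⟩ := QuotientGroup.mk_surjective a'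
  obtain ⟨b, rfl⟩ := QuotientGroup.mk_surjective b'
  refine ⟨a, b, hfr _ ?_⟩
  rw [eq_top_iff]
  intro g _
  have hmap : Subgroup.map (QuotientGroup.mk' P2) (Subgroup.closure {a, b}) = ⊤ := by
    rw [eq_top_iff, ← hcl, MonoidHom.map_closure]
    apply Subgroup.closure_mono
    intro t ht
    have h4 := hab ht
    simp only [Finset.mem_insert, Finset.mem_singleton] at h4
    rcases h4 with rfl | rfl
    · exact ⟨a, by simp, rfl⟩
    · exact ⟨b, by simp, rfl⟩
  have hg : (QuotientGroup.mk' P2) g ∈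
      Subgroup.map (QuotientGroup.mk' P2) (Subgroup.closure {a, b}) := by
    rw [hmap]
    trivial
  obtain ⟨l, hl, hlg⟩ := hg
  have h5 : l⁻¹ * g ∈ P2 := QuotientGroup.eq.mp hlg
  have e : g = l * (l⁻¹ * g) := by group
  rw [e]
  exact Subgroup.mul_mem _ (Subgroup.mem_sup_left hl) (Subgroup.mem_sup_right h5)

/-- END of block G of S5238: from the series data to the generators (abstract chain `P`). -/
theorem pearl_end {G : Type*} [Group G] [Finite G] (p : ℕ) [Fact p.Prime] (hp2 : p ≠ 2) (n : ℕ)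
    (hG : Nat.card G = p ^ n) (P : ℕ → Subgroup G) (hnorm : ∀ i, (P i).Normal)
    (hanti : ∀ i, P (i + 1) ≤ P i)
    (hcard : ∀ i, 2 ≤ i → i ≤ n → Nat.card (P i) = p ^ (n - i))
    (hfr : ∀ H : Subgroup G, H ⊔ P 2 = ⊤ → H = ⊤)
    (hgen : ∃ a b : G, Subgroup.closure {a, b} = ⊤)
    (hpow : ∀ i, 2 ≤ i → i + p ≤ n → ∀ m ∈ P i, m ∉ P (i + 1) → m ^ p ∈ P (i + p - 1) ∧ m ^ p ∉ P (i + p))
    (H : Subgroup G) : ∃ T : Finset G, T.card ≤ p ∧ Subgroup.closure (T : Set G) = H :=
  h10_pearl_end p hp2 n hG P hnorm hanti hcard hfr hgen hpow H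

open Cfsg.Agent.Lib.helper68 in
/-- END of block G of S5238 for the lower central series `gam G` (same shape as helper52's `pearl_jump`). -/
theorem pearl_end_gam {G : Type*} [Group G] [Finite G] (p : ℕ) [Fact p.Prime] (hp2 : p ≠ 2) (n : ℕ)
    (hG : Nat.card G = p ^ n) (hn : 2 ≤ n)
    (hchain : ∀ i, 2 ≤ i → i ≤ n → Nat.card (gam G i) = p ^ (n - i))
    (hpow : ∀ i, 2 ≤ i → i + p ≤ n → ∀ m ∈ gam G i, m ∉ gam G (i + 1) →
      m ^ p ∈ gam G (i + p - 1) ∧ m ^ p ∉ gam G (i + p))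
    (H : Subgroup G) : ∃ T : Finset G, T.card ≤ p ∧ Subgroup.closure (T : Set G) = H := by
  have h2 : gam G 2 = commutator G := Subgroup.top_lowerCentralSeries_one
  have hfr : ∀ K : Subgroup G, K ⊔ gam G 2 = ⊤ → K = ⊤ := by
    intro K hK
    rw [h2] at hK
    exact sup_commutator_top p (IsPGroup.of_card hG) K hK
  have hgen : ∃ a b : G, Subgroup.closure {a, b} = ⊤ :=
    helper91_two_gen p n hG hn (gam G 2) inferInstance (hchain 2 le_rfl hn) hfr
  exact pearl_end p hp2 n hG (fun i => gam G i) (fun i => inferInstance)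
    (fun i => gam_antitone (Nat.le_succ i)) hchain hfr hgen hpow H

end Cfsg.Agent.Lib.helper91.PearlEnd
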