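import Mathlib

/-!
# S5238R piece FF (`rank_transport`), helper91 racer copy (prefixed name)
-/

set_option autoImplicit false

namespace Cfsg.Agent.Lib.helper88.PearlF

/-- FF (racer copy of `rank_transport`): transport of generating sets from `↥S` to `Ω`. -/
theorem helper91_rank_transport {Ω : Type*} [Group Ω] (p : ℕ) (S H : Subgroup Ω) (hHS : H ≤ S)
    (h : ∃ T : Finset ↥S, T.card ≤ p ∧ Subgroup.closure (T : Set ↥S) = H.subgroupOf S) :
    ∃ T : Finset Ω, T.card ≤ p ∧ Subgroup.closure (T : Set Ω) = H := by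
  classical
  obtain ⟨T, hT, hcl⟩ := h
  refine ⟨T.image S.subtype, le_trans Finset.card_image_le hT, ?_⟩
  have h1 : Subgroup.closure ((T.image S.subtype : Finset Ω) : Set Ω)
      = (Subgroup.closure (T : Set ↥S)).map S.subtype := by
    rw [MonoidHom.map_closure, Finset.coe_image]
  rw [h1, hcl, Subgroup.subgroupOf_map_subtype]
  exact inf_eq_left.mpr hHS

end Cfsg.Agent.Lib.helper88.PearlF
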