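import Mathlib
import Cfsg.Agent.Lib.helper69.StemSylow

set_option autoImplicit false

namespace Cfsg.Agent.Lib.helper91.S2113

open scoped commutatorElement
open Cfsg.Agent.Lib.helper69

/-- PIECE TWOC (racer copy by helper91): the preimage of a `2³` with a fixed-point-free
element of order 7 in a central extension is abelian. -/
theorem helper91_two_comm {G Γ : Type*} [Group G] [Group Γ] (σ : Γ →* G) (hsurj : Function.Surjective σ)
    (hc : σ.ker ≤ Subgroup.center Γ) (S : Subgroup G) (hcard : Nat.card S = 8)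
    (hexp : ∀ x ∈ S, x * x = 1) (g : G) (hg : ∀ x ∈ S, g * x * g⁻¹ ∈ S) (hg7 : g ^ 7 = 1)
    (hfix : ∀ x ∈ S, g * x * g⁻¹ = x → x = 1)
    (hF : ∀ (f : ZMod 7 → Γ) (j : ZMod 7), (∀ a b, f a * f b = f b * f a) → f 0 = 1 →
      (∀ k, f k * f k = 1) → (∀ k, f (-k) = f k) → j ≠ 0 → j ≠ 1 →
      (∀ i, f (i + j) = f i * f (i + 1)) → ∀ k, f k = 1)
    (x y : Γ) (hx : σ x ∈ S) (hy : σ y ∈ S) : x * y = y * x := by
  classical
  have hp7 : Fact (Nat.Prime 7) := ⟨by norm_num⟩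
  have h17 : Fact (1 < 7) := ⟨by norm_num⟩
  -- S is abelian
  have hSinv : ∀ a ∈ S, a⁻¹ = a := fun a ha => inv_eq_of_mul_eq_one_left (hexp a ha)
  have hSab : ∀ a ∈ S, ∀ b ∈ S, a * b = b * a := by
    intro a ha b hb
    have h1 := hSinv (a * b) (S.mul_mem ha hb)
    rw [mul_inv_rev, hSinv a ha, hSinv b hb] at h1
    exact h1.symm
  have hcen : ∀ u v : Γ, σ u ∈ S → σ v ∈ S → ⁅u, v⁆ ∈ Subgroup.center Γ := fun u v hu hv =>
    commutatorElement_mem_center_of_central σ hc u v (hSab _ hu _ hv)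
  have hkercomm : ∀ u v : Γ, σ u = 1 → u * v = v * u := by
    intro u v hu
    have h : u ∈ Subgroup.center Γ := hc (MonoidHom.mem_ker.mpr hu)
    exact ((Subgroup.mem_center_iff.mp h) v).symm
  by_cases hx1 : σ x = 1
  · exact hkercomm x y hx1
  by_cases hy1 : σ y = 1
  · exact (hkercomm y x hy1).symm
  obtain ⟨γ, hγ⟩ := hsurj g
  have hgn : ∀ n : ℕ, ∀ a ∈ S, g ^ n * a * (g ^ n)⁻¹ ∈ S := by
    intro n
    induction n with
    | zero => intro a ha; simpa using ha
    | succ n ih =>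
      intro a ha
      have h := hg _ (ih a ha)
      have e : g ^ (n + 1) * a * (g ^ (n + 1))⁻¹ = g * (g ^ n * a * (g ^ n)⁻¹) * g⁻¹ := by
        rw [pow_succ']; group
      rw [e]; exact h
  obtain ⟨ψ, hψdef⟩ : ∃ ψ : ZMod 7 → G, ∀ k, ψ k = g ^ k.val * σ x * (g ^ k.val)⁻¹ :=
    ⟨_, fun _ => rfl⟩
  obtain ⟨φ, hφdef⟩ : ∃ φ : ZMod 7 → Γ, ∀ k, φ k = γ ^ k.val * x * (γ ^ k.val)⁻¹ :=
    ⟨_, fun _ => rfl⟩
  obtain ⟨f, hfdef⟩ : ∃ f : ZMod 7 → Γ, ∀ k, f k = ⁅x, φ k⁆ := ⟨_, fun _ => rfl⟩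
  have hσφ : ∀ k, σ (φ k) = ψ k := by
    intro k
    rw [hφdef, hψdef]
    simp only [map_mul, map_inv, map_pow, hγ]
  have hψS : ∀ k, ψ k ∈ S := fun k => by rw [hψdef]; exact hgn _ _ hx
  have hψ0 : ψ 0 = σ x := by rw [hψdef]; simp
  have hpow : ∀ i j : ZMod 7, g ^ (i + j).val = g ^ i.val * g ^ j.val := by
    intro i j
    rw [ZMod.val_add, ← pow_add, ← pow_eq_pow_mod _ hg7]
  have hψadd : ∀ i j : ZMod 7, ψ (i + j) = g ^ i.val * ψ j * (g ^ i.val)⁻¹ := by
    intro i j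
    rw [hψdef (i + j), hψdef j, hpow]; group
  have hψne : ∀ k, ψ k ≠ 1 := by
    intro k hk
    apply hx1
    have h : σ x = (g ^ k.val)⁻¹ * ψ k * g ^ k.val := by rw [hψdef]; group
    rw [h, hk]; group
  have hψinj : Function.Injective ψ := by
    intro i j hij
    by_contra hne
    have hd : i - j ≠ 0 := sub_ne_zero.mpr hne
    have h1 : ψ (j + (i - j)) = ψ (j + 0) := by rw [add_sub_cancel, add_zero]; exact hij
    rw [hψadd j (i - j), hψadd j 0, hψ0] at h1
    have h2 : ψ (i - j) = σ x := by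
      have h := congrArg (fun z => (g ^ j.val)⁻¹ * z * g ^ j.val) h1
      simpa [mul_assoc] using h
    have h3 : Commute (g ^ (i - j).val) (σ x) := by
      have h : g ^ (i - j).val * σ x * (g ^ (i - j).val)⁻¹ = σ x := by rw [← hψdef]; exact h2
      exact mul_inv_eq_iff_eq_mul.mp h
    have h4 : g = (g ^ (i - j).val) ^ ((i - j)⁻¹).val := by
      rw [← pow_mul, pow_eq_pow_mod _ hg7, ← ZMod.val_mul, mul_inv_cancel₀ hd, ZMod.val_one, pow_one]
    have h5 : Commute g (σ x) := by rw [h4]; exact h3.pow_left _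
    apply hx1
    apply hfix (σ x) hx
    rw [h5.eq]; group
  have hsurjψ : ∀ b ∈ S, b ≠ 1 → ∃ k, ψ k = b := by
    intro b hb hb1
    have hfin : Finite S := Nat.finite_of_card_ne_zero (by rw [hcard]; norm_num)
    let Θ : Option (ZMod 7) → S := fun o => match o with
      | none => 1
      | some k => ⟨ψ k, hψS k⟩
    have hΘinj : Function.Injective Θ := by
      intro o o' h
      cases o with
      | none =>
        cases o' with
        | none => rfl
        | some k' => exact absurd (congrArg Subtype.val h).symm (hψne k')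
      | some k =>
        cases o' with
        | none => exact absurd (congrArg Subtype.val h) (hψne k)
        | some k' => exact congrArg some (hψinj (congrArg Subtype.val h))
    have hbij : Function.Bijective Θ := hΘinj.bijective_of_nat_card_le (by
      rw [hcard]; simp [Nat.card_eq_fintype_card])
    obtain ⟨o, ho⟩ := hbij.2 ⟨b, hb⟩
    cases o with
    | none => exact absurd (congrArg Subtype.val ho).symm hb1
    | some k => exact ⟨k, congrArg Subtype.val ho⟩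
  have hprod_mem : σ x * ψ 1 ∈ S := S.mul_mem hx (hψS 1)
  have hprod_ne : σ x * ψ 1 ≠ 1 := by
    intro h
    have h1 : ψ 1 = σ x := by
      have h2 := hSinv (σ x) hx
      rw [← h2]; exact eq_inv_of_mul_eq_one_right h
    have h3 : (1 : ZMod 7) = 0 := hψinj (h1.trans hψ0.symm)
    exact one_ne_zero h3
  obtain ⟨j, hj⟩ := hsurjψ _ hprod_mem hprod_ne
  have hj0 : j ≠ 0 := by
    rintro rfl
    rw [hψ0] at hj
    exact hψne 1 (by simpa using hj.symm)
  have hj1 : j ≠ 1 := by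
    rintro rfl
    exact hx1 (by simpa using hj.symm)
  have hφS : ∀ k, σ (φ k) ∈ S := fun k => by rw [hσφ]; exact hψS k
  have hfc : ∀ k, f k ∈ Subgroup.center Γ := fun k => by
    rw [hfdef]; exact hcen x (φ k) hx (hφS k)
  have hf0 : f 0 = 1 := by
    have h : φ 0 = x := by rw [hφdef]; simp
    rw [hfdef, h, commutatorElement_self]
  have hfsq : ∀ k, f k * f k = 1 := by
    intro k
    have h1 : ⁅x * x, φ k⁆ = ⁅x, φ k⁆ * ⁅x, φ k⁆ :=
      stem_commutatorElement_mul_left x x (φ k) (by rw [← hfdef]; exact hfc k)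
    have h2 : x * x ∈ Subgroup.center Γ :=
      hc (by rw [MonoidHom.mem_ker, map_mul]; exact hexp _ hx)
    have h3 : ⁅x * x, φ k⁆ = 1 := by
      rw [commutatorElement_eq_one_iff_mul_comm]
      exact ((Subgroup.mem_center_iff.mp h2) (φ k)).symm
    rw [hfdef, ← h1, h3]
  have hfneg : ∀ k, f (-k) = f k := by
    intro k
    have h1 : ⁅γ ^ k.val * x * (γ ^ k.val)⁻¹, γ ^ k.val * φ (-k) * (γ ^ k.val)⁻¹⁆ = ⁅x, φ (-k)⁆ :=
      commutatorElement_conj_of_central (γ ^ k.val) x (φ (-k)) (by rw [← hfdef]; exact hfc (-k))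
    have h2 : σ (γ ^ k.val * φ (-k) * (γ ^ k.val)⁻¹) = σ x := by
      rw [map_mul, map_mul, map_inv, map_pow, hγ, hσφ, ← hψadd, add_neg_cancel, hψ0]
    have h3 : ⁅γ ^ k.val * x * (γ ^ k.val)⁻¹, γ ^ k.val * φ (-k) * (γ ^ k.val)⁻¹⁆ = ⁅φ k, x⁆ :=
      commutatorElement_congr_of_central σ hc _ _ _ _ (by rw [hφdef k]) h2
    have h4 : f (-k) = ⁅φ k, x⁆ := by
      rw [hfdef, ← h1, h3]
    have h5 : ⁅φ k, x⁆ = (f k)⁻¹ := by
      rw [hfdef, commutatorElement_inv]
    rw [h4, h5]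
    exact inv_eq_of_mul_eq_one_left (hfsq k)
  have hfrel : ∀ i, f (i + j) = f i * f (i + 1) := by
    intro i
    have h1 : σ (φ (i + j)) = σ (φ i * φ (i + 1)) := by
      rw [hσφ (i + j), map_mul, hσφ i, hσφ (i + 1), hψadd i j, hj, hψadd i 1, hψdef i]
      group
    have h2 : ⁅x, φ (i + j)⁆ = ⁅x, φ i * φ (i + 1)⁆ :=
      commutatorElement_congr_of_central σ hc _ _ _ _ rfl h1
    rw [hfdef, hfdef i, hfdef (i + 1), h2]
    exact stem_commutatorElement_mul_right x (φ i) (φ (i + 1)) (by rw [← hfdef]; exact hfc (i + 1))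
  have hfall := hF f j (fun a b => ((Subgroup.mem_center_iff.mp (hfc b)) (f a))) hf0 hfsq hfneg
    hj0 hj1 hfrel
  obtain ⟨k, hk⟩ := hsurjψ (σ y) hy hy1
  have h1 : ⁅x, y⁆ = ⁅x, φ k⁆ :=
    commutatorElement_congr_of_central σ hc _ _ _ _ rfl (by rw [hσφ, hk])
  have h2 : ⁅x, y⁆ = 1 := by rw [h1, ← hfdef]; exact hfall k
  exact commutatorElement_eq_one_iff_mul_comm.mp h2

end Cfsg.Agent.Lib.helper91.S2113
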