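import Mathlib
import Cfsg.Agent.Lib.helper94.G23Defs

/-!
Piece D of the split proof of S2518: a matrix commuting with a cyclic matrix is a polynomial in it.
-/

set_option autoImplicit false

namespace Cfsg.Agent.Lib.helper91

open Cfsg.Agent.Lib.helper94

/-- PIECE D -/
theorem comm_cyclic {n : ℕ} {R : Type*} [CommRing R] (X E Ei : Matrix (Fin n) (Fin n) R)
    (P : Fin n → Matrix (Fin n) (Fin n) R) (v : Fin n → R)
    (hP : ∀ k : Fin n, P k = X ^ (k : ℕ))
    (hE : ∀ i k, E i k = (P k).mulVec v i) (hEi : E * Ei = 1)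
    (M : Matrix (Fin n) (Fin n) R) (hM : M * X = X * M) :
    ∃ a : Fin n → R, M = ∑ k : Fin n, a k • P k := by
  refine ⟨Ei.mulVec (M.mulVec v), ?_⟩
  generalize ha : Ei.mulVec (M.mulVec v) = a
  have hEa : E.mulVec a = M.mulVec v := by
    rw [← ha, Matrix.mulVec_mulVec, hEi, Matrix.one_mulVec]
  have hQv : (∑ k : Fin n, a k • P k).mulVec v = M.mulVec v := by
    rw [← hEa]
    funext i
    have h1 : (∑ k : Fin n, a k • P k).mulVec v i = ∑ j, (∑ k : Fin n, a k • P k) i j * v j := rfl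
    have h2 : E.mulVec a i = ∑ k, E i k * a k := rfl
    have h3 : ∀ k, (P k).mulVec v i = ∑ j, P k i j * v j := fun k => rfl
    rw [h1, h2]
    simp only [hE, h3, Matrix.sum_apply, Matrix.smul_apply, smul_eq_mul, Finset.sum_mul]
    rw [Finset.sum_comm]
    refine Finset.sum_congr rfl fun k _ => Finset.sum_congr rfl fun j _ => ?_
    ring
  have hXP : ∀ k, P k * X = X * P k := by
    intro k
    rw [hP]
    exact ((Commute.refl X).pow_left k).eq
  have hDX : (M - ∑ k : Fin n, a k • P k) * X = X * (M - ∑ k : Fin n, a k • P k) := by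
    rw [Matrix.sub_mul, Matrix.mul_sub, hM, Finset.sum_mul, Finset.mul_sum]
    congr 1
    refine Finset.sum_congr rfl fun k _ => ?_
    rw [Matrix.smul_mul, Matrix.mul_smul, hXP]
  have hDv : (M - ∑ k : Fin n, a k • P k).mulVec v = 0 := by
    rw [Matrix.sub_mulVec, hQv, sub_self]
  have hDP : ∀ k, (M - ∑ k : Fin n, a k • P k) * P k = P k * (M - ∑ k : Fin n, a k • P k) := by
    intro k
    rw [hP]
    exact (Commute.pow_right hDX k).eq
  obtain ⟨D, hD⟩ : ∃ D, D = M - ∑ k : Fin n, a k • P k := ⟨_, rfl⟩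
  rw [← hD] at hDX hDv hDP
  have hDE : D * E = 0 := by
    ext i k
    have h1 : (D * E) i k = ∑ j, D i j * E j k := rfl
    have h2 : (D.mulVec ((P k).mulVec v)) i = ∑ j, D i j * (P k).mulVec v j := rfl
    have h3 : D.mulVec ((P k).mulVec v) = 0 := by
      rw [Matrix.mulVec_mulVec, hDP, ← Matrix.mulVec_mulVec, hDv, Matrix.mulVec_zero]
    rw [h1, Matrix.zero_apply]
    have h4 : ∑ j, D i j * E j k = (D.mulVec ((P k).mulVec v)) i := by
      rw [h2]
      exact Finset.sum_congr rfl fun j _ => by rw [hE]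
    rw [h4, h3]
    rfl
  have hD0 : D = 0 := by
    have : D = D * (E * Ei) := by rw [hEi, Matrix.mul_one]
    rw [this, ← Matrix.mul_assoc, hDE, Matrix.zero_mul]
  rw [hD0] at hD
  exact sub_eq_zero.mp hD.symm

end Cfsg.Agent.Lib.helper91
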