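import Mathlib
import Cfsg.Agent.Lib.helper94.G23Defs

/-!
Piece E of the split proof of S2518: a matrix satisfying the structure-constant identity
preserves the bilinear product.
-/

set_option autoImplicit false

namespace Cfsg.Agent.Lib.helper91

open Cfsg.Agent.Lib.helper94

theorem presT_sum4_comm {n : ℕ} {K : Type*} [CommRing K]
    (f : Fin n → Fin n → Fin n → Fin n → K) :
    ∑ c, ∑ d, ∑ a, ∑ b, f c d a b = ∑ a, ∑ b, ∑ c, ∑ d, f c d a b := by
  calc ∑ c, ∑ d, ∑ a, ∑ b, f c d a b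
      = ∑ c, ∑ a, ∑ d, ∑ b, f c d a b := Finset.sum_congr rfl fun c _ => Finset.sum_comm
    _ = ∑ a, ∑ c, ∑ d, ∑ b, f c d a b := Finset.sum_comm
    _ = ∑ a, ∑ c, ∑ b, ∑ d, f c d a b :=
        Finset.sum_congr rfl fun a _ => Finset.sum_congr rfl fun c _ => Finset.sum_comm
    _ = ∑ a, ∑ b, ∑ c, ∑ d, f c d a b := Finset.sum_congr rfl fun a _ => Finset.sum_comm

/-- PIECE E -/
theorem presT_of_tensor {n : ℕ} {K : Type*} [CommRing K] (T : Fin n → Fin n → Fin n → K)
    (M : Matrix (Fin n) (Fin n) K)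
    (h : ∀ a b i, ∑ c, ∑ d, M c a * M d b * T c d i = ∑ k, M i k * T a b k) :
    PresT T M := by
  intro u v
  funext i
  have hL : bilT T (M.mulVec u) (M.mulVec v) i
      = ∑ c, ∑ d, (∑ a, M c a * u a) * (∑ b, M d b * v b) * T c d i := rfl
  have hR : M.mulVec (bilT T u v) i = ∑ k, M i k * (∑ a, ∑ b, u a * v b * T a b k) := rfl
  rw [hL, hR]
  have e1 : ∑ c, ∑ d, (∑ a, M c a * u a) * (∑ b, M d b * v b) * T c d i
      = ∑ c, ∑ d, ∑ a, ∑ b, u a * v b * (M c a * M d b * T c d i) := by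
    refine Finset.sum_congr rfl fun c _ => Finset.sum_congr rfl fun d _ => ?_
    rw [Finset.sum_mul_sum, Finset.sum_mul]
    refine Finset.sum_congr rfl fun a _ => ?_
    rw [Finset.sum_mul]
    refine Finset.sum_congr rfl fun b _ => ?_
    ring
  have e2 : ∑ a, ∑ b, ∑ c, ∑ d, u a * v b * (M c a * M d b * T c d i)
      = ∑ a, ∑ b, u a * v b * ∑ k, M i k * T a b k := by
    refine Finset.sum_congr rfl fun a _ => Finset.sum_congr rfl fun b _ => ?_
    rw [← h a b i, Finset.mul_sum]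
    refine Finset.sum_congr rfl fun c _ => ?_
    rw [Finset.mul_sum]
  have e3 : ∑ k, M i k * (∑ a, ∑ b, u a * v b * T a b k)
      = ∑ a, ∑ b, u a * v b * ∑ k, M i k * T a b k := by
    have e4 : ∑ k, M i k * (∑ a, ∑ b, u a * v b * T a b k)
        = ∑ k, ∑ a, ∑ b, u a * v b * (M i k * T a b k) := by
      refine Finset.sum_congr rfl fun k _ => ?_
      rw [Finset.mul_sum]
      refine Finset.sum_congr rfl fun a _ => ?_
      rw [Finset.mul_sum]
      refine Finset.sum_congr rfl fun b _ => ?_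
      ring
    rw [e4, Finset.sum_comm]
    refine Finset.sum_congr rfl fun a _ => ?_
    rw [Finset.sum_comm]
    refine Finset.sum_congr rfl fun b _ => ?_
    rw [Finset.mul_sum]
  rw [e1, presT_sum4_comm, e2, e3]

end Cfsg.Agent.Lib.helper91
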