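import Cfsg.Agent.Lib.helper91.S4409_AV1core
import Cfsg.Agent.Lib.helper12.S4409_KFU
import Cfsg.Agent.Lib.helper83.S4409_KFN
import Cfsg.Agent.Lib.helper9.S4409_T1V
import Cfsg.Agent.Lib.helper16.S4409_QZ

/-!
# S4409, piece AV1 (verbatim statement under a prefixed name; the canonical `av1` is in helper26.S4409_W_AV1): `helper91_av1_core` with KF (= KFU + KFN), T1V, QZ
plugged in.
-/

set_option autoImplicit false

namespace Cfsg.Agent.Lib.helper26.S4409

variable {G : Type*} [Group G]

theorem helper91_av1 [Finite G] (X H K : Subgroup G) (hM : MinSet X H) (hKX : K ≤ X)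
    (hXK : X ≤ Subgroup.normalizer (K : Set G)) (hHK : H ≤ Subgroup.normalizer (K : Set G))
    (hV : IsV4 K) (g : G) (hg : g ∈ H) (hgc : g ∉ Subgroup.centralizer (K : Set G)) :
    X ≤ Subgroup.centralizer (K : Set G) :=
  helper91_av1_core X H K hM hKX hXK hHK hV g hg hgc
    (fun Y hY hN g hg hodd hnc => by
      by_cases hU : Cfsg.Agent.Lib.helper59.UniqueOrderP 2 ↥Y
      · exact Or.inr (kfu Y hY hU g hg hodd hnc)
      · exact Or.inl (kfn Y hY hN hU g hg hodd hnc))
    (fun X Q hX hQX hn hV hC => t1v X Q hX hQX hn hV hC)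
    (fun M hQ => qz M hQ)

end Cfsg.Agent.Lib.helper26.S4409
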