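import Cfsg.Agent.Lib.helper26.S4409Defs

/-!
# S4409, piece T1V (racer copy by helper91): a 2-group with a self-centralizing normal four-group
has no abelian subgroup of order 8.
-/

set_option autoImplicit false

namespace Cfsg.Agent.Lib.helper26.S4409

variable {G : Type*} [Group G]

theorem helper91_t1v [Finite G] (X Q : Subgroup G) (hX : IsPGroup 2 ↥X) (hQX : Q ≤ X)
    (hn : X ≤ Subgroup.normalizer (Q : Set G)) (hV : IsV4 Q)
    (hC : X ⊓ Subgroup.centralizer (Q : Set G) ≤ Q) : NoP X := by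
  classical
  intro A hAX hAc hA8
  exfalso
  -- conjugation action of `A` on the non-identity elements of `Q`
  let S : Set G := (Q : Set G) \ {1}
  have hconj : ∀ (a : ↥A) (q : ↥S), (a : G) * q.1 * (a : G)⁻¹ ∈ S := by
    intro a q
    refine ⟨(Subgroup.mem_normalizer_iff.mp (hn (hAX a.2)) q.1).mp q.2.1, ?_⟩
    intro h1
    apply q.2.2
    have h2 : (a : G) * q.1 * (a : G)⁻¹ = 1 := h1
    have h3 : q.1 = (a : G)⁻¹ * ((a : G) * q.1 * (a : G)⁻¹) * (a : G) := by group
    rw [h2] at h3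
    rw [h3]
    simp
  let iact : MulAction ↥A ↥S :=
    { smul := fun a q => ⟨(a : G) * q.1 * (a : G)⁻¹, hconj a q⟩
      one_smul := fun q => Subtype.ext (by
        change ((1 : ↥A) : G) * q.1 * ((1 : ↥A) : G)⁻¹ = q.1
        simp)
      mul_smul := fun a b q => Subtype.ext (by
        change ((a * b : ↥A) : G) * q.1 * ((a * b : ↥A) : G)⁻¹
          = (a : G) * ((b : G) * q.1 * (b : G)⁻¹) * (a : G)⁻¹
        rw [Subgroup.coe_mul]
        group) }
  have hsmul : ∀ (a : ↥A) (q : ↥S), ((a • q : ↥S) : G) = (a : G) * q.1 * (a : G)⁻¹ := fun a q => rfl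
  let φ : ↥A →* Equiv.Perm ↥S := MulAction.toPermHom ↥A ↥S
  have hS3 : Nat.card ↥S = 3 := by
    rw [Nat.card_coe_set_eq, Set.ncard_sdiff_singleton_of_mem (Q.one_mem),
      ← Nat.card_coe_set_eq]
    have h4 : Nat.card ↥(Q : Set G) = 4 := hV.1
    rw [h4]
  have hperm : Nat.card (Equiv.Perm ↥S) = 6 := by
    rw [Nat.card_perm, hS3]
    rfl
  have hr6 : Nat.card ↥φ.range ∣ 6 := by
    rw [← hperm]
    exact Subgroup.card_subgroup_dvd_card φ.range
  have hmul : Nat.card ↥φ.ker * Nat.card ↥φ.range = 8 := by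
    rw [← Subgroup.index_ker, Subgroup.card_mul_index, hA8]
  have hker4 : 4 ≤ Nat.card ↥φ.ker := by
    have hr8 : Nat.card ↥φ.range ∣ 8 := Dvd.intro_left _ hmul
    have hr2 : Nat.card ↥φ.range ∣ 2 := by
      have h1 := Nat.dvd_gcd hr6 hr8
      have h2 : Nat.gcd 6 8 = 2 := by norm_num
      rwa [h2] at h1
    have hrle : Nat.card ↥φ.range ≤ 2 := Nat.le_of_dvd (by norm_num) hr2
    nlinarith
  -- elements of the kernel centralize `Q`
  have hkerC : ∀ a : ↥A, a ∈ φ.ker → (a : G) ∈ Subgroup.centralizer (Q : Set G) := by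
    intro a ha
    rw [Subgroup.mem_centralizer_iff]
    intro q hq
    by_cases hq1 : q = 1
    · subst hq1
      simp
    · have hqS : q ∈ S := ⟨hq, hq1⟩
      have h1 : φ a ⟨q, hqS⟩ = ⟨q, hqS⟩ := by
        rw [MonoidHom.mem_ker.mp ha]
        rfl
      have h2 : (a : G) * q * (a : G)⁻¹ = q := congrArg Subtype.val h1
      calc q * (a : G) = ((a : G) * q * (a : G)⁻¹) * (a : G) := by rw [h2]
        _ = (a : G) * q := by group
  set B : Subgroup G := φ.ker.map A.subtype with hB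
  have hBQ : B ≤ Q := by
    rintro _ ⟨a, ha, rfl⟩
    exact hC (Subgroup.mem_inf.mpr ⟨hAX a.2, hkerC a ha⟩)
  have hBcard : Nat.card ↥B = Nat.card ↥φ.ker :=
    Subgroup.card_map_of_injective (Subgroup.subtype_injective A)
  have hBeq : B = Q := Subgroup.eq_of_le_of_card_ge hBQ (by rw [hBcard, hV.1]; exact hker4)
  have hQA : Q ≤ A := by
    rw [← hBeq]
    rintro _ ⟨a, -, rfl⟩
    exact a.2
  have hAQ : A ≤ Q := by
    intro a ha
    apply hC
    refine Subgroup.mem_inf.mpr ⟨hAX ha, ?_⟩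
    rw [Subgroup.mem_centralizer_iff]
    intro q hq
    exact setLike_mul_comm (hQA hq) ha
  have h8 : Nat.card ↥A ≤ Nat.card ↥Q := Subgroup.card_le_of_le hAQ
  rw [hA8, hV.1] at h8
  omega

end Cfsg.Agent.Lib.helper26.S4409
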