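import Mathlib
import Cfsg.Agent.S2530

set_option autoImplicit false

/-! Homomorphisms from `Perm (Fin 5)` given by four involutions with the `A₄` Coxeter relations,
and their injectivity. -/

namespace Cfsg.Agent.Lib.helper91

section S5Hom
variable {G : Type*} [Group G]

theorem s5_rev_pow {x y : G} (n : ℕ) (hx : x * x = 1) (hy : y * y = 1) (hxy : (x * y) ^ n = 1) :
    (y * x) ^ n = 1 := by
  have : y * x = (x * y)⁻¹ := by
    apply eq_inv_of_mul_eq_one_left
    rw [mul_assoc, ← mul_assoc x x y, hx, one_mul, hy]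
  rw [this, inv_pow, hxy, inv_one]

/-- Four involutions `a, b, c, d` with the Coxeter relations of type `A₄` (string `a — b — c — d`)
give a homomorphism from the symmetric group of degree 5 sending the adjacent transpositions to
them. -/
theorem s5_hom {a b c d : G} (ha : a * a = 1) (hb : b * b = 1) (hc : c * c = 1) (hd : d * d = 1)
    (hab : (a * b) ^ 3 = 1) (hbc : (b * c) ^ 3 = 1) (hcd : (c * d) ^ 3 = 1)
    (hac : (a * c) ^ 2 = 1) (had : (a * d) ^ 2 = 1) (hbd : (b * d) ^ 2 = 1) :
    ∃ φ : Equiv.Perm (Fin 5) →* G, φ (Equiv.swap 0 1) = a ∧ φ (Equiv.swap 1 2) = b ∧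
      φ (Equiv.swap 2 3) = c ∧ φ (Equiv.swap 3 4) = d := by
  obtain ⟨cs, hcs⟩ := Cfsg.Agent.S2530.result 4
  have hM : ∀ i j : Fin 4, (CoxeterMatrix.A 4) i j = if i = j then 1 else
      if (j : ℕ) + 1 = i ∨ (i : ℕ) + 1 = j then 3 else 2 := fun i j => rfl
  have hlift : (CoxeterMatrix.A 4).IsLiftable ![a, b, c, d] := by
    intro i j
    rw [hM]
    fin_cases i <;> fin_cases j
    · simpa using ha
    · simpa using hab
    · simpa using hac
    · simpa using had
    · simpa using s5_rev_pow 3 ha hb hab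
    · simpa using hb
    · simpa using hbc
    · simpa using hbd
    · simpa using s5_rev_pow 2 ha hc hac
    · simpa using s5_rev_pow 3 hb hc hbc
    · simpa using hc
    · simpa using hcd
    · simpa using s5_rev_pow 2 ha hd had
    · simpa using s5_rev_pow 2 hb hd hbd
    · simpa using s5_rev_pow 3 hc hd hcd
    · simpa using hd
  refine ⟨cs.lift ⟨_, hlift⟩, ?_, ?_, ?_, ?_⟩
  · have h : cs.lift ⟨_, hlift⟩ (cs.simple 0) = a := by rw [cs.lift_apply_simple]; rfl
    rw [hcs 0] at h
    exact h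
  · have h : cs.lift ⟨_, hlift⟩ (cs.simple 1) = b := by rw [cs.lift_apply_simple]; rfl
    rw [hcs 1] at h
    exact h
  · have h : cs.lift ⟨_, hlift⟩ (cs.simple 2) = c := by rw [cs.lift_apply_simple]; rfl
    rw [hcs 2] at h
    exact h
  · have h : cs.lift ⟨_, hlift⟩ (cs.simple 3) = d := by rw [cs.lift_apply_simple]; rfl
    rw [hcs 3] at h
    exact h

/-- A central element of `Perm (Fin 5)` is trivial. -/
theorem perm5_central_eq_one (k : Equiv.Perm (Fin 5))
    (hk : ∀ g : Equiv.Perm (Fin 5), k * g = g * k) : k = 1 := by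
  have key : ∀ i j : Fin 5, i ≠ j → k i = i ∨ k i = j := by
    intro i j hij
    have h := congrArg (fun f : Equiv.Perm (Fin 5) => f i) (hk (Equiv.swap i j))
    simp only [Equiv.Perm.coe_mul, Function.comp_apply, Equiv.swap_apply_left] at h
    by_contra hcon
    push Not at hcon
    rw [Equiv.swap_apply_of_ne_of_ne hcon.1 hcon.2] at h
    exact hij (k.injective h).symm
  ext i
  simp only [Equiv.Perm.coe_one, id_eq]
  congr 1
  obtain ⟨j, l, hj, hl, hjl⟩ : ∃ j l : Fin 5, i ≠ j ∧ i ≠ l ∧ j ≠ l := by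
    revert i
    decide
  rcases key i j hj with h | h
  · exact h
  · rcases key i l hl with h' | h'
    · exact h'
    · exact absurd (h.symm.trans h') hjl

/-- A homomorphism from `Perm (Fin 5)` separating two adjacent transpositions is injective. -/
theorem s5_hom_injective (φ : Equiv.Perm (Fin 5) →* G)
    (h : φ (Equiv.swap 0 1) ≠ φ (Equiv.swap 1 2)) : Function.Injective φ := by
  rw [← MonoidHom.ker_eq_bot_iff]
  have hs : IsSimpleGroup (alternatingGroup (Fin 5)) := alternatingGroup.isSimpleGroup (by simp)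
  have hn : (φ.ker.subgroupOf (alternatingGroup (Fin 5))).Normal := inferInstance
  have hmem : (Equiv.swap (0 : Fin 5) 1 * Equiv.swap 1 2) ∈ alternatingGroup (Fin 5) := by
    rw [Equiv.Perm.mem_alternatingGroup]
    decide
  rcases hn.eq_bot_or_eq_top with h0 | h0
  · rw [eq_bot_iff]
    intro k hk
    rw [Subgroup.mem_bot]
    apply perm5_central_eq_one
    intro g
    have hc : k * g * k⁻¹ * g⁻¹ ∈ φ.ker := by
      have h1 : g * k⁻¹ * g⁻¹ ∈ φ.ker := (MonoidHom.normal_ker φ).conj_mem _ (inv_mem hk) g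
      have h2 := mul_mem hk h1
      have e : k * (g * k⁻¹ * g⁻¹) = k * g * k⁻¹ * g⁻¹ := by group
      rwa [e] at h2
    have ha : k * g * k⁻¹ * g⁻¹ ∈ alternatingGroup (Fin 5) := by
      rw [Equiv.Perm.mem_alternatingGroup]
      simp only [map_mul, map_inv, Int.units_inv_eq_self]
      rw [mul_assoc]
      exact Int.units_mul_self _
    have h3 : (⟨k * g * k⁻¹ * g⁻¹, ha⟩ : alternatingGroup (Fin 5)) ∈
        φ.ker.subgroupOf (alternatingGroup (Fin 5)) := by
      rw [Subgroup.mem_subgroupOf]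
      exact hc
    rw [h0, Subgroup.mem_bot] at h3
    have h4 : k * g * k⁻¹ * g⁻¹ = 1 := congrArg Subtype.val h3
    calc k * g = (k * g * k⁻¹ * g⁻¹) * (g * k) := by group
      _ = g * k := by rw [h4, one_mul]
  · exfalso
    have h3 : (⟨_, hmem⟩ : alternatingGroup (Fin 5)) ∈
        φ.ker.subgroupOf (alternatingGroup (Fin 5)) := by
      rw [h0]
      trivial
    rw [Subgroup.mem_subgroupOf, MonoidHom.mem_ker, map_mul] at h3
    apply h
    have hsq : φ (Equiv.swap 1 2) * φ (Equiv.swap (1 : Fin 5) 2) = 1 := by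
      rw [← map_mul, Equiv.swap_mul_self, map_one]
    calc φ (Equiv.swap 0 1) = φ (Equiv.swap 0 1) * (φ (Equiv.swap 1 2) * φ (Equiv.swap (1 : Fin 5) 2)) := by
          rw [hsq, mul_one]
      _ = (φ (Equiv.swap 0 1) * φ (Equiv.swap 1 2)) * φ (Equiv.swap (1 : Fin 5) 2) := by group
      _ = φ (Equiv.swap 1 2) := by rw [h3, one_mul]

end S5Hom

end Cfsg.Agent.Lib.helper91
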