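import Cfsg.Agent.Lib.helper24.S6eDefs

/-!
# S6002, piece AAVG (racer copy by helper91): Schur averaging over an absolutely irreducible
group of order 32 in dimension 4.
-/

set_option autoImplicit false

namespace Cfsg.Agent.Lib.helper24

open Matrix Cfsg Cfsg.Geo

theorem helper91_s6_avg {F : Type*} [Field F] [Fintype F] (h2 : (2 : F) ≠ 0) (R : Subgroup (GL S6I F))
    (hRi : ActsAbsolutelyIrreducibly (matrixSet R)) (hR5 : Nat.card R = 32) (A : Matrix S6I S6I F) :
    ∑ᶠ s : R, ((s : GL S6I F) : Matrix S6I S6I F) * A * (((s : GL S6I F)⁻¹ : GL S6I F) : Matrix S6I S6I F) =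
      (8 * Matrix.trace A) • (1 : Matrix S6I S6I F) := by
  classical
  have : Fintype ↥R := Fintype.ofFinite ↥R
  rw [finsum_eq_sum_of_fintype]
  set T : Matrix S6I S6I F := ∑ s : ↥R, ((s : GL S6I F) : Matrix S6I S6I F) * A *
    (((s : GL S6I F)⁻¹ : GL S6I F) : Matrix S6I S6I F) with hT
  have hcomm : ∀ M ∈ matrixSet R, T * M = M * T := by
    rintro _ ⟨t, ht, rfl⟩
    have key : (t : Matrix S6I S6I F) * T * ((t⁻¹ : GL S6I F) : Matrix S6I S6I F) = T := by
      rw [hT, Finset.mul_sum, Finset.sum_mul]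
      refine Fintype.sum_equiv (Equiv.mulLeft (⟨t, ht⟩ : ↥R)) _ _ ?_
      intro s
      simp only [Equiv.coe_mulLeft, Subgroup.coe_mul, _root_.mul_inv_rev, Units.val_mul]
      simp only [Matrix.mul_assoc]
    calc T * (t : Matrix S6I S6I F)
        = ((t : Matrix S6I S6I F) * T * ((t⁻¹ : GL S6I F) : Matrix S6I S6I F)) *
            (t : Matrix S6I S6I F) := by rw [key]
      _ = (t : Matrix S6I S6I F) * T := by
        rw [Matrix.mul_assoc, ← Units.val_mul, inv_mul_cancel, Units.val_one, Matrix.mul_one]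
  obtain ⟨c, hc⟩ := hRi.2 T hcomm
  have htr : Matrix.trace T = 32 * Matrix.trace A := by
    rw [hT, Matrix.trace_sum]
    have h1 : ∀ s : ↥R, Matrix.trace (((s : GL S6I F) : Matrix S6I S6I F) * A *
        (((s : GL S6I F)⁻¹ : GL S6I F) : Matrix S6I S6I F)) = Matrix.trace A := by
      intro s
      rw [Matrix.trace_mul_cycle, ← Units.val_mul, inv_mul_cancel, Units.val_one, Matrix.one_mul]
    rw [Finset.sum_congr rfl (fun s _ => h1 s), Finset.sum_const, Finset.card_univ,
      ← Nat.card_eq_fintype_card, hR5]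
    simp
  have htr2 : Matrix.trace T = 4 * c := by
    rw [hc, Matrix.trace_smul, Matrix.trace_one]
    simp only [S6I, Fintype.card_sum, Fintype.card_fin, smul_eq_mul]
    push_cast
    ring
  have h4 : (4 : F) ≠ 0 := by
    have h5 : (4 : F) = 2 * 2 := by norm_num
    rw [h5]
    exact mul_ne_zero h2 h2
  have hc8 : c = 8 * Matrix.trace A := by
    have h5 : 4 * c = 4 * (8 * Matrix.trace A) := by
      rw [← htr2, htr]
      ring
    exact mul_left_cancel₀ h4 h5
  rw [hc, hc8]

end Cfsg.Agent.Lib.helper24
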