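import Cfsg.Agent.Lib.helper24.S6eDefs
import Cfsg.Agent.Lib.helper54.S6eBSC

/-!
# S6002, piece ACEN (racer copy by helper91): the centre of `R` is `{1, -1}`.
-/

set_option autoImplicit false

namespace Cfsg.Agent.Lib.helper24

open Matrix Cfsg Cfsg.Geo

theorem helper91_s6_center {F : Type*} [Field F] (h2 : (2 : F) ≠ 0) (R : Subgroup (GL S6I F))
    (hRi : ActsAbsolutelyIrreducibly (matrixSet R)) (hRf : R ≤ spGL 2 F)
    (hRZ : Nat.card (Subgroup.center R) = 2) :
    (∃ z ∈ R, (z : Matrix S6I S6I F) = -1) ∧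
    ∀ s ∈ R, (∀ t ∈ R, s * t = t * s) → ((s : Matrix S6I S6I F) = 1 ∨ (s : Matrix S6I S6I F) = -1) := by
  have key : ∀ s ∈ R, (∀ t ∈ R, s * t = t * s) →
      ((s : Matrix S6I S6I F) = 1 ∨ (s : Matrix S6I S6I F) = -1) := by
    intro s hs hc
    have hcomm : ∀ M ∈ matrixSet R, (s : Matrix S6I S6I F) * M = M * (s : Matrix S6I S6I F) := by
      rintro _ ⟨t, ht, rfl⟩
      have h1 := congrArg (fun g : GL S6I F => (g : Matrix S6I S6I F)) (hc t ht)
      simpa using h1
    obtain ⟨c, hcs⟩ := hRi.2 _ hcomm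
    have h3 : (s : Matrix S6I S6I F) ^ 1 = c • (1 : Matrix S6I S6I F) := by rw [pow_one, hcs]
    rcases s6_scalar_pm s (hRf hs) 1 c h3 with h | h
    · left
      rw [hcs, h, one_smul]
    · right
      rw [hcs, h]
      simp
  refine ⟨?_, key⟩
  -- a central element different from 1
  have hnt : Nontrivial ↥(Subgroup.center ↥R) := by
    have : Finite ↥(Subgroup.center ↥R) := Nat.finite_of_card_ne_zero (by rw [hRZ]; norm_num)
    exact Finite.one_lt_card_iff_nontrivial.mp (by rw [hRZ]; norm_num)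
  obtain ⟨w, hw⟩ := exists_ne (1 : ↥(Subgroup.center ↥R))
  have hwc : ∀ t ∈ R, ((w : ↥R) : GL S6I F) * t = t * ((w : ↥R) : GL S6I F) := by
    intro t ht
    have h1 := Subgroup.mem_center_iff.mp w.2 ⟨t, ht⟩
    exact (congrArg Subtype.val h1).symm
  refine ⟨((w : ↥R) : GL S6I F), (w : ↥R).2, ?_⟩
  rcases key _ (w : ↥R).2 hwc with h | h
  · exfalso
    apply hw
    apply Subtype.ext
    apply Subtype.ext
    apply Units.ext
    exact h
  · exact h

end Cfsg.Agent.Lib.helper24
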