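import Cfsg.Agent.Lib.helper24.S6eDefs
import Cfsg.Agent.Lib.helper3.PGroupNormal

/-!
# S6002, piece B5S (core): elements of order 5 of `Sp_4(F)` are conjugate to powers of each other,
given the "no `Z5 × Z5`" statement B5C as a hypothesis.
-/

set_option autoImplicit false

namespace Cfsg.Agent.Lib.helper24

open Matrix Cfsg Cfsg.Geo

theorem helper91_s6_five_conj_core {F : Type*} [Field F] [Fintype F]
    (hB5C : ∀ (a b : Matrix S6I S6I F), a ^ 5 = 1 → b ^ 5 = 1 → a ≠ 1 → a * b = b * a →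
      ∃ k : ℕ, b = a ^ k)
    (x h : GL S6I F) (hx : x ∈ spGL 2 F)
    (hh : h ∈ spGL 2 F) (hx5 : x ^ 5 = 1) (hx1 : x ≠ 1) (hh5 : h ^ 5 = 1) (hh1 : h ≠ 1) :
    ∃ g ∈ spGL 2 F, ∃ k : ℕ, g⁻¹ * x * g = h ^ k := by
  classical
  have : Fact (Nat.Prime 5) := ⟨by norm_num⟩
  set S : Subgroup (GL S6I F) := spGL 2 F with hSdef
  let mat : ↥S →* Matrix S6I S6I F := (Units.coeHom (Matrix S6I S6I F)).comp S.subtype
  have mat_inj : Function.Injective mat := by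
    intro a b hab
    exact Subtype.ext (Units.ext hab)
  let hS : ↥S := ⟨h, hh⟩
  let xS : ↥S := ⟨x, hx⟩
  have hS5 : hS ^ 5 = 1 := Subtype.ext hh5
  have hS1 : hS ≠ 1 := fun e => hh1 (congrArg Subtype.val e)
  have xS5 : xS ^ 5 = 1 := Subtype.ext hx5
  have xS1 : xS ≠ 1 := fun e => hx1 (congrArg Subtype.val e)
  have hPg : ∀ w : ↥S, w ^ 5 = 1 → IsPGroup 5 ↥(Subgroup.zpowers w) := by
    intro w hw y
    refine ⟨1, ?_⟩
    obtain ⟨y, n, rfl⟩ := y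
    apply Subtype.ext
    change (w ^ n) ^ 5 ^ 1 = 1
    rw [pow_one, ← zpow_natCast, ← _root_.zpow_mul, mul_comm, _root_.zpow_mul, zpow_natCast, hw, _root_.one_zpow]
  obtain ⟨P, hP⟩ := (hPg hS hS5).exists_le_sylow
  obtain ⟨Q, hQ⟩ := (hPg xS xS5).exists_le_sylow
  obtain ⟨g, hg⟩ := MulAction.exists_smul_eq ↥S Q P
  have hhP : hS ∈ (P : Subgroup ↥S) := hP (Subgroup.mem_zpowers hS)
  have hxQ : xS ∈ (Q : Subgroup ↥S) := hQ (Subgroup.mem_zpowers xS)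
  have hx'P : g * xS * g⁻¹ ∈ (P : Subgroup ↥S) := by
    rw [← hg, Sylow.coe_subgroup_smul]
    exact ⟨xS, hxQ, rfl⟩
  have hPne : (⊤ : Subgroup ↥(P : Subgroup ↥S)) ≠ ⊥ := by
    intro e
    have h1 : (⟨hS, hhP⟩ : ↥(P : Subgroup ↥S)) ∈ (⊥ : Subgroup ↥(P : Subgroup ↥S)) :=
      e ▸ Subgroup.mem_top _
    rw [Subgroup.mem_bot] at h1
    exact hS1 (congrArg Subtype.val h1)
  obtain ⟨zP, -, hzc, hz1, hz5⟩ :=
    Cfsg.Agent.Lib.helper3.exists_central_of_normal_ne_bot P.isPGroup' ⊤ hPne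
  have hz1' : (zP : ↥S) ≠ 1 := fun e => hz1 (Subtype.ext e)
  have hz5' : (zP : ↥S) ^ 5 = 1 := by
    have h1 := congrArg Subtype.val hz5
    simpa using h1
  have hzcomm : ∀ w ∈ (P : Subgroup ↥S), (zP : ↥S) * w = w * (zP : ↥S) := by
    intro w hw
    have h1 := Subgroup.mem_center_iff.mp hzc ⟨w, hw⟩
    exact (congrArg Subtype.val h1).symm
  have hmat1 : ∀ w : ↥S, w ≠ 1 → mat w ≠ 1 := fun w hw e => hw (mat_inj (by rw [e, map_one]))
  have hmat5 : ∀ w : ↥S, w ^ 5 = 1 → mat w ^ 5 = 1 := fun w hw => by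
    rw [← map_pow, hw, map_one]
  obtain ⟨k, hk⟩ := hB5C (mat hS) (mat (zP : ↥S)) (hmat5 _ hS5) (hmat5 _ hz5') (hmat1 _ hS1)
    (by rw [← map_mul, ← map_mul, hzcomm hS hhP])
  have hx'5 : (g * xS * g⁻¹) ^ 5 = 1 := by
    rw [conj_pow, xS5]
    group
  obtain ⟨j, hj⟩ := hB5C (mat (zP : ↥S)) (mat (g * xS * g⁻¹)) (hmat5 _ hz5') (hmat5 _ hx'5)
    (hmat1 _ hz1') (by rw [← map_mul, ← map_mul, hzcomm _ hx'P])
  have hfin : g * xS * g⁻¹ = hS ^ (k * j) := by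
    apply mat_inj
    rw [hj, hk, map_pow, pow_mul]
  refine ⟨((g⁻¹ : ↥S) : GL S6I F), (g⁻¹ : ↥S).2, k * j, ?_⟩
  have h1 := congrArg Subtype.val hfin
  simpa using h1

end Cfsg.Agent.Lib.helper24
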