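import Mathlib
import Cfsg.Agent.Lib.helper69.SNDefs

/-!
# S4073, piece E1-B (insurance copy by helper91)

`h91_sn_sylow2_fusion_noncenter` is the Skel statement `sn_sylow2_fusion_noncenter` verbatim.
-/

set_option autoImplicit false

namespace Cfsg.Agent.Lib.helper91.SNG

open Cfsg.Agent.Lib.helper69.SNG

open scoped Pointwise

universe u

/-- A subgroup of index two is normalized by the overgroup (cardinality form). -/
theorem h91_le_normalizer_of_two_mul_card {G : Type u} [Group G] [Finite G] (M X : Subgroup G)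
    (hMX : M ≤ X) (hc : 2 * Nat.card M = Nat.card X) :
    X ≤ Subgroup.normalizer (M : Set G) := by
  have h1 : Nat.card (M.subgroupOf X) = Nat.card M :=
    Nat.card_congr (Subgroup.subgroupOfEquivOfLe hMX).toEquiv
  have h2 := (M.subgroupOf X).card_mul_index
  rw [h1] at h2
  have hpos : 0 < Nat.card M := Nat.card_pos
  have h3 : (M.subgroupOf X).index = 2 := by
    have : Nat.card M * (M.subgroupOf X).index = Nat.card M * 2 := by rw [h2, ← hc]; ring
    exact Nat.eq_of_mul_eq_mul_left hpos this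
  have hn : (M.subgroupOf X).Normal := Subgroup.normal_of_index_eq_two h3
  exact (Subgroup.normal_subgroupOf_iff_le_normalizer hMX).mp hn

/-- **[E1-B]** (verbatim Skel statement of `sn_sylow2_fusion_noncenter`). -/
theorem h91_sn_sylow2_fusion_noncenter {G : Type u} [Group G] [Finite G] [IsSimpleGroup G]
    (hna : ¬ IsMulCommutative G) (h : SN G) (S : Sylow 2 G) (hS : ¬ IsMulCommutative S)
    (hP2N : ∀ (K : Subgroup G), K ≠ ⊤ → ∀ T : Sylow 2 G, (T : Subgroup G) ≤ K →
      ∃ O : Subgroup G, O ≤ K ∧ K ≤ Subgroup.normalizer (O : Set G) ∧ Odd (Nat.card O) ∧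
        O ⊔ (T : Subgroup G) = K)
    (z : G) (hzS : z ∈ S) (hz1 : z ≠ 1)
    (hz : z ∈ Subgroup.centralizer ((S : Subgroup G) : Set G)) (g : G)
    (hgS : g * z * g⁻¹ ∈ S)
    (hM : 2 * Nat.card ↥((S : Subgroup G) ⊓ Subgroup.centralizer ({g * z * g⁻¹} : Set G))
      = Nat.card S) : False := by
  have hfact : Fact (Nat.Prime 2) := ⟨Nat.prime_two⟩
  obtain ⟨z', hz'⟩ : ∃ z' : G, z' = g * z * g⁻¹ := ⟨_, rfl⟩
  rw [← hz'] at hgS hM
  obtain ⟨L, hL⟩ : ∃ L : Subgroup G, L = Subgroup.centralizer ({z'} : Set G) := ⟨_, rfl⟩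
  rw [← hL] at hM
  obtain ⟨M₁, hM₁⟩ : ∃ M₁ : Subgroup G, M₁ = (S : Subgroup G) ⊓ L := ⟨_, rfl⟩
  rw [← hM₁] at hM
  have hM' : 2 * Nat.card M₁ = Nat.card (S : Subgroup G) := hM
  have hLmem : ∀ x : G, x ∈ L ↔ z' * x = x * z' := by
    intro x
    rw [hL, Subgroup.mem_centralizer_iff]
    constructor
    · intro hx
      exact hx z' rfl
    · intro hx y hy
      rw [Set.mem_singleton_iff] at hy
      rw [hy]
      exact hx
  have hz'1 : z' ≠ 1 := by
    intro h1
    apply hz1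
    have : z = g⁻¹ * z' * g := by rw [hz']; group
    rw [this, h1]; group
  have hz'L : z' ∈ L := (hLmem z').mpr rfl
  have hz'M : z' ∈ M₁ := by rw [hM₁]; exact ⟨hgS, hz'L⟩
  have hM₁S : M₁ ≤ (S : Subgroup G) := by rw [hM₁]; exact inf_le_left
  have hM₁L : M₁ ≤ L := by rw [hM₁]; exact inf_le_right
  -- the conjugate Sylow subgroup `g • S` lies in `L`
  have hS₁L : ((g • S : Sylow 2 G) : Subgroup G) ≤ L := by
    intro x hx
    rw [Sylow.coe_subgroup_smul, Subgroup.mem_pointwise_smul_iff_inv_smul_mem] at hx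
    have hx' : g⁻¹ * x * g ∈ (S : Subgroup G) := by
      simpa [MulAut.smul_def, MulAut.conj_inv_apply] using hx
    have e := (Subgroup.mem_centralizer_iff.mp hz) (g⁻¹ * x * g) hx'
    rw [hLmem]
    calc z' * x = g * (z * (g⁻¹ * x * g)) * g⁻¹ := by rw [hz']; group
      _ = g * (g⁻¹ * x * g * z) * g⁻¹ := by rw [e]
      _ = x * z' := by rw [hz']; group
  -- a Sylow 2-subgroup of `L` containing `M₁`
  have hMp : IsPGroup 2 (M₁.subgroupOf L) := by
    have h2 : IsPGroup 2 M₁ := S.isPGroup'.to_le hM₁S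
    exact h2.comap_subtype
  obtain ⟨R, hR⟩ := hMp.exists_le_sylow
  obtain ⟨S₂, hS₂⟩ : ∃ S₂ : Subgroup G, S₂ = (R : Subgroup L).map L.subtype := ⟨_, rfl⟩
  have hM₁S₂ : M₁ ≤ S₂ := by
    intro m hm
    rw [hS₂]
    exact ⟨⟨m, hM₁L hm⟩, hR (Subgroup.mem_subgroupOf.mpr hm), rfl⟩
  have hS₂L : S₂ ≤ L := by
    rw [hS₂]
    rintro _ ⟨x, -, rfl⟩
    exact x.2
  have hS₂card : Nat.card S₂ = Nat.card (S : Subgroup G) := by
    have e1 : Nat.card S₂ = Nat.card (R : Subgroup L) := by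
      rw [hS₂]
      exact Subgroup.card_map_of_injective L.subtype_injective
    have e2 : Nat.card (R : Subgroup L) =
        Nat.card (((g • S : Sylow 2 G).subtype hS₁L : Sylow 2 L) : Subgroup L) := by
      have a1 := R.card_eq_multiplicity
      have a2 := ((g • S : Sylow 2 G).subtype hS₁L).card_eq_multiplicity
      exact a1.trans a2.symm
    have e3 : Nat.card (((g • S : Sylow 2 G).subtype hS₁L : Sylow 2 L) : Subgroup L) =
        Nat.card ((g • S : Sylow 2 G) : Subgroup G) := by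
      rw [Sylow.coe_subtype]
      exact Nat.card_congr (Subgroup.subgroupOfEquivOfLe hS₁L).toEquiv
    have e4 : Nat.card ((g • S : Sylow 2 G) : Subgroup G) = Nat.card (S : Subgroup G) := by
      have a1 := (g • S : Sylow 2 G).card_eq_multiplicity
      have a2 := S.card_eq_multiplicity
      exact a1.trans a2.symm
    rw [e1, e2, e3, e4]
  -- `S` and `S₂` normalize `M₁`
  have hSN : (S : Subgroup G) ≤ Subgroup.normalizer (M₁ : Set G) :=
    h91_le_normalizer_of_two_mul_card M₁ S hM₁S hM'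
  have hS₂N : S₂ ≤ Subgroup.normalizer (M₁ : Set G) :=
    h91_le_normalizer_of_two_mul_card M₁ S₂ hM₁S₂ (by rw [hS₂card]; exact hM')
  have hSpos : 0 < Nat.card (S : Subgroup G) := Nat.card_pos
  -- the normalizer of `M₁` is proper
  have hNtop : Subgroup.normalizer (M₁ : Set G) ≠ ⊤ := by
    intro htop
    have hnorm : M₁.Normal := Subgroup.normalizer_eq_top_iff.mp htop
    rcases IsSimpleGroup.eq_bot_or_eq_top_of_normal M₁ hnorm with hb | ht
    · apply hz'1
      have : z' ∈ (⊥ : Subgroup G) := hb ▸ hz'M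
      exact Subgroup.mem_bot.mp this
    · have hSt : (S : Subgroup G) = ⊤ := top_le_iff.mp (ht ▸ hM₁S)
      have hcc : Nat.card M₁ = Nat.card (S : Subgroup G) := by rw [ht, hSt]
      omega
  obtain ⟨O, hON, hNO, hOodd, hsup⟩ := hP2N _ hNtop S hSN
  have hcop : Nat.Coprime (Nat.card O) (Nat.card (S : Subgroup G)) := by
    have hk : Nat.card (S : Subgroup G) = 2 ^ (Nat.card G).factorization 2 :=
      S.card_eq_multiplicity
    rw [hk]
    exact Nat.Coprime.pow_right _ (Nat.coprime_two_right.mpr hOodd)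
  have hOS : O ⊓ (S : Subgroup G) = ⊥ := (Subgroup.disjoint_of_coprime_natCard hcop).eq_bot
  -- `O` centralizes `z'`
  have hOz : ∀ o ∈ O, o * z' = z' * o := by
    intro o ho
    have hoN : o ∈ Subgroup.normalizer (M₁ : Set G) := hON ho
    have hz'N : z' ∈ Subgroup.normalizer (O : Set G) := hNO (hSN hgS)
    have h1 : o * z' * o⁻¹ ∈ M₁ := (Subgroup.mem_normalizer_iff.mp hoN z').mp hz'M
    have h2 : z' * o⁻¹ * z'⁻¹ ∈ O := (Subgroup.mem_normalizer_iff.mp hz'N o⁻¹).mp (inv_mem ho)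
    have hc1 : o * z' * o⁻¹ * z'⁻¹ ∈ M₁ := mul_mem h1 (inv_mem hz'M)
    have hc2 : o * z' * o⁻¹ * z'⁻¹ ∈ O := by
      have e : o * z' * o⁻¹ * z'⁻¹ = o * (z' * o⁻¹ * z'⁻¹) := by group
      rw [e]
      exact mul_mem ho h2
    have hc : o * z' * o⁻¹ * z'⁻¹ ∈ O ⊓ (S : Subgroup G) := ⟨hc2, hM₁S hc1⟩
    rw [hOS, Subgroup.mem_bot] at hc
    calc o * z' = (o * z' * o⁻¹ * z'⁻¹) * (z' * o) := by group
      _ = z' * o := by rw [hc, one_mul]
  have hOL : O ≤ L := fun o ho => (hLmem o).mpr (hOz o ho).symm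
  have hsupL : O ⊔ S₂ ≤ L := sup_le hOL hS₂L
  have hsupN : O ⊔ S₂ ≤ Subgroup.normalizer (M₁ : Set G) := sup_le hON hS₂N
  -- counting: `O ⊔ S₂` is the whole normalizer
  have hNle : Nat.card (Subgroup.normalizer (M₁ : Set G)) ≤
      Nat.card O * Nat.card (S : Subgroup G) := by
    have hSO : (S : Subgroup G) ≤ Subgroup.normalizer (O : Set G) := hSN.trans hNO
    have hset := Subgroup.coe_mul_of_right_le_normalizer_left O (S : Subgroup G) hSO
    rw [hsup] at hset
    have hle : Nat.card (((O : Set G) * ((S : Subgroup G) : Set G) : Set G)) ≤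
        Nat.card (O : Set G) * Nat.card ((S : Subgroup G) : Set G) := Set.natCard_mul_le
    rw [← hset] at hle
    exact hle
  have hge : Nat.card O * Nat.card (S : Subgroup G) ≤ Nat.card (O ⊔ S₂ : Subgroup G) := by
    have d1 : Nat.card O ∣ Nat.card (O ⊔ S₂ : Subgroup G) := Subgroup.card_dvd_of_le le_sup_left
    have d2 : Nat.card S₂ ∣ Nat.card (O ⊔ S₂ : Subgroup G) :=
      Subgroup.card_dvd_of_le le_sup_right
    rw [hS₂card] at d2
    exact Nat.le_of_dvd Nat.card_pos (hcop.mul_dvd_of_dvd_of_dvd d1 d2)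
  have heq : O ⊔ S₂ = Subgroup.normalizer (M₁ : Set G) :=
    Subgroup.eq_of_le_of_card_ge hsupN (hNle.trans hge)
  have hSL : (S : Subgroup G) ≤ L := by
    rw [heq] at hsupL
    exact hSN.trans hsupL
  have hM₁eq : M₁ = (S : Subgroup G) := by
    rw [hM₁]
    exact inf_eq_left.mpr hSL
  rw [hM₁eq] at hM'
  omega

end Cfsg.Agent.Lib.helper91.SNG
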