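import Mathlib

/-!
# S3350, piece N2b (`exists_normalized`), insurance copy by helper91

`h91_exists_normalized` is the skeleton statement `exists_normalized` verbatim
(`tools/S3350_Skel.lean.txt`, architect helper70).  Self-contained: prefixed copies of
P3 (`h91_swap_eq_of_comm_stab`) and N2a (`h91_exists_stab_iso`) are proved here.
-/

set_option autoImplicit false
open Equiv MulAction

namespace Cfsg.Agent.Lib.helper70.SR

/-- P3 (prefixed copy). -/
theorem h91_swap_eq_of_comm_stab (m : ℕ) (hm : 5 ≤ m) (a b i j : Fin m) (hab : a ≠ b)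
    (hij : i ≠ j)
    (h : ∀ σ : Perm (Fin m), σ a = a → σ b = b → σ * swap i j = swap i j * σ) :
    swap i j = swap a b := by
  have key : ∀ i j : Fin m, i ≠ j →
      (∀ σ : Perm (Fin m), σ a = a → σ b = b → σ * swap i j = swap i j * σ) →
      i = a ∨ i = b := by
    intro i j hij h
    by_contra hcon
    rw [not_or] at hcon
    obtain ⟨hia, hib⟩ := hcon
    obtain ⟨l, hl⟩ : ∃ l : Fin m, l ∉ ({a, b, i, j} : Finset (Fin m)) := by
      by_contra hno
      rw [not_exists] at hno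
      have hno : ∀ z : Fin m, z ∈ ({a, b, i, j} : Finset (Fin m)) := fun z => not_not.mp (hno z)
      have hsub : (Finset.univ : Finset (Fin m)) ⊆ {a, b, i, j} := fun z _ => hno z
      have hc := Finset.card_le_card hsub
      have h4 : ({a, b, i, j} : Finset (Fin m)).card ≤ 4 := Finset.card_le_four
      rw [Finset.card_univ, Fintype.card_fin] at hc
      omega
    simp only [Finset.mem_insert, Finset.mem_singleton, not_or] at hl
    obtain ⟨hla, hlb, hli, hlj⟩ := hl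
    have hσ := h (swap i l) (swap_apply_of_ne_of_ne (Ne.symm hia) (Ne.symm hla))
      (swap_apply_of_ne_of_ne (Ne.symm hib) (Ne.symm hlb))
    have hL : (swap i l * swap i j) j = l := by
      rw [Perm.mul_apply, swap_apply_right, swap_apply_left]
    have hR : (swap i j * swap i l) j = i := by
      rw [Perm.mul_apply, swap_apply_of_ne_of_ne (Ne.symm hij) (fun h => hlj h.symm),
        swap_apply_right]
    have h1 : (swap i l * swap i j) j = (swap i j * swap i l) j := by rw [hσ]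
    rw [hL, hR] at h1
    exact hli h1
  have hi := key i j hij h
  have hj := key j i (Ne.symm hij) (by
    intro σ ha hb
    rw [swap_comm j i]
    exact h σ ha hb)
  rcases hi with hi | hi <;> rcases hj with hj | hj
  · exact absurd (hi.trans hj.symm) hij
  · rw [hi, hj]
  · rw [hi, hj]
    exact swap_comm _ _
  · exact absurd (hi.trans hj.symm) hij

/-- N2a (prefixed copy). -/
theorem h91_exists_stab_iso (m : ℕ) {G : Type*} [Group G] (K J : Subgroup G)
    (eK : Perm (Fin m) ≃* K) (eJ : Perm (Fin m) ≃* J) (a b a' b' : Fin m)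
    (hIK : K ⊓ J = (stabilizer (Perm (Fin m)) a ⊓ stabilizer (Perm (Fin m)) b).map
      (K.subtype.comp eK.toMonoidHom))
    (hIJ : K ⊓ J = (stabilizer (Perm (Fin m)) a' ⊓ stabilizer (Perm (Fin m)) b').map
      (J.subtype.comp eJ.toMonoidHom)) :
    ∃ φ : ↥(stabilizer (Perm (Fin m)) a ⊓ stabilizer (Perm (Fin m)) b) ≃*
        ↥(stabilizer (Perm (Fin m)) a' ⊓ stabilizer (Perm (Fin m)) b'),
      ∀ σ : ↥(stabilizer (Perm (Fin m)) a ⊓ stabilizer (Perm (Fin m)) b),
        ((eJ ((φ σ : ↥(stabilizer (Perm (Fin m)) a' ⊓ stabilizer (Perm (Fin m)) b')) :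
          Perm (Fin m)) : J) : G) = ((eK (σ : Perm (Fin m)) : K) : G) := by
  have h1 : Function.Injective (K.subtype.comp eK.toMonoidHom) :=
    K.subtype_injective.comp eK.injective
  have h2 : Function.Injective (J.subtype.comp eJ.toMonoidHom) :=
    J.subtype_injective.comp eJ.injective
  let e1 := Subgroup.equivMapOfInjective
    (stabilizer (Perm (Fin m)) a ⊓ stabilizer (Perm (Fin m)) b) _ h1
  let e2 := Subgroup.equivMapOfInjective
    (stabilizer (Perm (Fin m)) a' ⊓ stabilizer (Perm (Fin m)) b') _ h2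
  let c := MulEquiv.subgroupCongr (hIK.symm.trans hIJ)
  refine ⟨e1.trans (c.trans e2.symm), fun σ => ?_⟩
  have h3 : ((e2 ((e1.trans (c.trans e2.symm)) σ) : _) : G) = ((e1 σ : _) : G) := by
    show ((e2 (e2.symm (c (e1 σ))) : _) : G) = ((e1 σ : _) : G)
    rw [MulEquiv.apply_symm_apply]
    rfl
  rw [Subgroup.coe_equivMapOfInjective_apply, Subgroup.coe_equivMapOfInjective_apply] at h3
  simpa using h3

/-- **N2b** (verbatim skeleton statement of `exists_normalized`). -/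
theorem h91_exists_normalized (m : ℕ) (hm : 9 ≤ m) {G : Type*} [Group G] (x y : G)
    (K J : Subgroup G)
    (eK : Perm (Fin m) ≃* K) (eJ : Perm (Fin m) ≃* J)
    (hKx : K ≤ Subgroup.centralizer ({x} : Set G)) (hJy : J ≤ Subgroup.centralizer ({y} : Set G))
    (hyK : ∃ i j : Fin m, i ≠ j ∧ ((eK (swap i j) : K) : G) = y)
    (hxJ : ∃ i j : Fin m, i ≠ j ∧ ((eJ (swap i j) : J) : G) = x)
    (hIK : ∃ a b : Fin m, a ≠ b ∧ K ⊓ J =
      (stabilizer (Perm (Fin m)) a ⊓ stabilizer (Perm (Fin m)) b).map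
        (K.subtype.comp eK.toMonoidHom))
    (hIJ : ∃ a b : Fin m, a ≠ b ∧ K ⊓ J =
      (stabilizer (Perm (Fin m)) a ⊓ stabilizer (Perm (Fin m)) b).map
        (J.subtype.comp eJ.toMonoidHom))
    (hstab : ∀ (a b a' b' : Fin m), a ≠ b → a' ≠ b' →
      ∀ φ : ↥(stabilizer (Perm (Fin m)) a ⊓ stabilizer (Perm (Fin m)) b) ≃*
          ↥(stabilizer (Perm (Fin m)) a' ⊓ stabilizer (Perm (Fin m)) b'),
        ∃ g : Perm (Fin m), g a = a' ∧ g b = b' ∧
          ∀ σ : ↥(stabilizer (Perm (Fin m)) a ⊓ stabilizer (Perm (Fin m)) b),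
            ((φ σ : ↥(stabilizer (Perm (Fin m)) a' ⊓ stabilizer (Perm (Fin m)) b')) :
              Perm (Fin m)) = g * (σ : Perm (Fin m)) * g⁻¹) :
    ∃ (eK' : Perm (Fin m) ≃* K) (eJ' : Perm (Fin m) ≃* J) (a b : Fin m),
      a.val = 0 ∧ b.val = 1 ∧
      (∀ σ : Perm (Fin m), σ a = a → σ b = b → ((eK' σ : K) : G) = ((eJ' σ : J) : G)) ∧
      ((eJ' (swap a b) : J) : G) = x ∧ ((eK' (swap a b) : K) : G) = y := by
  obtain ⟨a, b, hab, hIK'⟩ := hIK
  obtain ⟨a', b', hab', hIJ'⟩ := hIJ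
  obtain ⟨φ, hφ⟩ := h91_exists_stab_iso m K J eK eJ a b a' b' hIK' hIJ'
  obtain ⟨g, hga, hgb, hg⟩ := hstab a b a' b' hab hab' φ
  obtain ⟨eJ₁, heJ₁⟩ : ∃ eJ₁ : Perm (Fin m) ≃* J, ∀ σ, eJ₁ σ = eJ (g * σ * g⁻¹) :=
    ⟨(MulAut.conj g).trans eJ, fun σ => rfl⟩
  have hagree₁ : ∀ σ : Perm (Fin m), σ a = a → σ b = b →
      ((eK σ : K) : G) = ((eJ₁ σ : J) : G) := by
    intro σ ha hb
    have hmem : σ ∈ stabilizer (Perm (Fin m)) a ⊓ stabilizer (Perm (Fin m)) b := ⟨ha, hb⟩
    have h1 := hφ ⟨σ, hmem⟩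
    have h2 := hg ⟨σ, hmem⟩
    rw [heJ₁, ← h1, h2]
  -- `y` is the image of `swap a b` under `eK`
  obtain ⟨i, j, hij, hy⟩ := hyK
  have hswap_y : swap i j = swap a b := by
    apply h91_swap_eq_of_comm_stab m (by omega) a b i j hab hij
    intro σ ha hb
    have hJ : ((eK σ : K) : G) ∈ J := by
      rw [hagree₁ σ ha hb]
      exact (eJ₁ σ).2
    have hc := (Subgroup.mem_centralizer_iff.mp (hJy hJ)) y rfl
    rw [← hy] at hc
    have hc' : eK (swap i j * σ) = eK (σ * swap i j) := by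
      apply Subtype.ext
      rw [map_mul, map_mul]
      exact hc
    exact (eK.injective hc').symm
  -- `x` is the image of `swap a b` under `eJ₁`
  obtain ⟨i', j', hij', hx⟩ := hxJ
  have hx₁ : ((eJ₁ (swap (g⁻¹ i') (g⁻¹ j')) : J) : G) = x := by
    rw [heJ₁, ← hx]
    have e : g * swap (g⁻¹ i') (g⁻¹ j') * g⁻¹ = swap i' j' := by
      rw [← Equiv.swap_apply_apply]
      simp
    rw [e]
  have hpq : g⁻¹ i' ≠ g⁻¹ j' := fun h => hij' (g⁻¹.injective h)
  have hswap_x : swap (g⁻¹ i') (g⁻¹ j') = swap a b := by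
    apply h91_swap_eq_of_comm_stab m (by omega) a b _ _ hab hpq
    intro σ ha hb
    have hKm : ((eJ₁ σ : J) : G) ∈ K := by
      rw [← hagree₁ σ ha hb]
      exact (eK σ).2
    have hc := (Subgroup.mem_centralizer_iff.mp (hKx hKm)) x rfl
    rw [← hx₁] at hc
    have hc' : eJ₁ (swap (g⁻¹ i') (g⁻¹ j') * σ) = eJ₁ (σ * swap (g⁻¹ i') (g⁻¹ j')) := by
      apply Subtype.ext
      rw [map_mul, map_mul]
      exact hc
    exact (eJ₁.injective hc').symm
  -- normalise the two points to `0` and `1`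
  have h0 : 0 < m := by omega
  have h1 : 1 < m := by omega
  obtain ⟨a₀, ha₀⟩ : ∃ a₀ : Fin m, a₀.val = 0 := ⟨⟨0, h0⟩, rfl⟩
  obtain ⟨b₀, hb₀⟩ : ∃ b₀ : Fin m, b₀.val = 1 := ⟨⟨1, h1⟩, rfl⟩
  have ha₀b₀ : a₀ ≠ b₀ := by
    intro h
    have h' := congrArg Fin.val h
    omega
  obtain ⟨g', hg'a, hg'b⟩ : ∃ g' : Perm (Fin m), g' a₀ = a ∧ g' b₀ = b := by
    have hb₁ : swap a₀ a b₀ ≠ a := by
      intro h
      have h' : swap a₀ a b₀ = swap a₀ a a₀ := by rw [h, swap_apply_left]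
      exact ha₀b₀ ((swap a₀ a).injective h').symm
    refine ⟨swap (swap a₀ a b₀) b * swap a₀ a, ?_, ?_⟩
    · rw [Perm.mul_apply, swap_apply_left]
      exact swap_apply_of_ne_of_ne (Ne.symm hb₁) hab
    · rw [Perm.mul_apply]
      exact swap_apply_left _ _
  refine ⟨(MulAut.conj g').trans eK, (MulAut.conj g').trans eJ₁, a₀, b₀, ha₀, hb₀, ?_, ?_, ?_⟩
  · intro σ ha hb
    show ((eK (g' * σ * g'⁻¹) : K) : G) = ((eJ₁ (g' * σ * g'⁻¹) : J) : G)
    apply hagree₁
    · rw [← hg'a]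
      simp [Perm.mul_apply, ha]
    · rw [← hg'b]
      simp [Perm.mul_apply, hb]
  · show ((eJ₁ (g' * swap a₀ b₀ * g'⁻¹) : J) : G) = x
    rw [← Equiv.swap_apply_apply, hg'a, hg'b, ← hswap_x]
    exact hx₁
  · show ((eK (g' * swap a₀ b₀ * g'⁻¹) : K) : G) = y
    rw [← Equiv.swap_apply_apply, hg'a, hg'b, ← hswap_y]
    exact hy

end Cfsg.Agent.Lib.helper70.SR
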