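import Mathlib
import Cfsg.Prelude.Def_Classical
import Cfsg.Prelude.Def_GeometricClasses
import Cfsg.Agent.Lib.helper49.WittIso

/-!
# S5977 / S5978 block [A], piece RHOJ (racer copy by helper91)
-/

set_option autoImplicit false

namespace Cfsg.Agent.Lib.helper59.Sfk

open Matrix Cfsg.Geo
open Cfsg.Agent.Lib.helper49 (detHom spinorSign)

theorem helper91_sfk_rho_neg {F : Type*} [Field F] [Fintype F] {ι : Type} [Fintype ι] [DecidableEq ι]
    (h2 : (2 : F) ≠ 0) (Q : QuadraticForm F (ι → F))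
    (hQ : (QuadraticMap.polarBilin Q).Nondegenerate)
    (x : GL ι F) (hx : x ∈ Cfsg.isometryGroup F (⇑Q))
    (hxx : (x : Matrix ι ι F) * (x : Matrix ι ι F) = -1) (κ' : Matrix ι ι F)
    (hsa : ∀ u v : ι → F, QuadraticMap.polar (⇑Q) (κ' *ᵥ u) v = QuadraticMap.polar (⇑Q) u (κ' *ᵥ v))
    (hanti : (x : Matrix ι ι F) * κ' = -(κ' * (x : Matrix ι ι F)))
    (e : ι → F) (he : Q e ≠ 0) (α β : F)
    (hκe : κ' *ᵥ e = α • e + β • ((x : Matrix ι ι F) *ᵥ e)) :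
    ∃ r : ↥(Cfsg.isometryGroup F (⇑Q)), detHom (⇑Q) r = -1 ∧
      (x : Matrix ι ι F) * (((r : GL ι F) : Matrix ι ι F) * κ' * (((r : GL ι F)⁻¹ : GL ι F) : Matrix ι ι F)) =
        -((((r : GL ι F) : Matrix ι ι F) * κ' * (((r : GL ι F)⁻¹ : GL ι F) : Matrix ι ι F)) *
          (x : Matrix ι ι F)) := by
  refine ⟨Cfsg.Agent.Lib.helper49.reflG Q e he, Cfsg.Agent.Lib.helper49.detHom_reflG Q e he, ?_⟩
  have hrinv : (((Cfsg.Agent.Lib.helper49.reflG Q e he : ↥(Cfsg.isometryGroup F (⇑Q))) : GL ι F)⁻¹ : GL ι F)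
      = ((Cfsg.Agent.Lib.helper49.reflG Q e he : ↥(Cfsg.isometryGroup F (⇑Q))) : GL ι F) := by
    have h := Cfsg.Agent.Lib.helper49.reflG_mul_self Q e he
    have h' : ((Cfsg.Agent.Lib.helper49.reflG Q e he : ↥(Cfsg.isometryGroup F (⇑Q))) : GL ι F) *
        ((Cfsg.Agent.Lib.helper49.reflG Q e he : ↥(Cfsg.isometryGroup F (⇑Q))) : GL ι F) = 1 :=
      congrArg Subtype.val h
    exact inv_eq_of_mul_eq_one_left h'
  rw [hrinv, Cfsg.Agent.Lib.helper49.reflG_val]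
  set R : Matrix ι ι F := Cfsg.reflectionMatrix (⇑Q) e with hR
  set X : Matrix ι ι F := (x : Matrix ι ι F) with hX
  set a : F := Q e with ha
  have hRv : ∀ v, R *ᵥ v = v - (a⁻¹ * QuadraticMap.polar (⇑Q) e v) • e := fun v =>
    Cfsg.Agent.Lib.helper49.refl_mulVec Q e v
  have hxQ : ∀ v, Q (X *ᵥ v) = Q v := fun v => hx v v
  have hxB : ∀ v w, QuadraticMap.polar (⇑Q) (X *ᵥ v) (X *ᵥ w) = QuadraticMap.polar (⇑Q) v w := by
    intro v w
    simp only [QuadraticMap.polar]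
    rw [← Matrix.mulVec_add, hxQ, hxQ, hxQ]
  have hXX : ∀ v, X *ᵥ (X *ᵥ v) = -v := by
    intro v
    rw [Matrix.mulVec_mulVec, hxx, Matrix.neg_mulVec, Matrix.one_mulVec]
  have hskew : ∀ v w, QuadraticMap.polar (⇑Q) (X *ᵥ v) w = -QuadraticMap.polar (⇑Q) v (X *ᵥ w) := by
    intro v w
    have h1 := hxB v (X *ᵥ w)
    rw [hXX, QuadraticMap.polar_neg_right] at h1
    rw [← h1, neg_neg]
  have hanti' : ∀ v, X *ᵥ (κ' *ᵥ v) = -(κ' *ᵥ (X *ᵥ v)) := by
    intro v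
    rw [Matrix.mulVec_mulVec, Matrix.mulVec_mulVec, hanti, Matrix.neg_mulVec]
  -- scalar facts
  have f2 : QuadraticMap.polar (⇑Q) e e = 2 * a := by
    rw [QuadraticMap.polar_self]
    simp [ha]
  have f3 : QuadraticMap.polar (⇑Q) e (X *ᵥ e) = 0 := by
    have h1 := hskew e e
    rw [QuadraticMap.polar_comm] at h1
    have h3 : 2 * QuadraticMap.polar (⇑Q) e (X *ᵥ e) = 0 := by linear_combination h1
    rcases mul_eq_zero.mp h3 with h | h
    · exact absurd h h2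
    · exact h
  have f1 : ∀ v, QuadraticMap.polar (⇑Q) e (κ' *ᵥ v) =
      α * QuadraticMap.polar (⇑Q) e v + β * QuadraticMap.polar (⇑Q) (X *ᵥ e) v := by
    intro v
    rw [QuadraticMap.polar_comm, hsa, hκe, QuadraticMap.polar_add_right,
      QuadraticMap.polar_smul_right, QuadraticMap.polar_smul_right,
      QuadraticMap.polar_comm (⇑Q) v e, QuadraticMap.polar_comm (⇑Q) v (X *ᵥ e)]
    simp [smul_eq_mul]
  -- the closed formula for `R κ' R`
  have hM : ∀ v, (R * κ' * R) *ᵥ v = κ' *ᵥ v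
      - (β * (a⁻¹ * QuadraticMap.polar (⇑Q) e v)) • (X *ᵥ e)
      - (β * (a⁻¹ * QuadraticMap.polar (⇑Q) (X *ᵥ e) v)) • e := by
    intro v
    rw [← Matrix.mulVec_mulVec, ← Matrix.mulVec_mulVec, hRv v, Matrix.mulVec_sub,
      Matrix.mulVec_smul, hκe, hRv]
    have hs : a⁻¹ * QuadraticMap.polar (⇑Q) e
        (κ' *ᵥ v - (a⁻¹ * QuadraticMap.polar (⇑Q) e v) • (α • e + β • X *ᵥ e))
        = β * (a⁻¹ * QuadraticMap.polar (⇑Q) (X *ᵥ e) v) - α * (a⁻¹ * QuadraticMap.polar (⇑Q) e v) := by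
      rw [QuadraticMap.polar_sub_right, QuadraticMap.polar_smul_right, QuadraticMap.polar_add_right,
        QuadraticMap.polar_smul_right, QuadraticMap.polar_smul_right, f1, f2, f3]
      simp only [smul_eq_mul]
      field_simp
      ring
    rw [hs]
    ext i
    simp only [Pi.sub_apply, Pi.smul_apply, Pi.add_apply, smul_eq_mul]
    ring
  apply Matrix.toLin'.injective
  apply LinearMap.ext
  intro v
  rw [Matrix.toLin'_apply, Matrix.toLin'_apply]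
  have e1 : (X * (R * κ' * R)) *ᵥ v = X *ᵥ ((R * κ' * R) *ᵥ v) := by
    rw [Matrix.mulVec_mulVec]
  have e2 : (-(R * κ' * R * X)) *ᵥ v = -((R * κ' * R) *ᵥ (X *ᵥ v)) := by
    rw [Matrix.neg_mulVec, Matrix.mulVec_mulVec]
  rw [e1, e2, hM, hM]
  rw [Matrix.mulVec_sub, Matrix.mulVec_sub, Matrix.mulVec_smul, Matrix.mulVec_smul, hXX, hanti']
  have p1 : QuadraticMap.polar (⇑Q) e (X *ᵥ v) = -QuadraticMap.polar (⇑Q) (X *ᵥ e) v := by
    rw [hskew e v, neg_neg]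
  have p2 : QuadraticMap.polar (⇑Q) (X *ᵥ e) (X *ᵥ v) = QuadraticMap.polar (⇑Q) e v := hxB e v
  rw [p1, p2]
  ext i
  simp only [Pi.sub_apply, Pi.smul_apply, Pi.add_apply, Pi.neg_apply, smul_eq_mul]
  ring

end Cfsg.Agent.Lib.helper59.Sfk
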