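import Cfsg.Agent.Lib.helper91.FischerPlanes
import Cfsg.Agent.Lib.helper91.Theta
import Cfsg.Agent.Lib.helper91.Trichotomy

set_option autoImplicit false

/-! Local line lemmas for sets of 3-transpositions: centralizers of products of non-commuting
members, the affine-plane commutator, and the case where the commuting partners of a member form a
single line generating `S₃`. -/

namespace Cfsg.Agent.Lib.helper91

open Cfsg

section TTLine
variable {G : Type*} [Group G] {D : Set G}

/-- A member of `D` commuting with the product of two non-commuting members commutes with both. -/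
theorem tt_commute_of_commute_mul (hT : IsThreeTranspositionSet D) {a b y : G} (ha : a ∈ D)
    (hb : b ∈ D) (hy : y ∈ D) (hab : ¬ Commute a b) (h : Commute y (a * b)) : Commute y a := by
  have sa := tt_sq hT ha
  have sb := tt_sq hT hb
  by_contra hya
  have hyb : ¬ Commute y b := by
    intro hyb
    apply hya
    have e : a = (a * b) * b := by rw [mul_assoc, sb, mul_one]
    rw [e]
    exact h.mul_right hyb
  have b1 := tt_braid hT hy ha hya
  have b2 := tt_braid hT hy hb hyb
  have e1 : y * a = a * b * y * b := by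
    calc y * a = y * (a * b) * b := by rw [mul_assoc, mul_assoc, sb, mul_one]
      _ = (a * b) * y * b := by rw [h.eq]
  have e2 : a * y * a = b * y * b := by
    calc a * y * a = a * (y * a) := by group
      _ = a * (a * b * y * b) := by rw [e1]
      _ = (a * a) * b * y * b := by group
      _ = b * y * b := by rw [sa, one_mul]
  have e3 : y * a * y = y * b * y := by rw [b1, b2, e2]
  have e4 : a = b := mul_left_cancel (mul_right_cancel e3)
  rw [e4] at hab
  exact hab (Commute.refl b)

/-- The key contradiction: if `d` commutes with the non-commuting pair `p`, `q`, and `e` commutes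
with neither `d` nor `p`, then `(e * (p * q))²` does not commute with `d`. -/
theorem tt_claim (hT : IsThreeTranspositionSet D) (hconj : ∀ g : G, ∀ x ∈ D, g * x * g⁻¹ ∈ D)
    {d p q e : G} (hd : d ∈ D) (hp : p ∈ D) (hq : q ∈ D) (he : e ∈ D)
    (hdp : Commute d p) (hdq : Commute d q) (hpq : ¬ Commute p q) (hed : ¬ Commute e d)
    (hep : ¬ Commute e p) (hz : Commute (e * (p * q) * e * (p * q)) d) : False := by
  have sd := tt_sq hT hd
  have se := tt_sq hT he
  have ie := tt_inv hT he
  have hg : Commute d (p * q) := hdp.mul_right hdq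
  have h1 : Commute d (e * (p * q) * e) := by
    have hz' : (e * (p * q) * e) * (p * q) * d = d * ((e * (p * q) * e) * (p * q)) := hz.eq
    have h2 : (e * (p * q) * e) * d * (p * q) = d * (e * (p * q) * e) * (p * q) := by
      calc (e * (p * q) * e) * d * (p * q) = (e * (p * q) * e) * (d * (p * q)) := by group
        _ = (e * (p * q) * e) * ((p * q) * d) := by rw [hg.eq]
        _ = (e * (p * q) * e) * (p * q) * d := by group
        _ = d * ((e * (p * q) * e) * (p * q)) := hz'
        _ = d * (e * (p * q) * e) * (p * q) := by group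
    exact (mul_right_cancel h2).symm
  have hepe : e * p * e ∈ D := by
    have := hconj e p hp
    rwa [ie] at this
  have heqe : e * q * e ∈ D := by
    have := hconj e q hq
    rwa [ie] at this
  have hnc : ¬ Commute (e * p * e) (e * q * e) := by
    intro h
    apply hpq
    have h' : Commute (e * p * e⁻¹) (e * q * e⁻¹) := by rwa [ie]
    exact (Commute.conj_iff e).mp h'
  have heq : e * (p * q) * e = (e * p * e) * (e * q * e) := by
    calc e * (p * q) * e = e * p * 1 * q * e := by group
      _ = e * p * (e * e) * q * e := by rw [se]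
      _ = (e * p * e) * (e * q * e) := by group
  rw [heq] at h1
  have h2 : Commute d (e * p * e) := tt_commute_of_commute_mul hT hepe heqe hd hnc h1
  have h3 : Commute (e * d * e) p := by
    have h' : Commute (e * d * e⁻¹) (e * (e * p * e) * e⁻¹) := (Commute.conj_iff e).mpr h2
    rw [ie] at h'
    have e' : e * (e * p * e) * e = p := by
      calc e * (e * p * e) * e = (e * e) * p * (e * e) := by group
        _ = p := by rw [se, one_mul, mul_one]
    rwa [e'] at h'
  have hb := tt_braid hT he hd hed
  rw [hb] at h3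
  apply hep
  have h5 : Commute (d * (d * e * d) * d) p := (hdp.mul_left h3).mul_left hdp
  have e5 : d * (d * e * d) * d = e := by
    calc d * (d * e * d) * d = (d * d) * e * (d * d) := by group
      _ = e := by rw [sd, one_mul, mul_one]
  rw [e5] at h5
  exact h5

/-- For pairwise non-commuting `p`, `q`, `e` with `pqp`, `e` non-commuting (an affine plane), the
element `(e * (p * q))²` commutes with `p`, `q` and `e`. -/
theorem tt_heis_z (hT : IsThreeTranspositionSet D) (hconj : ∀ g : G, ∀ x ∈ D, g * x * g⁻¹ ∈ D)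
    {p q e : G} (hp : p ∈ D) (hq : q ∈ D) (he : e ∈ D) (hpq : ¬ Commute p q)
    (hpe : ¬ Commute p e) (hqe : ¬ Commute q e) (hre : ¬ Commute (p * q * p) e) :
    Commute (e * (p * q) * e * (p * q)) p ∧ Commute (e * (p * q) * e * (p * q)) q ∧
      Commute (e * (p * q) * e * (p * q)) e := by
  obtain ⟨⟨aa, hax, hay, hx, hy, hxy, hxy'⟩, -, -⟩ :=
    affine_group_facts hT hconj hp hq he hpq hpe hqe hre
  have ip := tt_inv hT hp
  have iq := tt_inv hT hq
  have ie := tt_inv hT he
  have sp := tt_sq hT hp
  obtain ⟨c1, c2⟩ := heis_central aa hax hay hx hy hxy hxy'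
  have ez : (p * e)⁻¹ * (p * q)⁻¹ * (p * e) * (p * q) = e * (p * q) * e * (p * q) := by
    rw [mul_inv_rev, mul_inv_rev, ip, iq, ie]
    calc e * p * (q * p) * (p * e) * (p * q) = e * p * q * (p * p) * e * (p * q) := by group
      _ = e * (p * q) * e * (p * q) := by rw [sp]; group
  rw [ez] at c1 c2
  have hyx : ((p * e) * (p * q)) ^ 3 = 1 := by
    have h : (p * e) * (p * q) = (p * q)⁻¹ * ((p * q) * (p * e)) * (p * q)⁻¹⁻¹ := by group
    rw [h, conj_pow, hxy]
    group
  have hyx' : ((p * e)⁻¹ * (p * q)) ^ 3 = 1 := by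
    have h : (p * e)⁻¹ * (p * q) = ((p * q)⁻¹ * (p * e))⁻¹ := by group
    rw [h, inv_pow, hxy', inv_one]
  obtain ⟨c3, -⟩ := heis_central aa hay hax hy hx hyx hyx'
  have ez' : (p * q)⁻¹ * (p * e)⁻¹ * (p * q) * (p * e) = (e * (p * q) * e * (p * q))⁻¹ := by
    rw [← ez]
    group
  rw [ez'] at c3
  have c5 : Commute (e * (p * q) * e * (p * q)) (p * q) := Commute.inv_left_iff.mp c3
  refine ⟨c2, ?_, ?_⟩
  · have h : Commute (e * (p * q) * e * (p * q)) (p * (p * q)) := c2.mul_right c5
    have e' : p * (p * q) = q := by rw [← mul_assoc, sp, one_mul]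
    rwa [e'] at h
  · have h : Commute (e * (p * q) * e * (p * q)) (p * (p * e)) := c2.mul_right c1
    have e' : p * (p * e) = e := by rw [← mul_assoc, sp, one_mul]
    rwa [e'] at h

theorem perm3_inv_ncomm : ∀ x y : Equiv.Perm (Fin 3), x * x = 1 → y * y = 1 → x ≠ 1 → y ≠ 1 →
    x ≠ y → x * y ≠ y * x := by decide

theorem perm3_inv_third : ∀ x y w : Equiv.Perm (Fin 3), (x * x = 1 ∧ y * y = 1 ∧ w * w = 1 ∧
    x ≠ 1 ∧ y ≠ 1 ∧ w ≠ 1 ∧ x ≠ y) → (w = x ∨ w = y ∨ w = x * y * x) := by decide

theorem perm3_central_eq_one : ∀ k : Equiv.Perm (Fin 3),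
    (∀ g : Equiv.Perm (Fin 3), k * g = g * k) → k = 1 := by decide

/-- If the commuting partners of `d` generate a copy of `S₃`, they form a line: any two different
partners `a`, `b` do not commute and the partners are exactly `a`, `b`, `aba`. -/
theorem tt_local_line (hT : IsThreeTranspositionSet D) (hconj : ∀ g : G, ∀ x ∈ D, g * x * g⁻¹ ∈ D)
    {d : G} (hloc : Nonempty (↥(Subgroup.closure (Dp D d)) ≃* Equiv.Perm (Fin 3))) :
    (∃ a ∈ Dp D d, ∃ b ∈ Dp D d, a ≠ b) ∧
      ∀ a ∈ Dp D d, ∀ b ∈ Dp D d, a ≠ b → ¬ Commute a b ∧ Dp D d = {a, b, a * b * a} := by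
  obtain ⟨φ⟩ := hloc
  have hmemH : ∀ a ∈ Dp D d, a ∈ Subgroup.closure (Dp D d) := fun a ha => Subgroup.subset_closure ha
  have key : ∀ a (ha : a ∈ Dp D d), φ ⟨a, hmemH a ha⟩ * φ ⟨a, hmemH a ha⟩ = 1 ∧
      φ ⟨a, hmemH a ha⟩ ≠ 1 := by
    intro a ha
    constructor
    · rw [← map_mul]
      have : (⟨a, hmemH a ha⟩ : Subgroup.closure (Dp D d)) * ⟨a, hmemH a ha⟩ = 1 :=
        Subtype.ext (tt_sq hT ha.1)
      rw [this, map_one]
    · intro h
      have h1 : (⟨a, hmemH a ha⟩ : Subgroup.closure (Dp D d)) = 1 := by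
        apply φ.injective
        rw [h, map_one]
      exact tt_ne_one hT ha.1 (congrArg Subtype.val h1)
  have hne : ∀ a (ha : a ∈ Dp D d) b (hb : b ∈ Dp D d), a ≠ b →
      φ ⟨a, hmemH a ha⟩ ≠ φ ⟨b, hmemH b hb⟩ := by
    intro a ha b hb hab h
    exact hab (congrArg Subtype.val (φ.injective h))
  have hnc : ∀ a ∈ Dp D d, ∀ b ∈ Dp D d, a ≠ b → ¬ Commute a b := by
    intro a ha b hb hab hc
    have := perm3_inv_ncomm _ _ (key a ha).1 (key b hb).1 (key a ha).2 (key b hb).2
      (hne a ha b hb hab)
    apply this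
    rw [← map_mul, ← map_mul]
    congr 1
    exact Subtype.ext hc.eq
  refine ⟨?_, ?_⟩
  · by_contra hcon
    push Not at hcon
    have hcomm := closure_comm_of_comm (X := Dp D d) (fun x hx y hy => by rw [hcon x hx y hy])
    have : Equiv.swap (0 : Fin 3) 1 * Equiv.swap 1 2 = Equiv.swap 1 2 * Equiv.swap 0 1 := by
      have h1 := hcomm (φ.symm (Equiv.swap 0 1)) (φ.symm (Equiv.swap 0 1)).2
        (φ.symm (Equiv.swap 1 2)) (φ.symm (Equiv.swap 1 2)).2
      have h2 : φ.symm (Equiv.swap 0 1) * φ.symm (Equiv.swap 1 2) =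
          φ.symm (Equiv.swap 1 2) * φ.symm (Equiv.swap 0 1) := Subtype.ext h1
      have h3 := congrArg φ h2
      simpa using h3
    revert this
    decide
  · intro a ha b hb hab
    refine ⟨hnc a ha b hb hab, ?_⟩
    have sa := tt_sq hT ha.1
    have haba : a * b * a ∈ Dp D d := by
      refine ⟨?_, ?_, ?_⟩
      · have := hconj a b hb.1
        rwa [tt_inv hT ha.1] at this
      · intro h
        apply hb.2.1
        have e1 : b = a * (a * b * a) * a := by
          calc b = 1 * b * 1 := by group
            _ = (a * a) * b * (a * a) := by rw [sa]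
            _ = a * (a * b * a) * a := by group
        rw [e1, h]
        calc a * d * a = d * a * a := by rw [ha.2.2.eq]
          _ = d := by rw [mul_assoc, sa, mul_one]
      · exact (ha.2.2.mul_right hb.2.2).mul_right ha.2.2
    apply Set.Subset.antisymm
    · intro y hy
      by_cases hya : y = a
      · left
        exact hya
      by_cases hyb : y = b
      · right
        left
        exact hyb
      right
      right
      have h3 := perm3_inv_third _ _ _ ⟨(key a ha).1, (key b hb).1, (key y hy).1, (key a ha).2,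
        (key b hb).2, (key y hy).2, hne a ha b hb hab⟩
      rcases h3 with h | h | h
      · exact absurd (congrArg Subtype.val (φ.injective h)) hya
      · exact absurd (congrArg Subtype.val (φ.injective h)) hyb
      · rw [← map_mul, ← map_mul] at h
        exact congrArg Subtype.val (φ.injective h)
    · intro y hy
      rcases hy with h | h | h
      · rw [h]
        exact ha
      · rw [h]
        exact hb
      · rw [h]
        exact haba

/-- When the commuting partners of `d` form the line `{p, q, pqp}` and `O₃(C(d))` has order 3, every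
3-subgroup of `C(d)` normalized by `C(d)` lies in `{1, pq, qp}`. -/
theorem tt_pcore_centralizer [Finite G] (hT : IsThreeTranspositionSet D)
    (hconj : ∀ g : G, ∀ x ∈ D, g * x * g⁻¹ ∈ D) {d p q : G}
    (hp : p ∈ Dp D d) (hq : q ∈ Dp D d) (hpq : ¬ Commute p q)
    (hline : Dp D d = {p, q, p * q * p})
    (hcard : Nat.card (Cfsg.pCore 3 ↥(Subgroup.centralizer ({d} : Set G))) = 3)
    (M : Subgroup G) (hM3 : IsPGroup 3 M) (hMc : M ≤ Subgroup.centralizer {d})
    (hMn : ∀ c ∈ Subgroup.centralizer ({d} : Set G), ∀ m ∈ M, c * m * c⁻¹ ∈ M) :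
    ∀ x ∈ M, x = 1 ∨ x = p * q ∨ x = q * p := by
  have : Fact (Nat.Prime 3) := ⟨Nat.prime_three⟩
  have sp := tt_sq hT hp.1
  have sq := tt_sq hT hq.1
  have ip := tt_inv hT hp.1
  have iq := tt_inv hT hq.1
  have g3 : (p * q) ^ 3 = 1 := tt_cube hT hp.1 hq.1 hpq
  have ginv : (p * q)⁻¹ = q * p := by rw [mul_inv_rev, ip, iq]
  have g2 : (p * q) * (p * q) = q * p := by
    rw [← ginv]
    apply eq_inv_of_mul_eq_one_left
    rw [← g3]
    simp only [pow_succ, pow_zero, one_mul]
  have hcent : ∀ c : G, c ∈ Subgroup.centralizer ({d} : Set G) ↔ Commute d c := by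
    intro c
    rw [Subgroup.mem_centralizer_iff]
    constructor
    · intro h
      exact h d rfl
    · intro h x hx
      rw [Set.mem_singleton_iff] at hx
      rw [hx]
      exact h.eq
  have hgC : p * q ∈ Subgroup.centralizer ({d} : Set G) :=
    (hcent _).mpr (hp.2.2.mul_right hq.2.2)
  -- conjugation by `C(d)` preserves the line
  have hconjline : ∀ c ∈ Subgroup.centralizer ({d} : Set G), ∀ y ∈ Dp D d,
      c * y * c⁻¹ ∈ Dp D d := by
    intro c hc y hy
    have hdc : Commute d c := (hcent c).mp hc
    refine ⟨hconj c y hy.1, ?_, ?_⟩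
    · intro h
      apply hy.2.1
      have e1 : y = c⁻¹ * (c * y * c⁻¹) * c := by group
      rw [e1, h]
      calc c⁻¹ * d * c = c⁻¹ * (d * c) := by group
        _ = c⁻¹ * (c * d) := by rw [hdc.eq]
        _ = d := by group
    · exact (hdc.mul_right hy.2.2).mul_right hdc.inv_right
  have hgconj : ∀ c ∈ Subgroup.centralizer ({d} : Set G),
      c * (p * q) * c⁻¹ = p * q ∨ c * (p * q) * c⁻¹ = q * p := by
    intro c hc
    have h1 := hconjline c hc p hp
    have h2 := hconjline c hc q hq
    have e0 : c * (p * q) * c⁻¹ = (c * p * c⁻¹) * (c * q * c⁻¹) := by group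
    have hne : c * p * c⁻¹ ≠ c * q * c⁻¹ := by
      intro h
      have h' : p = q := by
        have := congrArg (fun t => c⁻¹ * t * c) h
        simpa [mul_assoc] using this
      rw [h'] at hpq
      exact hpq (Commute.refl q)
    rw [hline] at h1 h2
    rw [e0]
    rcases h1 with h1 | h1 | h1 <;> rcases h2 with h2 | h2 | h2
    · exact absurd (h1.trans h2.symm) hne
    · left
      rw [h1, h2]
    · right
      rw [h1, h2]
      calc p * (p * q * p) = (p * p) * q * p := by group
        _ = q * p := by rw [sp, one_mul]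
    · right
      rw [h1, h2]
    · exact absurd (h1.trans h2.symm) hne
    · left
      rw [h1, h2]
      calc q * (p * q * p) = (q * p) * (q * p) := by group
        _ = ((p * q) * (p * q))⁻¹ := by rw [mul_inv_rev, ginv]
        _ = (q * p)⁻¹ := by rw [g2]
        _ = p * q := by rw [← ginv, inv_inv]
    · left
      rw [h1, h2]
      calc p * q * p * p = p * q * (p * p) := by group
        _ = p * q := by rw [sp, mul_one]
    · right
      rw [h1, h2]
      calc p * q * p * q = (p * q) * (p * q) := by group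
        _ = q * p := g2
    · exact absurd (h1.trans h2.symm) hne
  -- the subgroup generated by `pq` is a normal 3-subgroup of `C(d)`
  have hZle : (Subgroup.zpowers (p * q)).subgroupOf (Subgroup.centralizer ({d} : Set G)) ≤
      Cfsg.pCore 3 ↥(Subgroup.centralizer ({d} : Set G)) := by
    apply le_sSup
    refine ⟨⟨?_⟩, ?_⟩
    · intro n hn c
      rw [Subgroup.mem_subgroupOf] at hn ⊢
      obtain ⟨k, hk⟩ := Subgroup.mem_zpowers_iff.mp hn
      have e1 : ((c * n * c⁻¹ : ↥(Subgroup.centralizer ({d} : Set G))) : G) =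
          (c : G) * (p * q) ^ k * (c : G)⁻¹ := by
        rw [hk]
        rfl
      rw [e1, ← conj_zpow]
      rcases hgconj c c.2 with h | h
      · rw [h]
        exact Subgroup.zpow_mem _ (Subgroup.mem_zpowers _) k
      · rw [h, ← ginv]
        exact Subgroup.zpow_mem _ (inv_mem (Subgroup.mem_zpowers _)) k
    · have hZ : IsPGroup 3 (Subgroup.zpowers (p * q)) := by
        intro x
        refine ⟨1, ?_⟩
        obtain ⟨k, hk⟩ := Subgroup.mem_zpowers_iff.mp x.2
        apply Subtype.ext
        rw [Subgroup.coe_pow, ← hk, pow_one, ← zpow_natCast, ← zpow_mul, mul_comm, zpow_mul,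
          zpow_natCast, g3, one_zpow]
        rfl
      exact hZ.comap_subtype
  have hMle : M.subgroupOf (Subgroup.centralizer ({d} : Set G)) ≤
      Cfsg.pCore 3 ↥(Subgroup.centralizer ({d} : Set G)) := by
    apply le_sSup
    refine ⟨⟨?_⟩, hM3.comap_subtype⟩
    intro n hn c
    rw [Subgroup.mem_subgroupOf] at hn ⊢
    exact hMn c c.2 n hn
  -- the generator
  have hgR : (⟨p * q, hgC⟩ : ↥(Subgroup.centralizer ({d} : Set G))) ∈
      Cfsg.pCore 3 ↥(Subgroup.centralizer ({d} : Set G)) := by
    apply hZle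
    rw [Subgroup.mem_subgroupOf]
    exact Subgroup.mem_zpowers _
  have hg1 : p * q ≠ 1 := by
    intro h
    apply hpq
    have : p = q := by
      calc p = p * q * q := by rw [mul_assoc, sq, mul_one]
        _ = q := by rw [h, one_mul]
    rw [this]
  have htop := zpowers_eq_top_of_prime_card hcard
    (g := (⟨⟨p * q, hgC⟩, hgR⟩ : ↥(Cfsg.pCore 3 ↥(Subgroup.centralizer ({d} : Set G)))))
    (by
      intro h
      apply hg1
      exact congrArg (fun t : ↥(Cfsg.pCore 3 ↥(Subgroup.centralizer ({d} : Set G))) =>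
        ((t : ↥(Subgroup.centralizer ({d} : Set G))) : G)) h)
  intro x hx
  have hxR : (⟨x, hMc hx⟩ : ↥(Subgroup.centralizer ({d} : Set G))) ∈
      Cfsg.pCore 3 ↥(Subgroup.centralizer ({d} : Set G)) := by
    apply hMle
    rw [Subgroup.mem_subgroupOf]
    exact hx
  have hmem : (⟨⟨x, hMc hx⟩, hxR⟩ : ↥(Cfsg.pCore 3 ↥(Subgroup.centralizer ({d} : Set G)))) ∈
      Subgroup.zpowers (⟨⟨p * q, hgC⟩, hgR⟩ :
        ↥(Cfsg.pCore 3 ↥(Subgroup.centralizer ({d} : Set G)))) := by
    rw [htop]
    trivial
  obtain ⟨k, hk⟩ := Subgroup.mem_zpowers_iff.mp hmem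
  have hk' : (p * q) ^ k = x := by
    have := congrArg (fun t : ↥(Cfsg.pCore 3 ↥(Subgroup.centralizer ({d} : Set G))) =>
        ((t : ↥(Subgroup.centralizer ({d} : Set G))) : G)) hk
    simpa using this
  have hkm : (p * q) ^ k = (p * q) ^ (k % 3) := by
    conv_lhs => rw [← Int.emod_add_mul_ediv k 3]
    rw [zpow_add, zpow_mul, zpow_ofNat, g3, one_zpow, mul_one]
  have h0 : 0 ≤ k % 3 := Int.emod_nonneg k (by norm_num)
  have h3 : k % 3 < 3 := Int.emod_lt_of_pos k (by norm_num)
  rw [← hk', hkm]
  rcases (show k % 3 = 0 ∨ k % 3 = 1 ∨ k % 3 = 2 by omega) with h | h | h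
  · left
    rw [h, zpow_zero]
  · right
    left
    rw [h, zpow_one]
  · right
    right
    rw [h]
    exact g2 ▸ (by rw [show (2 : ℤ) = ((2 : ℕ) : ℤ) from rfl, zpow_natCast, pow_two])

end TTLine

end Cfsg.Agent.Lib.helper91
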