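import Cfsg.Agent.Lib.helper91.TTPerf

/-!
# The commuting partners of a 3-transposition form one class

Let `G` be primitive on the class `D` of 3-transpositions (with two different commuting members).
For `x ∈ D` the set `Dp D x` of members of `D` other than `x` commuting with `x` is a single orbit
of the subgroup it generates.

Proof.  The orbits pairwise commute.  If there were two orbits, comparing the orbit partitions at
`x`, at `a ∈ Dp D x` and at `b ∈ Dp D x` in another orbit (all orbits have the same size by the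
rank three property) gives a member `x' ≠ x` commuting with all of `Dp D x`, or that `a` commutes
with all partners of `x`; both produce a non-trivial module of the commuting relation, which does
not exist under primitivity.
-/

set_option autoImplicit false

namespace Cfsg.Agent.Lib.helper91

open Subgroup

universe u

section loc

variable {G : Type u} [Group G] {D : Set G}

/-- `LC D x y z`: `y` and `z` are conjugate under the subgroup generated by `Dp D x`. -/
def LC (D : Set G) (x y z : G) : Prop := ∃ g ∈ closure (Dp D x), g * y * g⁻¹ = z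

theorem lc_refl (x y : G) : LC D x y y := ⟨1, one_mem _, by group⟩

theorem lc_symm {x y z : G} (h : LC D x y z) : LC D x z y := by
  obtain ⟨g, hg, rfl⟩ := h
  exact ⟨g⁻¹, inv_mem hg, by group⟩

theorem lc_trans {x y z w : G} (h1 : LC D x y z) (h2 : LC D x z w) : LC D x y w := by
  obtain ⟨g, hg, rfl⟩ := h1
  obtain ⟨k, hk, rfl⟩ := h2
  exact ⟨k * g, mul_mem hk hg, by group⟩

theorem closure_dp_commute {x g : G} (hg : g ∈ closure (Dp D x)) : Commute g x := by
  have hle : closure (Dp D x) ≤ centralizer {x} := by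
    rw [closure_le]
    intro y hy
    refine mem_centralizer_iff.mpr ?_
    intro h hh
    rw [Set.mem_singleton_iff] at hh
    rw [hh]
    exact hy.2.2.eq
  have := mem_centralizer_iff.mp (hle hg) x rfl
  exact this.symm

theorem lc_mem_dp (hconj : ∀ g : G, ∀ x ∈ D, g * x * g⁻¹ ∈ D) {x y z : G} (hy : y ∈ Dp D x)
    (h : LC D x y z) : z ∈ Dp D x := by
  obtain ⟨g, hg, rfl⟩ := h
  have hc := closure_dp_commute hg
  have e : g * x * g⁻¹ = x := by rw [hc.eq, mul_inv_cancel_right]
  have := (mem_dp_conj_iff hconj g x y).mpr hy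
  rwa [e] at this

theorem lc_of_not_commute (hTT : Cfsg.IsThreeTranspositionSet D) {x y z : G} (hy : y ∈ Dp D x)
    (hz : z ∈ Dp D x) (h : ¬ Commute y z) : LC D x y z := by
  have hbr := tt_braid hTT hy.1 hz.1 h
  exact ⟨y * z * y, mul_mem (mul_mem (subset_closure hy) (subset_closure hz)) (subset_closure hy),
    conj_of_braid (tt_sq hTT hy.1) (tt_sq hTT hz.1) hbr⟩

/-- Members of different orbits commute. -/
theorem commute_of_not_lc (hTT : Cfsg.IsThreeTranspositionSet D)
    (hconj : ∀ g : G, ∀ x ∈ D, g * x * g⁻¹ ∈ D) {x y z y' z' : G} (hy : y ∈ Dp D x)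
    (hz : z ∈ Dp D x) (h : ¬ LC D x y z) (hy' : LC D x y y') (hz' : LC D x z z') :
    Commute y' z' := by
  by_contra hc
  have h1 := lc_of_not_commute hTT (lc_mem_dp hconj hy hy') (lc_mem_dp hconj hz hz') hc
  exact h (lc_trans hy' (lc_trans h1 (lc_symm hz')))

theorem closure_dp_conj (hconj : ∀ g : G, ∀ x ∈ D, g * x * g⁻¹ ∈ D) (k x : G) {g : G}
    (hg : g ∈ closure (Dp D x)) : k * g * k⁻¹ ∈ closure (Dp D (k * x * k⁻¹)) := by
  induction hg using closure_induction with
  | mem y hy => exact subset_closure ((mem_dp_conj_iff hconj k x y).mpr hy)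
  | one => simp
  | mul a b _ _ iha ihb =>
    have : k * (a * b) * k⁻¹ = (k * a * k⁻¹) * (k * b * k⁻¹) := by group
    rw [this]
    exact mul_mem iha ihb
  | inv a _ iha =>
    have : k * a⁻¹ * k⁻¹ = (k * a * k⁻¹)⁻¹ := by group
    rw [this]
    exact inv_mem iha

theorem lc_conj (hconj : ∀ g : G, ∀ x ∈ D, g * x * g⁻¹ ∈ D) (k : G) {x y z : G}
    (h : LC D x y z) : LC D (k * x * k⁻¹) (k * y * k⁻¹) (k * z * k⁻¹) := by
  obtain ⟨g, hg, rfl⟩ := h
  exact ⟨k * g * k⁻¹, closure_dp_conj hconj k x hg, by group⟩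

/-- A conjugation-equivariant family of sets has constant size along conjugation. -/
theorem ncard_eq_of_conj_sub [Finite G] (F : G → G → Set G)
    (hF : ∀ k x y, (fun z => k * z * k⁻¹) '' F x y ⊆ F (k * x * k⁻¹) (k * y * k⁻¹))
    (k x y : G) : (F (k * x * k⁻¹) (k * y * k⁻¹)).ncard = (F x y).ncard := by
  apply le_antisymm
  · have h := hF k⁻¹ (k * x * k⁻¹) (k * y * k⁻¹)
    have e1 : k⁻¹ * (k * x * k⁻¹) * k⁻¹⁻¹ = x := by group
    have e2 : k⁻¹ * (k * y * k⁻¹) * k⁻¹⁻¹ = y := by group
    rw [e1, e2] at h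
    have := Set.ncard_le_ncard h (Set.toFinite _)
    rwa [Set.ncard_image_of_injective _ (cj_injective k⁻¹)] at this
  · have := Set.ncard_le_ncard (hF k x y) (Set.toFinite _)
    rwa [Set.ncard_image_of_injective _ (cj_injective k)] at this

/-- Under primitivity any two pairs of different commuting members of `D` are conjugate. -/
theorem tt_conj_commuting_pair [Finite G] (hD : Cfsg.IsThreeTranspositionClass D)
    (hP : Cfsg.IsPrimitiveUnderConj D) {x y x' y' : G} (hx : x ∈ D) (hy : y ∈ Dp D x)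
    (hx' : x' ∈ D) (hy' : y' ∈ Dp D x') : ∃ k : G, k * x * k⁻¹ = x' ∧ k * y * k⁻¹ = y' := by
  have hconj : ∀ g : G, ∀ x ∈ D, g * x * g⁻¹ ∈ D := fun g x hx => tt_class_conj_mem hD g hx
  obtain ⟨g₁, hg₁⟩ := isConj_iff.mp (tt_class_isConj hD hx hx')
  have h1 : g₁ * y * g₁⁻¹ ∈ Dp D x' := by
    rw [← hg₁]
    exact (mem_dp_conj_iff hconj g₁ x y).mpr hy
  obtain ⟨g₂, hg₂c, hg₂⟩ := tt_rank3_commute hD hP hx' h1.1 hy'.1 (Ne.symm h1.2.1)
    (Ne.symm hy'.2.1) h1.2.2 hy'.2.2
  refine ⟨g₂ * g₁, ?_, ?_⟩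
  · calc g₂ * g₁ * x * (g₂ * g₁)⁻¹ = g₂ * (g₁ * x * g₁⁻¹) * g₂⁻¹ := by group
      _ = x' := by rw [hg₁, hg₂c.eq, mul_inv_cancel_right]
  · calc g₂ * g₁ * y * (g₂ * g₁)⁻¹ = g₂ * (g₁ * y * g₁⁻¹) * g₂⁻¹ := by group
      _ = y' := hg₂

/-- All orbits have the same size. -/
theorem lc_ncard_eq [Finite G] (hD : Cfsg.IsThreeTranspositionClass D)
    (hP : Cfsg.IsPrimitiveUnderConj D) {x y x' y' : G} (hx : x ∈ D) (hy : y ∈ Dp D x)
    (hx' : x' ∈ D) (hy' : y' ∈ Dp D x') :
    {z | LC D x' y' z}.ncard = {z | LC D x y z}.ncard := by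
  have hconj : ∀ g : G, ∀ x ∈ D, g * x * g⁻¹ ∈ D := fun g x hx => tt_class_conj_mem hD g hx
  obtain ⟨k, hk1, hk2⟩ := tt_conj_commuting_pair hD hP hx hy hx' hy'
  rw [← hk1, ← hk2]
  exact ncard_eq_of_conj_sub (fun x y => {z | LC D x y z})
    (by
      rintro k x y _ ⟨z, hz, rfl⟩
      exact lc_conj hconj k hz) k x y

/-- Comparing the orbits at `x` and at `a`: the orbit of `b` (in another orbit than `a`) is the
same. -/
theorem lc_class_eq [Finite G] (hD : Cfsg.IsThreeTranspositionClass D)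
    (hP : Cfsg.IsPrimitiveUnderConj D) {x a b : G} (hx : x ∈ D) (ha : a ∈ Dp D x)
    (hb : b ∈ Dp D x) (hab : ¬ LC D x a b) : {z | LC D x b z} = {z | LC D a b z} := by
  have hTT := hD.1
  have hconj : ∀ g : G, ∀ x ∈ D, g * x * g⁻¹ ∈ D := fun g x hx => tt_class_conj_mem hD g hx
  have hcab : Commute a b := commute_of_not_lc hTT hconj ha hb hab (lc_refl x a) (lc_refl x b)
  have hba : b ∈ Dp D a := by
    refine ⟨hb.1, ?_, hcab⟩
    intro h
    apply hab
    rw [h]
    exact lc_refl x a
  have hsubDp : {z | LC D x b z} ⊆ Dp D a := by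
    intro z hz
    have hzx : z ∈ Dp D x := lc_mem_dp hconj hb hz
    refine ⟨hzx.1, ?_, ?_⟩
    · intro h
      apply hab
      have hz' : LC D x b z := hz
      rw [h] at hz'
      exact lc_symm hz'
    · exact commute_of_not_lc hTT hconj ha hb hab (lc_refl x a) hz
  obtain ⟨O, hO⟩ : ∃ O : Set G, O = {z | ∃ g ∈ closure {z | LC D x b z}, g * b * g⁻¹ = z} :=
    ⟨_, rfl⟩
  have hOsub : O ⊆ {z | LC D x b z} := by
    rw [hO]
    rintro _ ⟨g, hg, rfl⟩
    exact ⟨g, (closure_mono (fun z hz => lc_mem_dp hconj hb hz)) hg, rfl⟩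
  have hnorm : closure (Dp D x) ≤ normalizer O := by
    rw [closure_le]
    intro d hd
    rw [SetLike.mem_coe, mem_set_normalizer_iff]
    have key : ∀ z ∈ O, d * z * d⁻¹ ∈ O := by
      intro z hz
      by_cases hdb : LC D x b d
      · rw [hO] at hz ⊢
        obtain ⟨g, hg, rfl⟩ := hz
        exact ⟨d * g, mul_mem (subset_closure hdb) hg, by group⟩
      · have hc : Commute d z :=
          (commute_of_not_lc hTT hconj hb hd hdb (hOsub hz) (lc_refl x d)).symm
        rw [hc.eq, mul_inv_cancel_right]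
        exact hz
    intro z
    constructor
    · exact key z
    · intro hz
      have h1 := key _ hz
      have e : d * (d * z * d⁻¹) * d⁻¹ = z := by
        rw [tt_inv hTT hd.1]
        have h2 := tt_sq hTT hd.1
        calc d * (d * z * d) * d = (d * d) * z * (d * d) := by group
          _ = z := by rw [h2, one_mul, mul_one]
      rwa [e] at h1
  have hbO : b ∈ O := by
    rw [hO]
    exact ⟨1, one_mem _, by group⟩
  have h1 : {z | LC D x b z} ⊆ O := by
    rintro _ ⟨g, hg, rfl⟩
    exact (mem_set_normalizer_iff.mp (hnorm hg) b).mp hbO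
  have h2 : O ⊆ {z | LC D a b z} := by
    rw [hO]
    rintro _ ⟨g, hg, rfl⟩
    exact ⟨g, (closure_mono hsubDp) hg, rfl⟩
  have hcard : {z | LC D a b z}.ncard = {z | LC D x b z}.ncard :=
    lc_ncard_eq hD hP hx hb ha.1 hba
  exact Set.eq_of_subset_of_ncard_le (h1.trans h2) hcard.le (Set.toFinite _)

/-- For `a`, `c` in different orbits at `x`: the orbit of `x` at `a` commutes with the orbit of
`c` at `x`, and coincides with the orbit of `x` at `c`. -/
theorem lc_cross [Finite G] (hD : Cfsg.IsThreeTranspositionClass D)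
    (hP : Cfsg.IsPrimitiveUnderConj D) {x a c : G} (hx : x ∈ D) (ha : a ∈ Dp D x)
    (hc : c ∈ Dp D x) (hac : ¬ LC D x a c) :
    (∀ x' c', LC D a x x' → LC D x c c' → Commute x' c') ∧
      {z | LC D a x z} = {z | LC D c x z} := by
  have hTT := hD.1
  have hconj : ∀ g : G, ∀ x ∈ D, g * x * g⁻¹ ∈ D := fun g x hx => tt_class_conj_mem hD g hx
  have h2 := lc_class_eq hD hP hx ha hc hac
  have hcac : Commute a c := commute_of_not_lc hTT hconj ha hc hac (lc_refl x a) (lc_refl x c)
  have hca : c ∈ Dp D a := by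
    refine ⟨hc.1, ?_, hcac⟩
    intro h
    apply hac
    rw [h]
    exact lc_refl x a
  have hxa : x ∈ Dp D a := ⟨hx, Ne.symm ha.2.1, ha.2.2.symm⟩
  have h3 : ¬ LC D a c x := by
    intro h
    have hx' : x ∈ {z | LC D x c z} := by
      rw [h2]
      exact h
    exact (lc_mem_dp hconj hc hx').2.1 rfl
  constructor
  · intro x' c' hx' hc'
    have hc'' : LC D a c c' := by
      have hm : c' ∈ {z | LC D x c z} := hc'
      rw [h2] at hm
      exact hm
    exact (commute_of_not_lc hTT hconj hca hxa h3 hc'' hx').symm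
  · exact lc_class_eq hD hP ha.1 hca hxa h3

/-- The members of `D` with the same commuting partners as `x` form a module. -/
theorem isCMod_twins (x : G) : IsCMod D {y | y ∈ D ∧ Dp D y = Dp D x} := by
  refine ⟨fun y hy => hy.1, ?_⟩
  intro y hy hyS
  by_cases h : y ∈ Dp D x
  · left
    intro s hs
    have : y ∈ Dp D s := by
      rw [hs.2]
      exact h
    exact this.2.2.symm
  · right
    intro s hs hc
    apply h
    rw [← hs.2]
    refine ⟨hy, ?_, hc.symm⟩
    intro hys
    apply hyS
    rw [hys]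
    exact hs

/-- The members of `D` commuting with the same members as `x` form a module. -/
theorem isCMod_closed_twins (x : G) :
    IsCMod D {y | y ∈ D ∧ ∀ z ∈ D, Commute y z ↔ Commute x z} := by
  refine ⟨fun y hy => hy.1, ?_⟩
  intro y hy _
  by_cases h : Commute x y
  · left
    intro s hs
    exact ((hs.2 y hy).mpr h).symm
  · right
    intro s hs hc
    exact h ((hs.2 y hy).mp hc.symm)

/-- **The commuting partners of `x` form one orbit** of the subgroup they generate. -/
theorem tt_local_class [Finite G] (hD : Cfsg.IsThreeTranspositionClass D)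
    (hP : Cfsg.IsPrimitiveUnderConj D) (hw : ∃ a ∈ D, ∃ b ∈ D, a ≠ b ∧ Commute a b) {x : G}
    (hx : x ∈ D) {a b : G} (ha : a ∈ Dp D x) (hb : b ∈ Dp D x) : LC D x a b := by
  by_contra hab
  have hTT := hD.1
  have hconj : ∀ g : G, ∀ x ∈ D, g * x * g⁻¹ ∈ D := fun g x hx => tt_class_conj_mem hD g hx
  have hconn := prim_connected hconj hw hP
  have hmod : ∀ S : Set G, IsCMod D S → S.Subsingleton ∨ S = D :=
    fun S hS => prim_module_subsingleton hTT hconj hD.2.2 hP hconn hS
  obtain ⟨e, he, hxe⟩ := exists_not_commute hD hP.2.1 hx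
  have hcardN : ∀ u ∈ D, ∀ v ∈ D,
      {z | z ∈ D ∧ Commute u z}.ncard = {z | z ∈ D ∧ Commute v z}.ncard := by
    intro u hu v hv
    obtain ⟨k, hk⟩ := isConj_iff.mp (tt_class_isConj hD hv hu)
    rw [← hk]
    exact ncard_eq_of_conj_sub (fun u _ => {z | z ∈ D ∧ Commute u z})
      (by
        rintro k u _ _ ⟨z, hz, rfl⟩
        exact ⟨hconj k z hz.1, (Commute.conj_iff k).mpr hz.2⟩) k v v
  have hcardDp : ∀ u ∈ D, ∀ v ∈ D, (Dp D u).ncard = (Dp D v).ncard := by
    intro u hu v hv
    obtain ⟨k, hk⟩ := isConj_iff.mp (tt_class_isConj hD hv hu)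
    rw [← hk]
    exact ncard_eq_of_conj_sub (fun u _ => Dp D u)
      (by
        rintro k u _ _ ⟨z, hz, rfl⟩
        exact (mem_dp_conj_iff hconj k u z).mpr hz) k v v
  have hclosed : ∀ y ∈ D, y ≠ x → (∀ z ∈ D, Commute x z → Commute y z) → False := by
    intro y hy hyx hsub
    have heq : {z | z ∈ D ∧ Commute x z} = {z | z ∈ D ∧ Commute y z} :=
      Set.eq_of_subset_of_ncard_le (fun z hz => ⟨hz.1, hsub z hz.1 hz.2⟩)
        (hcardN y hy x hx).le (Set.toFinite _)
    have hyS : y ∈ {y | y ∈ D ∧ ∀ z ∈ D, Commute y z ↔ Commute x z} := by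
      refine ⟨hy, fun z hz => ⟨fun h => ?_, hsub z hz⟩⟩
      have hm : z ∈ {z | z ∈ D ∧ Commute y z} := ⟨hz, h⟩
      rw [← heq] at hm
      exact hm.2
    have hxS : x ∈ {y | y ∈ D ∧ ∀ z ∈ D, Commute y z ↔ Commute x z} :=
      ⟨hx, fun z _ => Iff.rfl⟩
    rcases hmod _ (isCMod_closed_twins x) with h | h
    · exact hyx (h hyS hxS)
    · have hm : e ∈ {y | y ∈ D ∧ ∀ z ∈ D, Commute y z ↔ Commute x z} := by
        rw [h]
        exact he
      exact hxe ((hm.2 e he).mp (Commute.refl e))
  have hopen : ∀ y ∈ D, y ≠ x → ¬ Commute x y → (∀ z ∈ Dp D x, Commute y z) → False := by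
    intro y hy hyx hnc hsub
    have heq : Dp D x = Dp D y :=
      Set.eq_of_subset_of_ncard_le
        (fun z hz => ⟨hz.1, fun h => hnc (h ▸ hz.2.2), hsub z hz⟩)
        (hcardDp y hy x hx).le (Set.toFinite _)
    have hyS : y ∈ {y | y ∈ D ∧ Dp D y = Dp D x} := ⟨hy, heq.symm⟩
    have hxS : x ∈ {y | y ∈ D ∧ Dp D y = Dp D x} := ⟨hx, rfl⟩
    rcases hmod _ (isCMod_twins x) with h | h
    · exact hyx (h hyS hxS)
    · have hm : a ∈ {y | y ∈ D ∧ Dp D y = Dp D x} := by
        rw [h]
        exact ha.1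
      have ha' : a ∈ Dp D a := by
        rw [hm.2]
        exact ha
      exact ha'.2.1 rfl
  have hboth : ∀ y ∈ D, y ≠ x → (∀ z ∈ Dp D x, Commute y z) → False := by
    intro y hy hyx hsub
    by_cases hc : Commute x y
    · apply hclosed y hy hyx
      intro z hz hxz
      by_cases hzx : z = x
      · rw [hzx]
        exact hc.symm
      · exact hsub z ⟨hz, hzx, hxz⟩
    · exact hopen y hy hyx hc hsub
  have hL := lc_cross hD hP hx ha hb hab
  have hxa : x ∈ Dp D a := ⟨hx, Ne.symm ha.2.1, ha.2.2.symm⟩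
  have hX : ∀ x', LC D a x x' → ∀ c ∈ Dp D x, Commute x' c := by
    intro x' hx' c hc
    by_cases hac : LC D x a c
    · have hbc : ¬ LC D x b c := fun h => hab (lc_trans hac (lc_symm h))
      have hL' := lc_cross hD hP hx hb hc hbc
      have hm : x' ∈ {z | LC D b x z} := by
        rw [← hL.2]
        exact hx'
      exact hL'.1 x' c hm (lc_refl x c)
    · exact (lc_cross hD hP hx ha hc hac).1 x' c hx' (lc_refl x c)
  by_cases hex : ∃ x', LC D a x x' ∧ x' ≠ x
  · obtain ⟨x', hx', hne⟩ := hex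
    exact hboth x' (lc_mem_dp hconj hxa hx').1 hne (hX x' hx')
  · push Not at hex
    have h1 : {z | LC D a x z} = {x} := by
      ext z
      constructor
      · intro h
        exact hex z h
      · intro h
        rw [Set.mem_singleton_iff] at h
        rw [h]
        exact lc_refl a x
    have hcard := lc_ncard_eq hD hP ha.1 hxa hx ha
    rw [h1, Set.ncard_singleton] at hcard
    obtain ⟨a', ha'⟩ := Set.ncard_eq_one.mp hcard
    have h2 : ∀ z, LC D x a z → z = a := by
      intro z hz
      have hz' : z ∈ ({a'} : Set G) := by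
        rw [← ha']
        exact hz
      have haa : a ∈ ({a'} : Set G) := by
        rw [← ha']
        exact lc_refl x a
      rw [Set.mem_singleton_iff] at hz' haa
      rw [hz', haa]
    apply hclosed a ha.1 ha.2.1
    intro z hz hxz
    by_cases hzx : z = x
    · rw [hzx]
      exact ha.2.2.symm
    · by_cases hza : z = a
      · rw [hza]
      · have hzD : z ∈ Dp D x := ⟨hz, hzx, hxz⟩
        have hnot : ¬ LC D x a z := fun h => hza (h2 z h)
        exact commute_of_not_lc hTT hconj ha hzD hnot (lc_refl x a) (lc_refl x z)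

end loc

end Cfsg.Agent.Lib.helper91
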