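import Cfsg.Agent.Lib.helper91.TTRank3

/-!
# Primitivity from the absence of solvable normal subgroups

A finite group generated by a class `D` of 3-transpositions, without non-trivial solvable normal
subgroups and with perfect commutator subgroup, acts primitively on `D`, and `D` contains two
different commuting members.
-/

set_option autoImplicit false

namespace Cfsg.Agent.Lib.helper91

open Subgroup

universe u

section perf

variable {G : Type u} [Group G] {D : Set G}

/-- A finite group generated by a conjugation-invariant width-one set is solvable. -/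
theorem isSolvable_of_isW1 [Finite G] (hD : IsW1 D) (hconj : ∀ g : G, ∀ x ∈ D, g * x * g⁻¹ ∈ D)
    (hgen : closure D = ⊤) : Group.IsSolvable G := by
  have : Fact (Nat.Prime 3) := ⟨Nat.prime_three⟩
  have hTn : (Cfsg.pCore 3 G).Normal := pCore_normal'' 3 G
  have hTs : Group.IsSolvable (Cfsg.pCore 3 G) := by
    have := (pCore_isPGroup' 3 G).isNilpotent
    infer_instance
  have hQs : Group.IsSolvable (G ⧸ Cfsg.pCore 3 G) := by
    apply Group.isSolvable_of_comm
    have hcl : closure ((QuotientGroup.mk' (Cfsg.pCore 3 G)) '' D) = ⊤ := by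
      rw [← MonoidHom.map_closure, hgen, ← MonoidHom.range_eq_map]
      exact MonoidHom.range_eq_top.mpr (QuotientGroup.mk'_surjective _)
    have hX : ∀ x ∈ (QuotientGroup.mk' (Cfsg.pCore 3 G)) '' D,
        ∀ y ∈ (QuotientGroup.mk' (Cfsg.pCore 3 G)) '' D, x * y = y * x := by
      rintro _ ⟨x, hx, rfl⟩ _ ⟨y, hy, rfl⟩
      have hxy : x * y ∈ Cfsg.pCore 3 G := mul_mem_pCore_three_of_isW1 hD hconj hx hy
      have hyx : y * x ∈ Cfsg.pCore 3 G := mul_mem_pCore_three_of_isW1 hD hconj hy hx
      have h1 : (QuotientGroup.mk' (Cfsg.pCore 3 G)) (x * y) = 1 :=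
        (QuotientGroup.eq_one_iff _).mpr hxy
      have h2 : (QuotientGroup.mk' (Cfsg.pCore 3 G)) (y * x) = 1 :=
        (QuotientGroup.eq_one_iff _).mpr hyx
      rw [← map_mul, ← map_mul, h1, h2]
    intro a b
    exact closure_comm_of_comm hX a (by rw [hcl]; exact mem_top a) b (by rw [hcl]; exact mem_top b)
  exact Group.isSolvable_of_ker_le_range (Cfsg.pCore 3 G).subtype
    (QuotientGroup.mk' (Cfsg.pCore 3 G)) (by simp)

/-- A finite group generated by a class of 3-transpositions, without non-trivial solvable normal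
subgroups and with perfect commutator subgroup, is primitive on the class, and two different
members of the class commute. -/
theorem tt_primitive_of_no_solvable_normal [Finite G] (hD : Cfsg.IsThreeTranspositionClass D)
    (hsol : ∀ N : Subgroup G, N.Normal → Group.IsSolvable ↥N → N = ⊥)
    (hperf : ⁅commutator G, commutator G⁆ = commutator G) :
    Cfsg.IsPrimitiveUnderConj D ∧ ∃ a ∈ D, ∃ b ∈ D, a ≠ b ∧ Commute a b := by
  have hTT := hD.1
  have hconj : ∀ g : G, ∀ x ∈ D, g * x * g⁻¹ ∈ D := fun g x hx => tt_class_conj_mem hD g hx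
  have hZ : center G = ⊥ := by
    apply hsol _ inferInstance
    apply Group.isSolvable_of_comm
    rintro ⟨a, ha⟩ ⟨b, hb⟩
    apply Subtype.ext
    rw [mem_center_iff] at ha
    exact (ha b).symm
  have hp : ∀ (p : ℕ) [Fact p.Prime], Cfsg.pCore p G = ⊥ := by
    intro p _
    apply hsol _ (pCore_normal'' p G)
    have := (pCore_isPGroup' p G).isNilpotent
    infer_instance
  have h2 : Cfsg.pCore 2 G = ⊥ := by
    have : Fact (Nat.Prime 2) := ⟨Nat.prime_two⟩
    exact hp 2
  have h3 : Cfsg.pCore 3 G = ⊥ := by
    have : Fact (Nat.Prime 3) := ⟨Nat.prime_three⟩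
    exact hp 3
  have h2' : Cfsg.pCore 2 G ≤ center G := by rw [h2]; exact bot_le
  have h3' : Cfsg.pCore 3 G ≤ center G := by rw [h3]; exact bot_le
  obtain ⟨d, hd, -⟩ := hD.2.1
  have hD2 : ∃ a ∈ D, ∃ b ∈ D, a ≠ b := by
    by_contra hcon
    push Not at hcon
    have hdc : d ∈ center G := by
      rw [mem_center_iff]
      intro g
      have := hcon _ (hconj g d hd) d hd
      calc g * d = g * d * g⁻¹ * g := by group
        _ = d * g := by rw [this]
    rw [hZ, mem_bot] at hdc
    exact tt_ne_one hTT hd hdc
  obtain ⟨K, hK, hKn, hF⟩ := tt_exists_component_data hD hD2 h2' h3'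
  have hmulc : ∀ x ∈ D, ∀ y ∈ D, x * y ∈ commutator G := by
    intro x hx y hy
    obtain ⟨g, hg⟩ := isConj_iff.mp (tt_class_isConj hD hx hy)
    have h1 := commutator_mem_commutator (mem_top x) (mem_top g)
    rw [commutatorElement_def, ← commutator_def] at h1
    have heq : x * y = x * g * x⁻¹ * g⁻¹ := by
      rw [← hg, tt_inv hTT hx]
      group
    rw [heq]
    exact h1
  have hle : commutator G ≤ K := by
    by_cases hdK : d ∈ K
    · have : K = ⊤ := by
        rw [eq_top_iff, ← hD.2.2, closure_le]
        intro x hx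
        obtain ⟨g, hg⟩ := isConj_iff.mp (tt_class_isConj hD hd hx)
        rw [← hg]
        exact hKn.conj_mem d hdK g
      rw [this]
      exact le_top
    · have hnK : ∀ x ∈ D, x ∉ K := by
        intro x hx hxK
        obtain ⟨g, hg⟩ := isConj_iff.mp (tt_class_isConj hD hx hd)
        apply hdK
        rw [← hg]
        exact hKn.conj_mem x hxK g
      obtain ⟨f, hf⟩ : ∃ f : G →* G ⧸ K, f = QuotientGroup.mk' K := ⟨_, rfl⟩
      have hfs : Function.Surjective f := by
        rw [hf]
        exact QuotientGroup.mk'_surjective K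
      have hker : ∀ x : G, f x = 1 ↔ x ∈ K := by
        intro x
        rw [hf]
        exact QuotientGroup.eq_one_iff x
      have hTT' : Cfsg.IsThreeTranspositionSet (f '' D) := by
        constructor
        · rintro _ ⟨x, hx, rfl⟩
          have : Fact (Nat.Prime 2) := ⟨Nat.prime_two⟩
          apply orderOf_eq_prime
          · rw [← map_pow, pow_two, tt_sq hTT hx, map_one]
          · intro h
            exact hnK x hx ((hker x).mp h)
        · rintro _ ⟨x, hx, rfl⟩ _ ⟨y, hy, rfl⟩
          rcases hTT.2 x hx y hy with h | h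
          · left
            rw [← map_mul, ← map_pow, h, map_one]
          · right
            rw [← map_mul, ← map_pow, h, map_one]
      have hconj' : ∀ q : G ⧸ K, ∀ x ∈ f '' D, q * x * q⁻¹ ∈ f '' D := by
        rintro q _ ⟨x, hx, rfl⟩
        obtain ⟨g, rfl⟩ := hfs q
        exact ⟨g * x * g⁻¹, hconj g x hx, by simp⟩
      have hW : IsW1 (f '' D) := by
        apply isW1_of_tt hTT'
        · rintro _ ⟨x, hx, rfl⟩ _ ⟨y, hy, rfl⟩
          refine ⟨x * y * x, ?_, by simp⟩
          have := hconj x y hy
          rwa [tt_inv hTT hx] at this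
        · rintro _ ⟨x, hx, rfl⟩ _ ⟨y, hy, rfl⟩ hc
          have h1 : f (x * y * x⁻¹ * y⁻¹) = 1 := by
            have := hc.eq
            simp only [map_mul, map_inv]
            rw [this]
            group
          have h2 := tt_mul_mem_component hD hK hKn hx hy ((hker _).mp h1)
          have h3 : f (x⁻¹ * y) = 1 := (hker _).mpr h2
          rw [map_mul, map_inv] at h3
          exact inv_mul_eq_one.mp h3
      have hgen' : closure (f '' D) = ⊤ := by
        rw [← MonoidHom.map_closure, hD.2.2, ← MonoidHom.range_eq_map]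
        exact MonoidHom.range_eq_top.mpr hfs
      have hQs : Group.IsSolvable (G ⧸ K) := isSolvable_of_isW1 hW hconj' hgen'
      obtain ⟨n, hn⟩ := hQs.solvable
      have h1 : ∀ m : ℕ, commutator G ≤ derivedSeries G m := by
        intro m
        induction m with
        | zero => rw [derivedSeries_zero]; exact le_top
        | succ m ih =>
          rw [derivedSeries_succ, ← hperf]
          exact commutator_mono ih ih
      intro x hx
      have h2 : f x ∈ (derivedSeries G n).map f := Subgroup.mem_map_of_mem f (h1 n hx)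
      have h3 := map_derivedSeries_le_derivedSeries f n h2
      rw [hn, mem_bot] at h3
      exact (hker x).mp h3
  have hidx : K.index ≤ 2 := by
    apply tt_index_le_two_of_forall hTT hD.2.2 hKn hd
    intro x hx
    rw [tt_inv hTT hd]
    exact hle (hmulc d hd x hx)
  have hP := tt_primitive_of_index_le_two hD hD2 h2' h3' hK hKn hF hidx
  refine ⟨hP, ?_⟩
  by_contra hw
  push Not at hw
  have hW : IsW1 D := isW1_of_tt hTT
    (fun x hx y hy => by have h := hconj x y hy; rwa [tt_inv hTT hx] at h)
    (fun x hx y hy hxy => by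
      by_contra hne
      exact hw x hx y hy hne hxy)
  obtain ⟨a, ha, b, hb, hab⟩ := hD2
  have hmem : a * b ∈ Cfsg.pCore 3 G := mul_mem_pCore_three_of_isW1 hW hconj ha hb
  rw [h3, mem_bot] at hmem
  apply hab
  have := eq_inv_of_mul_eq_one_left hmem
  rw [this, tt_inv hTT hb]

end perf

end Cfsg.Agent.Lib.helper91
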