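import Cfsg.Agent.Lib.helper91.TTPerf

/-!
# Largest commuting subsets of a class of 3-transpositions

The members of a class `D` of 3-transpositions lying in a 2-subgroup commute; hence a commuting
subset `E` of `D` of the largest possible size is `D ∩ T` for every 2-subgroup `T` containing it,
and two such subsets inside a subgroup `C` are conjugate under `C` by Sylow's theorem.
-/

set_option autoImplicit false

namespace Cfsg.Agent.Lib.helper91

open Subgroup

universe u

section sylow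

variable {G : Type u} [Group G] {D : Set G}

/-- Two members of `D` in a 2-subgroup commute. -/
theorem tt_commute_of_mem_two_group (hTT : Cfsg.IsThreeTranspositionSet D) {H : Subgroup G}
    (hH : IsPGroup 2 H) {d e : G} (hd : d ∈ D) (he : e ∈ D) (hdH : d ∈ H) (heH : e ∈ H) :
    Commute d e := by
  rcases hTT.2 d hd e he with h | h
  · exact tt_commute_of_sq hTT hd he h
  · have h1 : d * e = 1 :=
      eq_one_of_mem_pGroup_of_pow_coprime hH (mul_mem hdH heH) h (by norm_num)
    have h2 : d = e⁻¹ := eq_inv_of_mul_eq_one_left h1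
    rw [h2, tt_inv hTT he]

/-- The closure of a set of pairwise commuting involutions is a 2-group. -/
theorem isPGroup_two_closure_of_commute {E : Set G} (hinv : ∀ a ∈ E, a * a = 1)
    (hc : ∀ a ∈ E, ∀ b ∈ E, Commute a b) : IsPGroup 2 (closure E) := by
  have hcomm := closure_comm_of_comm (X := E) (fun a ha b hb => (hc a ha b hb).eq)
  have key : ∀ x ∈ closure E, x * x = 1 := by
    intro x hx
    induction hx using closure_induction with
    | mem x hx => exact hinv x hx
    | one => simp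
    | mul x y hx hy ihx ihy =>
      calc x * y * (x * y) = x * y * (y * x) := by rw [hcomm x hx y hy]
        _ = x * (y * y) * x := by group
        _ = 1 := by rw [ihy, mul_one, ihx]
    | inv x hx ihx =>
      have : x⁻¹ * x⁻¹ = (x * x)⁻¹ := by group
      rw [this, ihx, inv_one]
  intro g
  refine ⟨1, ?_⟩
  apply Subtype.ext
  have := key g g.2
  simpa [pow_two] using this

/-- A commuting subset of `D` of the largest possible size consists of all members of `D` in any
2-subgroup containing it. -/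
theorem tt_max_commuting_eq [Finite G] (hTT : Cfsg.IsThreeTranspositionSet D) {E : Set G}
    (hE : E ⊆ D)
    (hmax : ∀ E'' : Set G, E'' ⊆ D → (∀ a ∈ E'', ∀ b ∈ E'', Commute a b) → E''.ncard ≤ E.ncard)
    {T : Subgroup G} (hT : IsPGroup 2 T) (hET : E ⊆ T) : E = {x | x ∈ D ∧ x ∈ T} := by
  have hsub : E ⊆ {x | x ∈ D ∧ x ∈ T} := fun x hx => ⟨hE hx, hET hx⟩
  have hc' : ∀ a ∈ {x | x ∈ D ∧ x ∈ T}, ∀ b ∈ {x | x ∈ D ∧ x ∈ T}, Commute a b :=
    fun a ha b hb => tt_commute_of_mem_two_group hTT hT ha.1 hb.1 ha.2 hb.2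
  have hle := hmax _ (fun x hx => hx.1) hc'
  exact Set.eq_of_subset_of_ncard_le hsub hle (Set.toFinite _)

/-- Two commuting subsets of `D` of the largest possible size inside a subgroup `C` are conjugate
under `C`. -/
theorem tt_max_commuting_conj [Finite G] (hTT : Cfsg.IsThreeTranspositionSet D)
    (hconj : ∀ g : G, ∀ x ∈ D, g * x * g⁻¹ ∈ D) {E E' : Set G} (hE : E ⊆ D)
    (hEc : ∀ a ∈ E, ∀ b ∈ E, Commute a b)
    (hmax : ∀ E'' : Set G, E'' ⊆ D → (∀ a ∈ E'', ∀ b ∈ E'', Commute a b) → E''.ncard ≤ E.ncard)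
    (hE' : E' ⊆ D) (hE'c : ∀ a ∈ E', ∀ b ∈ E', Commute a b) (hcard : E.ncard ≤ E'.ncard)
    (C : Subgroup G) (hEC : E ⊆ C) (hE'C : E' ⊆ C) :
    ∃ h ∈ C, (fun x => h * x * h⁻¹) '' E' = E := by
  have : Fact (Nat.Prime 2) := ⟨Nat.prime_two⟩
  have hA : IsPGroup 2 ((closure E).subgroupOf C) :=
    (isPGroup_two_closure_of_commute (fun a ha => tt_sq hTT (hE ha)) hEc).comap_subtype
  have hB : IsPGroup 2 ((closure E').subgroupOf C) :=
    (isPGroup_two_closure_of_commute (fun a ha => tt_sq hTT (hE' ha)) hE'c).comap_subtype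
  obtain ⟨P, hAP⟩ := hA.exists_le_sylow
  obtain ⟨P', hBP'⟩ := hB.exists_le_sylow
  obtain ⟨h, hh⟩ := MulAction.exists_smul_eq C P' P
  obtain ⟨T, hT⟩ : ∃ T : Subgroup G, T = (P : Subgroup C).map C.subtype := ⟨_, rfl⟩
  have hTp : IsPGroup 2 T := by
    rw [hT]
    exact P.isPGroup'.map C.subtype
  have hET : E ⊆ T := by
    intro x hx
    rw [hT]
    exact ⟨⟨x, hEC hx⟩, hAP (mem_subgroupOf.mpr (subset_closure hx)), rfl⟩
  have hE'T : ∀ x ∈ E', (h : G) * x * (h : G)⁻¹ ∈ T := by
    intro x hx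
    have h1 : (⟨x, hE'C hx⟩ : C) ∈ (P' : Subgroup C) :=
      hBP' (mem_subgroupOf.mpr (subset_closure hx))
    have h2 : h * ⟨x, hE'C hx⟩ * h⁻¹ ∈ (P : Subgroup C) := by
      rw [← hh, Sylow.coe_subgroup_smul]
      exact Subgroup.smul_mem_pointwise_smul _ _ _ h1
    rw [hT]
    exact ⟨_, h2, rfl⟩
  have heq := tt_max_commuting_eq hTT hE hmax hTp hET
  refine ⟨h, h.2, ?_⟩
  have hsub : (fun x => (h : G) * x * (h : G)⁻¹) '' E' ⊆ E := by
    rintro _ ⟨x, hx, rfl⟩
    rw [heq]
    exact ⟨hconj _ x (hE' hx), hE'T x hx⟩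
  have hcard' : E.ncard ≤ ((fun x => (h : G) * x * (h : G)⁻¹) '' E').ncard := by
    rw [Set.ncard_image_of_injective _ (cj_injective (h : G))]
    exact hcard
  exact Set.eq_of_subset_of_ncard_le hsub hcard' (Set.toFinite _)

end sylow

end Cfsg.Agent.Lib.helper91
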